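import Cfsg.Agent.Lib.FixedFree.BaseChange
import Cfsg.Agent.Lib.PLength.ConjRep
import Cfsg.Agent.Lib.StructC.BurnsideBasis

/-!
# The representation on the Frattini quotient of a normal `q`-subgroup
-/

set_option autoImplicit false

namespace CfsgLib.FixedFree

open Subgroup CfsgLib.HallHigman CfsgLib.PLength
open scoped commutatorElement

universe u v

theorem natCast_ne_zero_of_coprime (K : Type v) [Field K] {q n : ℕ} [CharP K q] (hq : q.Prime)
    (h : n.Coprime q) : (n : K) ≠ 0 := fun e =>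
  hq.coprime_iff_not_dvd.1 h.symm ((CharP.cast_eq_zero_iff K q n).1 e)

variable {G : Type u} [Group G]

/-- The Frattini subgroup of a subgroup, in the ambient group. -/
def frattiniIn (Q : Subgroup G) : Subgroup G := (frattini Q).map Q.subtype

theorem frattiniIn_le (Q : Subgroup G) : frattiniIn Q ≤ Q := Subgroup.map_subtype_le _

instance frattiniIn_normal (Q : Subgroup G) [Q.Normal] : (frattiniIn Q).Normal :=
  inferInstanceAs (((frattini Q).map Q.subtype).Normal)

theorem frattiniIn_ne [Finite G] {Q : Subgroup G} (hQ : Q ≠ ⊥) : frattiniIn Q ≠ Q := by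
  intro e
  have : Nontrivial Q := (Subgroup.nontrivial_iff_ne_bot Q).2 hQ
  have h1 : frattini Q = ⊤ := Subgroup.map_injective Q.subtype_injective
    (by rw [← MonoidHom.range_eq_map, Q.range_subtype]; exact e)
  obtain ⟨M, hM, -⟩ := (eq_top_or_exists_le_coatom (⊥ : Subgroup Q)).resolve_left bot_ne_top
  exact hM.1 (top_le_iff.1 (h1 ▸ (frattini_le_coatom hM)))

section Quot

variable [Finite G] {q : ℕ} [Fact q.Prime] {Q : Subgroup G} [Q.Normal]

theorem elemNormal_modFrattini (hQ : IsPGroup q Q) :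
    ElemNormal q (Q.map (QuotientGroup.mk' (frattiniIn Q))) where
  normal := Subgroup.Normal.map inferInstance _ (QuotientGroup.mk'_surjective _)
  comm := by
    rintro _ ⟨a, ha, rfl⟩ _ ⟨b, hb, rfl⟩
    rw [← map_mul, ← map_mul]
    refine QuotientGroup.eq.2 ?_
    have h : ((⟨b, hb⟩ : Q)⁻¹ * (⟨a, ha⟩ : Q)⁻¹ * ⟨b, hb⟩ * ⟨a, ha⟩) ∈ frattini Q :=
      CfsgLib.StructC.comm_mem_frattini hQ _ _
    refine ⟨_, h, ?_⟩
    simp [mul_assoc]
  exponent := by
    rintro _ ⟨a, ha, rfl⟩
    rw [← map_pow]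
    exact (QuotientGroup.eq_one_iff _).2 ⟨_, CfsgLib.StructC.pow_mem_frattini hQ ⟨a, ha⟩, by simp⟩

/-- Conjugation on the Frattini quotient. -/
noncomputable def modRep (hQ : IsPGroup q Q) :
    Representation (ZMod q) G (elemNormal_modFrattini hQ).Space :=
  (elemNormal_modFrattini hQ).conjRep.comp (QuotientGroup.mk' (frattiniIn Q))

/-- The class of an element of `Q` in the Frattini quotient. -/
noncomputable def modVec (hQ : IsPGroup q Q) (u : G) (hu : u ∈ Q) :
    (elemNormal_modFrattini hQ).Space :=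
  (elemNormal_modFrattini hQ).vec ⟨_, Subgroup.mem_map_of_mem _ hu⟩

theorem exists_modVec (hQ : IsPGroup q Q) (x : (elemNormal_modFrattini hQ).Space) :
    ∃ (u : G) (hu : u ∈ Q), modVec hQ u hu = x := by
  obtain ⟨⟨_, u, hu, rfl⟩, rfl⟩ := (elemNormal_modFrattini hQ).vec.surjective x
  exact ⟨u, hu, rfl⟩

theorem modVec_eq_zero (hQ : IsPGroup q Q) {u : G} (hu : u ∈ Q) :
    modVec hQ u hu = 0 ↔ u ∈ frattiniIn Q := by
  rw [modVec, ElemNormal.vec_eq_zero, ← Subtype.coe_inj]
  exact QuotientGroup.eq_one_iff u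

theorem modRep_fix_iff (hQ : IsPGroup q Q) (g : G) {u : G} (hu : u ∈ Q) :
    modRep hQ g (modVec hQ u hu) = modVec hQ u hu ↔ ⁅g, u⁆ ∈ frattiniIn Q := by
  rw [modRep, MonoidHom.comp_apply, modVec, ElemNormal.conjRep_vec,
    (elemNormal_modFrattini hQ).vec.apply_eq_iff_eq, Subtype.ext_iff,
    ← QuotientGroup.eq_one_iff (N := frattiniIn Q) ⁅g, u⁆, commutatorElement_def]
  simp only [QuotientGroup.mk'_apply, QuotientGroup.mk_mul, QuotientGroup.mk_inv]
  exact mul_inv_eq_one.symm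

theorem noFixed_modRep (hQ : IsPGroup q Q) {A : Subgroup G} (hcop : (Nat.card A).Coprime q)
    (hC : Q ⊓ centralizer (A : Set G) = ⊥) : NoFixed (modRep hQ) A := by
  intro x hx
  obtain ⟨u, hu, rfl⟩ := exists_modVec hQ x
  obtain ⟨k, hk⟩ := IsPGroup.iff_card.1 hQ
  have hAn : ∀ H : Subgroup G, H.Normal → A ≤ normalizer (H : Set G) := fun H hH => by
    rw [Subgroup.normalizer_eq_top]; exact le_top
  obtain ⟨n, hn, hc⟩ := Coprime.exists_mem_centralizer_of_coset (hAn Q inferInstance)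
    (hAn _ (frattiniIn_normal Q)) (frattiniIn_le Q) (hk ▸ hcop.pow_right k)
    (Or.inr (by
      have : Group.IsNilpotent (frattiniIn Q) := (hQ.to_le (frattiniIn_le Q)).isNilpotent
      infer_instance)) hu fun a ha => by
      have h1 := (frattiniIn_normal Q).conj_mem _ ((modRep_fix_iff hQ a hu).1 (hx a ha)) u⁻¹
      simp only [commutatorElement_def] at h1
      convert h1 using 1
      group
  rw [modVec_eq_zero]
  have h2 : u * n ∈ Q ⊓ centralizer (A : Set G) := ⟨mul_mem hu (frattiniIn_le Q hn), hc⟩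
  rw [hC, Subgroup.mem_bot] at h2
  rw [eq_inv_of_mul_eq_one_left h2]
  exact inv_mem hn

end Quot

/-- `[R, A] = R` for a coprime fixed-point-free action. -/
theorem commutator_eq_of_fpf [Finite G] {A R : Subgroup G} (hn : A ≤ normalizer (R : Set G))
    (hcop : (Nat.card A).Coprime (Nat.card R)) (hsol : Group.IsSolvable R)
    (hC : R ⊓ centralizer (A : Set G) = ⊥) : ⁅R, A⁆ = R := by
  have h := Coprime.commutator_sup_centralizer hn hcop (Or.inr hsol)
  rwa [hC, sup_bot_eq] at h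

/-- In a representation without fixed vectors of `A`, where `R` acts through an abelian quotient,
`R` fixes the vectors fixed by `a` and `[R, a]`. -/
theorem fix_of_fix_commutator {K : Type v} [Field K] [IsAlgClosed K] {V : Type*} [AddCommGroup V]
    [Module K V] [FiniteDimensional K V] [Finite G] (ρ : Representation K G V) {A R : Subgroup G}
    {a : G} (haA : a ∈ A)
    (hsub : ∀ B ≤ A, B ≠ ⊥ → B ≠ A → (Nat.card B).Prime) (ha1 : a ≠ 1)
    (hn : A ≤ normalizer (R : Set G)) (hRA : ⁅R, A⁆ = R) (hfix : NoFixed ρ A)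
    (hAK : (Nat.card A : K) ≠ 0) (hRK : ∀ s ∈ R, (orderOf s : K) ≠ 0)
    (hRc : ∀ x ∈ R, ∀ y ∈ R, ρ (x * y) = ρ (y * x)) {v : V} (hva : ρ a v = v)
    (hvc : ∀ s ∈ R, ρ ⁅s, a⁆ v = v) {t : G} (ht : t ∈ R) : ρ t v = v := by
  let M : Submodule K V :=
    { carrier := {w | ρ a w = w ∧ ∀ s ∈ R, ρ ⁅s, a⁆ w = w}
      zero_mem' := ⟨map_zero _, fun s _ => map_zero _⟩
      add_mem' := fun {x y} hx hy =>
        ⟨by rw [map_add, hx.1, hy.1], fun s hs => by rw [map_add, hx.2 s hs, hy.2 s hs]⟩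
      smul_mem' := fun c {x} hx =>
        ⟨by rw [map_smul, hx.1], fun s hs => by rw [map_smul, hx.2 s hs]⟩ }
  have hcomm : ∀ s ∈ R, ⁅s, a⁆ ∈ R := fun s hs =>
    hRA.le (commutator_mem_commutator hs haA)
  have hinv : ∀ z ∈ R, ∀ w ∈ M, ρ z w ∈ M := by
    intro z hz w hw
    have h2 : ∀ s ∈ R, ρ ⁅s, a⁆ (ρ z w) = ρ z w := fun s hs => by
      rw [← rep_self_mul_apply, hRc _ (hcomm s hs) z hz, rep_self_mul_apply, hw.2 s hs]
    refine ⟨?_, h2⟩
    have h3 := h2 z⁻¹ (inv_mem hz)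
    have e1 : ρ (a * z) w = ρ z (ρ (⁅z⁻¹, a⁆) (ρ a w)) := by
      rw [← rep_self_mul_apply, ← rep_self_mul_apply, commutatorElement_def]
      group
    rw [← rep_self_mul_apply, e1, hw.1, hw.2 _ (inv_mem hz)]
  refine fix_of_weights ρ R hinv (fun x hx y hy w _ => by rw [hRc x hx y hy]) ht (hRK t ht)
    (fun w χ hwM hw0 hwχ => ?_) v ⟨hva, hvc⟩
  have hast : a ∈ charStabilizer R χ := by
    refine ⟨hn haA, fun z hz => smul_left_injective K hw0 ?_⟩
    show χ (a⁻¹ * z * a) • w = χ z • w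
    rw [← hwχ _ (inv_conj_mem_of_mem_normalizer (hn haA) hz), ← hwχ z hz, rep_self_mul_apply,
      hwM.1, rep_self_mul_apply, hwχ z hz, map_smul]
    conv_lhs => rw [← hwM.1, rep_inv_apply_self]
  by_cases hS : A ⊓ charStabilizer R χ = A
  · let F : Subgroup G :=
      { carrier := {g | ρ g w = w}
        one_mem' := by simp
        mul_mem' := fun {x y} hx hy => by
          show ρ (x * y) w = w
          rw [rep_self_mul_apply, show ρ y w = w from hy, show ρ x w = w from hx]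
        inv_mem' := fun {x} hx => by
          show ρ x⁻¹ w = w
          conv_lhs => rw [← show ρ x w = w from hx]
          exact rep_inv_apply_self ρ x w }
    have hF : ⁅R, A⁆ ≤ F := commutator_le.2 fun z hz c hc =>
      fix_commutator hwχ (hS.ge hc).2 hz
    exact hF (hRA.ge ht)
  · exfalso
    have hmem : a ∈ A ⊓ charStabilizer R χ := ⟨haA, hast⟩
    have hne : A ⊓ charStabilizer R χ ≠ ⊥ := fun e => ha1 (Subgroup.mem_bot.1 (e ▸ hmem))
    have heq := (eq_bot_or_eq_of_le_prime (hsub _ inf_le_left hne hS)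
      (Subgroup.zpowers_le.2 hmem)).resolve_left (fun e => ha1 (Subgroup.zpowers_eq_bot.1 e))
    refine hw0 (eq_zero_of_stab_fix hfix hn hwχ ?_ fun c hc => ?_)
    · obtain ⟨m, hm⟩ := Subgroup.card_dvd_of_le (inf_le_left : A ⊓ charStabilizer R χ ≤ A)
      intro e
      exact hAK (by rw [hm, Nat.cast_mul, e, zero_mul])
    · obtain ⟨i, rfl⟩ := mem_powers_iff_mem_zpowers.2 (heq.ge hc)
      induction i with
      | zero => simp
      | succ i ih =>
        show ρ (a ^ (i + 1)) w = w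
        rw [pow_succ', rep_self_mul_apply, ih (heq.le (pow_mem (mem_zpowers a) i)), hwM.1]

/-- If `R` acts on the `q`-group `Q` through an abelian quotient and `A` fixes nothing, then `R`
centralises what `a` and `[R, a]` centralise. -/
theorem centralize_of_fix [Finite G] {A R : Subgroup G} {a : G} {q : ℕ} [hq : Fact q.Prime]
    (haA : a ∈ A) (hsub : ∀ B ≤ A, B ≠ ⊥ → B ≠ A → (Nat.card B).Prime) (ha1 : a ≠ 1)
    (hn : A ≤ normalizer (R : Set G)) (hRA : ⁅R, A⁆ = R)
    (hcopA : (Nat.card A).Coprime q) (hcopR : (Nat.card R).Coprime q) (Q : Subgroup G) [Q.Normal]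
    (hQ : IsPGroup q Q) (hC : Q ⊓ centralizer (A : Set G) = ⊥)
    (hRR : ∀ x ∈ R, ∀ y ∈ R, ∀ u ∈ Q, Commute ⁅x, y⁆ u) {c : G} (hc : c ∈ Q)
    (hca : Commute a c) (hcc : ∀ s ∈ R, Commute ⁅s, a⁆ c) : ∀ s ∈ R, Commute s c := by
  induction hk : Nat.card Q using Nat.strong_induction_on generalizing Q c with
  | _ k ih =>
  subst hk
  by_cases hQb : Q = ⊥
  · intro s _
    rw [hQb, Subgroup.mem_bot] at hc
    rw [hc]; exact Commute.one_right s
  set Φ := frattiniIn Q with hΦ
  have hlt : Nat.card Φ < Nat.card Q := by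
    refine lt_of_le_of_ne (Nat.le_of_dvd Nat.card_pos (Subgroup.card_dvd_of_le (frattiniIn_le Q)))
      fun e => frattiniIn_ne hQb (Subgroup.eq_of_le_of_card_ge (frattiniIn_le Q) e.ge)
  let C : Subgroup G :=
    { carrier := {u | u ∈ Q ∧ Commute a u ∧ ∀ s ∈ R, Commute ⁅s, a⁆ u}
      one_mem' := ⟨one_mem Q, Commute.one_right a, fun s _ => Commute.one_right _⟩
      mul_mem' := fun {x y} hx hy => ⟨mul_mem hx.1 hy.1, hx.2.1.mul_right hy.2.1,
        fun s hs => (hx.2.2 s hs).mul_right (hy.2.2 s hs)⟩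
      inv_mem' := fun {x} hx => ⟨inv_mem hx.1, hx.2.1.inv_right, fun s hs => (hx.2.2 s hs).inv_right⟩ }
  have hcm : c ∈ C := ⟨hc, hca, hcc⟩
  have hΦC : ∀ u ∈ C, u ∈ Φ → ∀ s ∈ R, Commute s u := fun u hu huΦ =>
    ih _ hlt Φ (hQ.to_le (frattiniIn_le Q))
      (le_bot_iff.1 ((inf_le_inf_right _ (frattiniIn_le Q)).trans hC.le))
      (fun x hx y hy v hv => hRR x hx y hy v (frattiniIn_le Q hv)) huΦ hu.2.1 hu.2.2 rfl
  -- `R` normalises `C`
  have hRC : R ≤ normalizer (C : Set G) := by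
    intro t ht
    refine mem_normalizer_of_conj_mem fun u hu => ?_
    have hQt : t * u * t⁻¹ ∈ Q := (inferInstance : Q.Normal).conj_mem u hu.1 t
    have key : ∀ g ∈ R, Commute g u → Commute g (t * u * t⁻¹) := by
      intro g hg hgu
      have h1 : Commute ⁅g⁻¹, t⁻¹⁆ u := hRR _ (inv_mem hg) _ (inv_mem ht) u hu.1
      have h2 : Commute (g * ⁅g⁻¹, t⁻¹⁆) u := hgu.mul_left h1
      have h3 : g * ⁅g⁻¹, t⁻¹⁆ = t⁻¹ * g * t := by rw [commutatorElement_def]; group
      rw [h3] at h2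
      have h4 := h2.map (MulAut.conj t).toMonoidHom
      simpa [mul_assoc] using h4
    refine ⟨hQt, ?_, fun s hs => key _ (hRA.le (commutator_mem_commutator hs haA)) (hu.2.2 s hs)⟩
    have h1 : Commute (⁅t⁻¹, a⁆ * a) u := (hu.2.2 _ (inv_mem ht)).mul_left hu.2.1
    have h3 : ⁅t⁻¹, a⁆ * a = t⁻¹ * a * t := by rw [commutatorElement_def]; group
    rw [h3] at h1
    simpa [mul_assoc] using h1.map (MulAut.conj t).toMonoidHom
  -- the action on the Frattini quotient
  let K := AlgebraicClosure (ZMod q)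
  have hAK : (Nat.card A : K) ≠ 0 := natCast_ne_zero_of_coprime K hq.out hcopA
  have hfac : ∀ u ∈ C, ∀ s ∈ R, ⁅s, u⁆ ∈ Φ := by
    intro u hu s hs
    have hΦmem : ∀ g, Commute g u → ⁅g, u⁆ ∈ Φ := fun g hg => by
      rw [commutatorElement_eq_one_iff_commute.2 hg]; exact one_mem _
    have h := fix_of_fix_commutator (extend K (modRep hQ)) haA hsub ha1 hn hRA
      ((noFixed_modRep hQ hcopA hC).extend hAK) hAK
      (fun z hz => natCast_ne_zero_of_coprime K hq.out
        (hcopR.coprime_dvd_left (Subgroup.orderOf_dvd_natCard R hz)))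
      (fun x hx y hy => (extend_eq_iff K _ _ _).2 (by
        refine LinearMap.ext fun w => ?_
        obtain ⟨v, hv, rfl⟩ := exists_modVec hQ w
        have h1 : modRep hQ ⁅x, y⁆ (modRep hQ (y * x) (modVec hQ v hv))
            = modRep hQ (y * x) (modVec hQ v hv) := by
          obtain ⟨v', hv', e⟩ := exists_modVec hQ (modRep hQ (y * x) (modVec hQ v hv))
          rw [← e, modRep_fix_iff, commutatorElement_eq_one_iff_commute.2 (hRR x hx y hy v' hv')]
          exact one_mem _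
        rw [← h1, ← rep_self_mul_apply, commutatorElement_def]
        group))
      (v := (1 : K) ⊗ₜ[ZMod q] modVec hQ u hu.1)
      (by rw [extend_tmul, (modRep_fix_iff hQ a hu.1).2 (hΦmem a hu.2.1)])
      (fun z hz => by rw [extend_tmul, (modRep_fix_iff hQ _ hu.1).2 (hΦmem _ (hu.2.2 z hz))]) hs
    rw [extend_tmul] at h
    exact (modRep_fix_iff hQ s hu.1).1 (one_tmul_injective (k := ZMod q) K h)
  -- coprime action on `C`
  have h1 : ⁅⁅C, R⁆, R⁆ = ⊥ := by
    refine commutator_eq_bot_iff_le_centralizer.2 ((commutator_le.2 fun u hu s hs => ?_) : _ ≤ centralizer (R : Set G))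
    have hmem : ⁅u, s⁆ ∈ C := (le_normalizer_iff_commutator_le_left.1 hRC) (commutator_mem_commutator hu hs)
    have hmemΦ : ⁅u, s⁆ ∈ Φ := by
      rw [← commutatorElement_inv]; exact inv_mem (hfac u hu s hs)
    exact mem_centralizer_iff.2 fun t ht => hΦC _ hmem hmemΦ t ht
  obtain ⟨j, hj⟩ := IsPGroup.iff_card.1 (hQ.to_le (show C ≤ Q from fun u hu => hu.1))
  have h2 := Coprime.commutator_eq_bot_of_commutator_commutator hRC (hj ▸ hcopR.pow_right j)
    (Or.inr (by
      have : Group.IsNilpotent C := (hQ.to_le (show C ≤ Q from fun u hu => hu.1)).isNilpotent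
      infer_instance)) h1
  exact fun s hs => (commutatorElement_eq_one_iff_commute.1
    (Subgroup.mem_bot.1 (h2 ▸ commutator_mem_commutator hcm hs))).symm

end CfsgLib.FixedFree
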