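import Cfsg.Agent.Lib.Solvable.Fitting
import Cfsg.Agent.Lib.Solvable.HallHigman
import Cfsg.Agent.Lib.FixedFree.Frattini

/-!
# Cores of normal subgroups in the ambient group
-/

set_option autoImplicit false

namespace CfsgLib.FixedFree

open Subgroup
open scoped commutatorElement

universe u

variable {X : Type u} [Group X]

/-- `O_p(H)`, in the ambient group. -/
def pCoreIn (p : ℕ) (H : Subgroup X) : Subgroup X := (Cfsg.pCore p H).map H.subtype

/-- The Fitting subgroup of `H`, in the ambient group. -/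
def fittingIn (H : Subgroup X) : Subgroup X := (Cfsg.fittingSubgroup H).map H.subtype

instance pCoreIn_normal (p : ℕ) (H : Subgroup X) [H.Normal] : (pCoreIn p H).Normal := by
  have := Solvable.pCore_characteristic p H
  exact Solvable.map_subtype_normal _

instance fittingIn_normal (H : Subgroup X) [H.Normal] : (fittingIn H).Normal := by
  have := Solvable.fittingSubgroup_characteristic H
  exact Solvable.map_subtype_normal _

theorem pCoreIn_le (p : ℕ) (H : Subgroup X) : pCoreIn p H ≤ H := Subgroup.map_subtype_le _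

theorem fittingIn_le (H : Subgroup X) : fittingIn H ≤ H := Subgroup.map_subtype_le _

variable [Finite X]

theorem pCoreIn_isPGroup (p : ℕ) (H : Subgroup X) : IsPGroup p (pCoreIn p H) :=
  (Solvable.pCore_isPGroup p).map _

theorem le_pCoreIn {p : ℕ} {N H : Subgroup X} [N.Normal] (hNH : N ≤ H) (hN : IsPGroup p N) :
    N ≤ pCoreIn p H := fun x hx =>
  ⟨⟨x, hNH hx⟩, Solvable.le_pCore (N := N.subgroupOf H) inferInstance
    (hN.of_equiv (subgroupOfEquivOfLe hNH).symm) hx, rfl⟩

theorem pCoreIn_le_fittingIn (p : ℕ) [Fact p.Prime] (H : Subgroup X) :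
    pCoreIn p H ≤ fittingIn H := Subgroup.map_mono (Solvable.pCore_le_fittingSubgroup p)

/-- A Sylow subgroup of `T` supplements a normal subgroup with `q`-group quotient. -/
theorem sylow_sup_eq {q : ℕ} [Fact q.Prime] {T N : Subgroup X} (hN : N ≤ T)
    (hn : T ≤ normalizer (N : Set X)) (hq : ∀ t ∈ T, ∃ k : ℕ, t ^ q ^ k ∈ N) (P : Sylow q T) :
    (P : Subgroup T).map T.subtype ⊔ N = T := by
  have : (N.subgroupOf T).Normal := normal_subgroupOf_of_le_normalizer hn
  have hQ : IsPGroup q (T ⧸ N.subgroupOf T) := by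
    intro y
    induction y using QuotientGroup.induction_on with
    | _ t =>
      obtain ⟨k, hk⟩ := hq t t.2
      exact ⟨k, (QuotientGroup.eq_one_iff (t ^ q ^ k)).2 hk⟩
  have htop : (P : Subgroup T).map (QuotientGroup.mk' (N.subgroupOf T)) = ⊤ := by
    rw [← Sylow.coe_mapSurjective (QuotientGroup.mk'_surjective (N.subgroupOf T))]
    exact ((P.mapSurjective (QuotientGroup.mk'_surjective _)).3 (hQ.to_subgroup ⊤) le_top).symm
  have h := congrArg (Subgroup.comap (QuotientGroup.mk' (N.subgroupOf T))) htop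
  rw [Subgroup.comap_map_eq, QuotientGroup.ker_mk', Subgroup.comap_top] at h
  replace h := congrArg (Subgroup.map T.subtype) h
  rwa [Subgroup.map_sup, subgroupOf_map_subtype, inf_eq_left.2 hN, ← MonoidHom.range_eq_map,
    Subgroup.range_subtype] at h

/-- A coprime group of operators trivial on the Frattini quotient is trivial. -/
theorem commutator_eq_bot_of_le_frattiniIn {p : ℕ} [Fact p.Prime] {P S : Subgroup X}
    (hP : IsPGroup p P) (hS : S ≤ normalizer (P : Set X)) (hcop : (Nat.card S).Coprime p)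
    (h : ∀ s ∈ S, ∀ u ∈ P, ⁅s, u⁆ ∈ frattiniIn P) : ⁅P, S⁆ = ⊥ := by
  obtain ⟨k, hk⟩ := IsPGroup.iff_card.1 hP
  have hsol : Group.IsSolvable P := by
    have := hP.isNilpotent
    infer_instance
  have hle : ⁅P, S⁆ ≤ frattiniIn P := commutator_le.2 fun u hu s hs => by
    rw [← commutatorElement_inv]; exact inv_mem (h s hs u hu)
  have hsup := Coprime.commutator_sup_centralizer hS (hk ▸ hcop.pow_right k) (Or.inr hsol)
  set C := P ⊓ centralizer (S : Set X) with hC
  have h1 : (C.subgroupOf P) ⊔ frattini P = ⊤ := by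
    refine Subgroup.map_injective P.subtype_injective ?_
    rw [Subgroup.map_sup, subgroupOf_map_subtype, inf_eq_left.2 (inf_le_left : C ≤ P),
      ← MonoidHom.range_eq_map, Subgroup.range_subtype]
    exact le_antisymm (sup_le inf_le_left (frattiniIn_le P))
      (hsup.ge.trans (sup_le (hle.trans le_sup_right) le_sup_left))
  have h2 := frattini_nongenerating h1
  rw [subgroupOf_eq_top] at h2
  exact commutator_eq_bot_iff_le_centralizer.2 (h2.trans inf_le_right)

/-- What lies in a normal subgroup that is a `q`-group modulo the Fitting subgroup and centralises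
all other cores lies in the Fitting subgroup. -/
theorem mem_fittingSubgroup_of_centralizes {G : Type u} [Group G] [Finite G] {q : ℕ}
    (hq : q.Prime) {T : Subgroup G} [T.Normal]
    (hT : ∀ t ∈ T, ∃ k : ℕ, t ^ q ^ k ∈ Cfsg.fittingSubgroup G) {c : G} (hc : c ∈ T)
    (hcent : ∀ p : Nat.Primes, (p : ℕ) ≠ q → ∀ u ∈ Cfsg.pCore (p : ℕ) G, Commute c u) :
    c ∈ Cfsg.fittingSubgroup G := by
  have := Fact.mk hq
  set M := ⨆ p : {p : Nat.Primes // (p : ℕ) ≠ q}, Cfsg.pCore ((p : Nat.Primes) : ℕ) G with hM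
  have hMn : M.Normal := by
    have : ∀ p : {p : Nat.Primes // (p : ℕ) ≠ q}, (Cfsg.pCore ((p : Nat.Primes) : ℕ) G).Normal :=
      fun p => Solvable.pCore_normal _ G
    exact Subgroup.iSup_normal _
  let C : Subgroup G := T ⊓ centralizer (M : Set G)
  have hcC : c ∈ C := ⟨hc, by
    show c ∈ centralizer (M : Set G)
    rw [← Subgroup.zpowers_le, Subgroup.le_centralizer_iff, hM, iSup_le_iff]
    intro p u hu
    refine mem_centralizer_iff.2 fun g hg => ?_
    obtain ⟨i, rfl⟩ := mem_zpowers_iff.1 hg
    exact ((hcent p p.2 u hu).zpow_left i).eq⟩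
  have hCn : C.Normal := inferInstance
  -- `C` is a `q`-group modulo its centre
  have hpow : ∀ g ∈ C, ∃ k : ℕ, g ^ q ^ k ∈ M := by
    intro g hg
    obtain ⟨k, hk⟩ := hT g hg.1
    have hle : Cfsg.fittingSubgroup G ≤ Cfsg.pCore q G ⊔ M := by
      rw [Solvable.fittingSubgroup_eq_iSup_pCore]
      refine iSup_le fun p => ?_
      by_cases hpq : (p : ℕ) = q
      · rw [hpq]; exact le_sup_left
      · exact le_sup_of_le_right (le_iSup_of_le ⟨p, hpq⟩ le_rfl)
    have := Solvable.pCore_normal q G
    obtain ⟨u, hu, m, hm, hum⟩ := Subgroup.mem_sup_of_normal_right.1 (hle hk)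
    obtain ⟨j, hj⟩ := IsPGroup.iff_orderOf.1 (Solvable.pCore_isPGroup q) (⟨u, hu⟩ : Cfsg.pCore q G)
    rw [Subgroup.orderOf_mk] at hj
    have hcomm : Commute u m := by
      have hg' : g ^ q ^ k ∈ centralizer (M : Set G) := (pow_mem hg (q ^ k)).2
      have h1 := (mem_centralizer_iff.1 hg' m hm).symm
      rw [← hum] at h1
      exact (mul_right_cancel (h1.trans (mul_assoc m u m).symm) : u * m = m * u)
    refine ⟨k + j, ?_⟩
    rw [pow_add, pow_mul, ← hum, hcomm.mul_pow, ← hj, pow_orderOf_eq_one, one_mul]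
    exact pow_mem hm _
  have hnil : Group.IsNilpotent C := by
    refine of_quotient_center_nilpotent (IsPGroup.isNilpotent (p := q) fun y => ?_)
    induction y using QuotientGroup.induction_on with
    | _ g =>
      obtain ⟨k, hk⟩ := hpow g g.2
      refine ⟨k, (QuotientGroup.eq_one_iff (g ^ q ^ k)).2 (Subgroup.mem_center_iff.2 fun h => Subtype.ext ?_)⟩
      exact (mem_centralizer_iff.1 h.2.2 _ hk).symm
  exact Solvable.le_fittingSubgroup hCn hnil hcC

end CfsgLib.FixedFree
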