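import Cfsg.Agent.Lib.FixedFree.Tower
import Mathlib.GroupTheory.SemidirectProduct

/-!
# Fixed-point-free groups of automorphisms, through the semidirect product
-/

set_option autoImplicit false

namespace CfsgLib.FixedFree

open Subgroup SemidirectProduct

universe u v

theorem prime_of_dvd_mul_primes {p q n : ℕ} (hp : p.Prime) (hq : q.Prime) (h : n ∣ p * q) (h1 : n ≠ 1)
    (h2 : n ≠ p * q) : n.Prime := by
  obtain ⟨a, b, ha, hb, rfl⟩ := Nat.dvd_mul.1 h
  rcases hp.eq_one_or_self_of_dvd a ha with rfl | rfl <;>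
    rcases hq.eq_one_or_self_of_dvd b hb with rfl | rfl
  · exact absurd rfl h1
  · rwa [one_mul]
  · rwa [mul_one]
  · exact absurd rfl h2

/-- A fixed-point-free `p`-group of automorphisms acts on a group of order prime to `p`. -/
theorem not_dvd_card_of_fpf {G : Type u} {A : Type v} [Group G] [Finite G] [Group A] [Finite A]
    (φ : A →* MulAut G) {p : ℕ} [Fact p.Prime] (hA : IsPGroup p A)
    (hfix : ∀ g : G, (∀ a, φ a g = g) → g = 1) : ¬ p ∣ Nat.card G := by
  intro hd
  letI : MulAction A G := MulAction.compHom G φ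
  obtain ⟨b, hb, hb1⟩ := hA.exists_fixed_point_of_prime_dvd_card_of_fixed_point G hd (a := (1 : G))
    fun a => map_one (φ a)
  exact hb1 (hfix b hb).symm

variable {G : Type u} {A : Type v} [Group G] [Group A] (φ : A →* MulAut G)

/-- The copy of `G` in the semidirect product. -/
abbrev inG : Subgroup (G ⋊[φ] A) := (inl : G →* G ⋊[φ] A).range

/-- The copy of `A` in the semidirect product. -/
abbrev inA : Subgroup (G ⋊[φ] A) := (inr : A →* G ⋊[φ] A).range

theorem card_inG : Nat.card (inG φ) = Nat.card G :=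
  (Nat.card_congr (MonoidHom.ofInjective inl_injective).toEquiv).symm

theorem card_inA : Nat.card (inA φ) = Nat.card A :=
  (Nat.card_congr (MonoidHom.ofInjective inr_injective).toEquiv).symm

variable [Finite G] [Finite A]

instance : Finite (G ⋊[φ] A) := Finite.of_equiv _ (equivProd (φ := φ)).symm

theorem fpfAction_of_fpf (hG : Group.IsSolvable G) (hcop : (Nat.card A).Coprime (Nat.card G))
    (hfix : ∀ g : G, (∀ a, φ a g = g) → g = 1) : FpfAction (inA φ) (inG φ) where
  normal := by
    show (inl : G →* G ⋊[φ] A).range.Normal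
    rw [range_inl_eq_ker_rightHom]; infer_instance
  solvable := Group.isSolvable_of_surjective (f := (inl : G →* G ⋊[φ] A).rangeRestrict)
    (MonoidHom.rangeRestrict_surjective _)
  coprime := by rwa [card_inA, card_inG]
  fix := eq_bot_iff.2 fun x hx => by
    obtain ⟨g, rfl⟩ := hx.1
    suffices h : g = 1 by rw [h, map_one]; exact one_mem _
    refine hfix g fun a => ?_
    have h1 := Subgroup.mem_centralizer_iff.1 hx.2 (inr a) ⟨a, rfl⟩
    refine inl_injective (φ := φ) ?_
    rw [inl_aut, h1, map_inv, mul_inv_cancel_right]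

/-- **Fitting height two** for groups of automorphisms whose proper subgroups have prime order. -/
theorem isNilpotent_quotient_fitting (hG : Group.IsSolvable G)
    (hcop : (Nat.card A).Coprime (Nat.card G)) (hfix : ∀ g : G, (∀ a, φ a g = g) → g = 1) {p q : ℕ}
    (hp : p.Prime) (hq : q.Prime) (hA : Nat.card A = p * q) :
    haveI := Solvable.fittingSubgroup_normal G
    Group.IsNilpotent (G ⧸ Cfsg.fittingSubgroup G) := by
  have := Solvable.fittingSubgroup_normal G
  have hfpf := fpfAction_of_fpf φ hG hcop hfix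
  have := hfpf.normal
  have h1 := hfpf.isNilpotent_quotient fun B hB hBb hBA => by
    refine prime_of_dvd_mul_primes hp hq ?_ (fun e => hBb (card_eq_one.1 e))
      fun e => hBA (eq_of_le_of_card_ge hB (by rw [card_inA, hA, e]))
    rw [← hA, ← card_inA φ]
    exact card_dvd_of_le hB
  let e : G ≃* inG φ := MonoidHom.ofInjective inl_injective
  let f : G →* ↥((inG φ).map (QuotientGroup.mk' (fittingIn (inG φ)))) :=
    ((QuotientGroup.mk' (fittingIn (inG φ))).subgroupMap (inG φ)).comp e.toMonoidHom
  have hker : f.ker ≤ Cfsg.fittingSubgroup G := fun g hg => by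
    have h2 : (QuotientGroup.mk' (fittingIn (inG φ))) (e g : G ⋊[φ] A) = 1 := congrArg Subtype.val hg
    obtain ⟨z, hz, hzg⟩ := (QuotientGroup.eq_one_iff _).1 h2
    rw [← Solvable.map_fittingSubgroup_equiv e] at hz
    obtain ⟨g', hg', rfl⟩ := hz
    obtain rfl : g' = g := e.injective (Subtype.ext hzg)
    exact hg'
  have hsurj : Function.Surjective f :=
    ((QuotientGroup.mk' _).subgroupMap_surjective (inG φ)).comp e.surjective
  have h3 : Group.IsNilpotent (G ⧸ f.ker) :=
    Group.isNilpotent_congr (QuotientGroup.quotientKerEquivOfSurjective f hsurj) |>.2 h1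
  exact Group.nilpotent_of_surjective (QuotientGroup.map f.ker (Cfsg.fittingSubgroup G) (MonoidHom.id G) hker)
    fun y => by
      obtain ⟨g, rfl⟩ := QuotientGroup.mk'_surjective _ y
      exact ⟨(g : G ⧸ f.ker), rfl⟩

/-- A nilpotent normal subgroup with nilpotent quotient gives a nilpotent series of length two. -/
theorem exists_series_two (h : haveI := Solvable.fittingSubgroup_normal G
      Group.IsNilpotent (G ⧸ Cfsg.fittingSubgroup G)) :
    ∃ F : Fin (2 + 1) → Subgroup G, F 0 = ⊥ ∧ F (Fin.last 2) = ⊤ ∧ Monotone F ∧ (∀ i, (F i).Normal) ∧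
      ∀ i : Fin 2, ∃ k : ℕ, (F i.succ).lowerCentralSeries k ≤ F i.castSucc := by
  have hn := Solvable.fittingSubgroup_normal G
  refine ⟨![⊥, Cfsg.fittingSubgroup G, ⊤], rfl, rfl, ?_, ?_, ?_⟩
  · refine Fin.monotone_iff_le_succ.2 fun i => ?_
    fin_cases i
    · exact bot_le
    · exact le_top
  · intro i
    fin_cases i
    · exact Subgroup.normal_bot
    · exact hn
    · exact Subgroup.normal_top
  · intro i
    fin_cases i
    · obtain ⟨k, hk⟩ := (isNilpotent_iff_lowerCentralSeries (Cfsg.fittingSubgroup G)).1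
        Solvable.fittingSubgroup_isNilpotent
      exact ⟨k, hk.le⟩
    · have := Group.isNilpotent_congr (Subgroup.topEquiv (G := G ⧸ Cfsg.fittingSubgroup G)) |>.2 h
      obtain ⟨k, hk⟩ := (isNilpotent_iff_lowerCentralSeries _).1 this
      refine ⟨k, ?_⟩
      show (⊤ : Subgroup G).lowerCentralSeries k ≤ Cfsg.fittingSubgroup G
      rw [← QuotientGroup.ker_mk' (Cfsg.fittingSubgroup G), ← Subgroup.map_eq_bot_iff,
        map_lowerCentralSeries, Subgroup.map_top_of_surjective _ (QuotientGroup.mk'_surjective _), hk]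

end CfsgLib.FixedFree
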