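import Mathlib.GroupTheory.GroupAction.Quotient
import Mathlib.GroupTheory.OrderOfElement
import Mathlib.NumberTheory.Multiplicity

/-!
# Counting for semiregular automorphisms and the order of `q` modulo a prime power
-/

set_option autoImplicit false

namespace CfsgLib.FixedFree

universe u v

/-- A group of automorphisms fixing only the identity, element by element, has order dividing
`|H| - 1`. -/
theorem card_dvd_of_free {A : Type u} {H : Type v} [Group A] [Group H] [Finite H] [Finite A]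
    (φ : A →* MulAut H) (h : ∀ a : A, a ≠ 1 → ∀ y : H, φ a y = y → y = 1) :
    Nat.card A ∣ Nat.card H - 1 := by
  classical
  let : MulAction A {y : H // y ≠ 1} :=
    { smul := fun a y => ⟨φ a y, fun e => y.2 ((φ a).injective (e.trans (map_one _).symm))⟩
      one_smul := fun y => Subtype.ext (by show φ 1 (y : H) = _; rw [map_one, MulAut.one_apply])
      mul_smul := fun a b y => Subtype.ext (by
        show φ (a * b) (y : H) = φ a (φ b y)
        rw [map_mul, MulAut.mul_apply]) }
  have hfree : ∀ y : {y : H // y ≠ 1}, MulAction.stabilizer A y = ⊥ := fun y =>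
    (Subgroup.eq_bot_iff_forall _).2 fun a ha => by
      by_contra ha1
      exact y.2 (h a ha1 y (congrArg Subtype.val (MulAction.mem_stabilizer_iff.1 ha)))
  have h1 := Nat.card_congr (MulAction.selfEquivOrbitsQuotientProd hfree)
  rw [Nat.card_prod] at h1
  have h2 : Nat.card {y : H // y ≠ 1} = Nat.card H - 1 := by
    have : Fintype H := Fintype.ofFinite H
    rw [Nat.card_eq_fintype_card, Nat.card_eq_fintype_card, Fintype.card_subtype_compl,
      Fintype.card_subtype_eq]
  exact ⟨_, h2.symm.trans (h1.trans (mul_comm _ _))⟩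

/-- If `p ^ a = q ^ b + 1` and `p ^ (a + m) ∣ q ^ d - 1` then `2 b p ^ m ∣ d`, for `p` odd. -/
theorem two_mul_mul_dvd_of_dvd_pow_sub_one {p q a b m d : ℕ} (hp : p.Prime) (hp2 : p ≠ 2) (hq : 2 ≤ q)
    (hb : 1 ≤ b) (ha : 1 ≤ a) (hpq : p ^ a = q ^ b + 1) (hd : p ^ (a + m) ∣ q ^ d - 1) :
    2 * b * p ^ m ∣ d := by
  have := Fact.mk hp
  have hq0 : 0 < q := by omega
  have hpa : p ^ a ∣ q ^ d - 1 := (pow_dvd_pow p (Nat.le_add_right a m)).trans hd
  -- `2 b` divides `d`
  have hqq : q ^ (2 * b) - 1 = (q ^ b - 1) * p ^ a := by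
    rw [hpq, two_mul, pow_add, ← Nat.sq_sub_sq (q ^ b) 1 |>.trans (mul_comm _ _)]
    simp [pow_two]
  have hmod : q ^ (2 * b) ≡ 1 [MOD p ^ a] := ((Nat.modEq_iff_dvd' (Nat.one_le_pow _ _ hq0)).2
    (hqq ▸ dvd_mul_left _ _)).symm
  have h2b : 2 * b ∣ d := by
    obtain ⟨k, r, hr, rfl⟩ : ∃ k r, r < 2 * b ∧ d = 2 * b * k + r :=
      ⟨d / (2 * b), d % (2 * b), Nat.mod_lt _ (by omega), (Nat.div_add_mod d (2 * b)).symm⟩
    have h1 : q ^ r ≡ 1 [MOD p ^ a] := by
      have h2 : q ^ (2 * b * k + r) ≡ 1 [MOD p ^ a] :=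
        ((Nat.modEq_iff_dvd' (Nat.one_le_pow _ _ hq0)).2 hpa).symm
      rw [pow_add, pow_mul] at h2
      have h3 := (hmod.pow k).mul_right (q ^ r)
      rw [one_pow, one_mul] at h3
      exact h3.symm.trans h2
    have hpq' : p ^ a = q ^ b + 1 := hpq
    have hqb : q ≤ q ^ b := Nat.le_self_pow (by omega) q
    have hodd : Odd (p ^ a) := (hp.odd_of_ne_two hp2).pow
    suffices r = 0 by subst this; simp
    by_contra hr0
    rcases lt_trichotomy r b with hlt | heq | hgt
    · have h4 : q ^ r < p ^ a := by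
        have := Nat.pow_lt_pow_right hq hlt
        omega
      have h5 := h1.eq_of_lt_of_lt h4 (by omega)
      have := Nat.one_lt_pow hr0 hq
      omega
    · rw [heq] at h1
      have h6 := h1.eq_of_lt_of_lt (by omega) (by omega)
      omega
    · -- `r = b + s`, so `q ^ s` is `-1`
      obtain ⟨s, rfl⟩ := Nat.exists_eq_add_of_le hgt.le
      have h7 : q ^ s + 1 ≡ 0 [MOD p ^ a] := by
        have e : q ^ b * q ^ s + q ^ s = p ^ a * q ^ s := by rw [hpq]; ring
        have h8 : q ^ b * q ^ s + q ^ s ≡ 0 [MOD p ^ a] := by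
          rw [e]; exact (Nat.modEq_zero_iff_dvd).2 (dvd_mul_right _ _)
        rw [← pow_add] at h8
        exact (((h1.add_right _).symm.trans h8).symm.trans (by rw [add_comm])).symm
      have h9 := Nat.le_of_dvd (by positivity) (Nat.modEq_zero_iff_dvd.1 h7)
      have := Nat.pow_lt_pow_right hq (show s < b by omega)
      omega
  obtain ⟨k, rfl⟩ := h2b
  refine mul_dvd_mul_left _ ?_
  rcases Nat.eq_zero_or_pos k with rfl | hk
  · exact dvd_zero _
  -- lifting the exponent
  set Y := q ^ (2 * b) with hY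
  rw [pow_mul] at hd
  change p ^ (a + m) ∣ Y ^ k - 1 at hd
  have hqb1 : ¬ p ∣ q ^ b - 1 := by
    intro h
    have h2 : p ∣ p ^ a := dvd_pow_self p (by omega)
    rw [hpq, show q ^ b + 1 = (q ^ b - 1) + 2 from by have := Nat.one_le_pow b q hq0; omega] at h2
    exact hp2 ((Nat.prime_dvd_prime_iff_eq hp Nat.prime_two).1 ((Nat.dvd_add_right h).1 h2))
  have hYp : p ∣ Y - 1 := hqq ▸ (dvd_pow_self p (by omega)).trans (dvd_mul_left _ _)
  have hpY : ¬ p ∣ Y := fun h => by
    have h2 : p ∣ q := hp.dvd_of_dvd_pow h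
    have h3 : p ∣ q ^ b := h2.trans (dvd_pow_self q (by omega))
    have h4 : p ∣ q ^ b + 1 := hpq ▸ dvd_pow_self p (by omega)
    exact hp.not_dvd_one ((Nat.dvd_add_right h3).1 h4)
  have hle := Nat.emultiplicity_pow_sub_pow hp (hp.odd_of_ne_two hp2) hYp hpY k
  rw [one_pow] at hle
  have hval : emultiplicity p (Y - 1) = a := by
    rw [hqq, emultiplicity_mul hp.prime, emultiplicity_eq_zero.2 hqb1, zero_add,
      emultiplicity_pow_self hp.ne_zero hp.prime.not_isUnit]
  have h10 : ((a + m : ℕ) : ℕ∞) ≤ emultiplicity p (Y ^ k - 1) := le_emultiplicity_of_pow_dvd hd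
  rw [hle, hval, Nat.cast_add] at h10
  exact pow_dvd_of_le_emultiplicity ((ENat.add_le_add_iff_left (ENat.natCast_ne_top a)).1 h10)

end CfsgLib.FixedFree
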