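import Cfsg.Agent.Lib.FixedFree.PrimePowerGroup

/-!
# The theorem of Shult and Gross

A solvable group with a fixed-point-free automorphism of odd period `p ^ n` has Fitting height at
most `n`.
-/

set_option autoImplicit false

namespace CfsgLib.FixedFree

open Subgroup SemidirectProduct
open scoped commutatorElement

universe u

/-- A nilpotent series of length `n`. -/
def HasNilpotentSeries (G : Type u) [Group G] (n : ℕ) : Prop :=
  ∃ F : Fin (n + 1) → Subgroup G, F 0 = ⊥ ∧ F (Fin.last n) = ⊤ ∧ Monotone F ∧ (∀ i, (F i).Normal) ∧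
    ∀ i : Fin n, ∃ k : ℕ, (F i.succ).lowerCentralSeries k ≤ F i.castSucc

theorem hasNilpotentSeries_zero (G : Type u) [Group G] [Subsingleton G] : HasNilpotentSeries G 0 :=
  ⟨fun _ => ⊥, rfl, Subsingleton.elim _ _, monotone_const, fun _ => inferInstance, fun i => i.elim0⟩

/-- A series of the quotient by a nilpotent normal subgroup gives a series one longer. -/
theorem HasNilpotentSeries.succ {G : Type u} [Group G] {N : Subgroup G} [N.Normal]
    (hN : Group.IsNilpotent N) {n : ℕ} (h : HasNilpotentSeries (G ⧸ N) n) :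
    HasNilpotentSeries G (n + 1) := by
  obtain ⟨H, h0, hlast, hmono, hnorm, hstep⟩ := h
  refine ⟨Fin.cases ⊥ fun j => (H j).comap (QuotientGroup.mk' N), rfl, ?_, ?_, fun i => ?_, fun i => ?_⟩
  · rw [← Fin.succ_last]; simp only [Fin.cases_succ]; rw [hlast, comap_top]
  · refine Fin.monotone_iff_le_succ.2 fun i => ?_
    induction i using Fin.cases with
    | zero => exact bot_le
    | succ j =>
      rw [Fin.castSucc_succ]; simp only [Fin.cases_succ]
      exact comap_mono (hmono (Fin.castSucc_le_succ j))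
  · induction i using Fin.cases with
    | zero => exact Subgroup.normal_bot
    | succ j => simp only [Fin.cases_succ]; exact (hnorm j).comap _
  · induction i using Fin.cases with
    | zero =>
      obtain ⟨k, hk⟩ := (isNilpotent_iff_lowerCentralSeries N).1 hN
      refine ⟨k, ?_⟩
      simp only [Fin.cases_succ, Fin.castSucc_zero, Fin.cases_zero]
      rw [h0, MonoidHom.comap_bot, QuotientGroup.ker_mk']
      exact hk.le
    | succ j =>
      obtain ⟨k, hk⟩ := hstep j
      refine ⟨k, ?_⟩
      simp only [Fin.castSucc_succ, Fin.cases_succ]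
      rw [← map_le_iff_le_comap, map_lowerCentralSeries,
        map_comap_eq_self_of_surjective (QuotientGroup.mk'_surjective N)]
      exact hk

/-- A fixed-point-free automorphism fixes only the trivial coset of an invariant subgroup. -/
theorem mem_of_fpf_quotient {G : Type u} [Group G] [Finite G] {N : Subgroup G} (σ : G ≃* G)
    (hN : ∀ g ∈ N, σ g ∈ N) (hfpf : ∀ g, σ g = g → g = 1) {g : G} (hg : g⁻¹ * σ g ∈ N) : g ∈ N := by
  let f : N → N := fun u => ⟨(u : G)⁻¹ * σ u, mul_mem (inv_mem u.2) (hN u u.2)⟩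
  have hf : Function.Injective f := fun u v e => by
    have h1 : (u : G)⁻¹ * σ u = (v : G)⁻¹ * σ v := congrArg Subtype.val e
    have h2 := hfpf ((v : G) * (u : G)⁻¹) (by
      rw [map_mul, map_inv, show σ v = v * ((u : G)⁻¹ * σ u) by rw [h1, mul_inv_cancel_left]]
      group)
    exact Subtype.ext (mul_inv_eq_one.1 h2).symm
  obtain ⟨u, hu⟩ := Finite.injective_iff_surjective.1 hf ⟨_, hg⟩
  have h1 : (u : G)⁻¹ * σ u = g⁻¹ * σ g := congrArg Subtype.val hu
  have h2 := hfpf (g * (u : G)⁻¹) (by
    rw [map_mul, map_inv, show σ g = g * ((u : G)⁻¹ * σ u) by rw [h1, mul_inv_cancel_left]]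
    group)
  rw [mul_inv_eq_one.1 h2]
  exact u.2

/-- **Shult and Gross**: Fitting height at most `n`. -/
theorem hasNilpotentSeries_of_fpf {p : ℕ} (hp : p.Prime) (hp2 : p ≠ 2) :
    ∀ (n : ℕ) {G : Type u} [Group G] [Finite G], Group.IsSolvable G → ∀ σ : MulAut G,
      σ ^ p ^ n = 1 → (∀ g : G, σ g = g → g = 1) → HasNilpotentSeries G n := by
  intro n
  induction n with
  | zero =>
    intro G _ _ _ σ hσ hfpf
    rw [pow_zero, pow_one] at hσ
    have : Subsingleton G := ⟨fun a b => by
      rw [hfpf a (by rw [hσ]; rfl), hfpf b (by rw [hσ]; rfl)]⟩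
    exact hasNilpotentSeries_zero G
  | succ n ih =>
    intro G _ _ hG σ hσ hfpf
    have := Fact.mk hp
    set F := Cfsg.fittingSubgroup G
    have hFn : F.Normal := Solvable.fittingSubgroup_normal G
    have hkey : ∀ g : G, g⁻¹ * (σ ^ p ^ n) g ∈ F := by
      intro g
      by_cases h1 : σ ^ p ^ n = 1
      · rw [h1, MulAut.one_apply, inv_mul_cancel]; exact one_mem F
      have hord : orderOf σ = p ^ (n + 1) := orderOf_eq_prime_pow h1 hσ
      let A := zpowers σ
      have hA : Nat.card A = p ^ (n + 1) := by rw [Nat.card_zpowers, hord]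
      let φ : A →* MulAut G := A.subtype
      have hfix : ∀ g : G, (∀ a, φ a g = g) → g = 1 := fun g hg => hfpf g (hg ⟨σ, mem_zpowers σ⟩)
      have hnd := not_dvd_card_of_fpf φ (IsPGroup.of_card hA) hfix
      have hfp := fpfAction_of_fpf φ hG
        (hA ▸ ((hp.coprime_iff_not_dvd).2 hnd).pow_left (n + 1)) hfix
      set x : G ⋊[φ] A := inr ⟨σ, mem_zpowers σ⟩
      have hgen : inA φ = zpowers x := by
        refine le_antisymm ?_ (zpowers_le.2 ⟨_, rfl⟩)
        rintro _ ⟨⟨a, ha⟩, rfl⟩
        obtain ⟨i, rfl⟩ := mem_zpowers_iff.1 ha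
        refine ⟨i, ?_⟩
        show x ^ i = _
        rw [← map_zpow]
        rfl
      rw [hgen] at hfp
      have hxord : orderOf x = p ^ (n + 1) := by
        rw [orderOf_injective (inr : A →* G ⋊[φ] A) inr_injective, Subgroup.orderOf_mk, hord]
      have := hfp.normal
      have h2 := hfp.commutator_mem_fitting_primePower hp hp2 (by omega) hxord (inl g⁻¹) ⟨g⁻¹, rfl⟩
      rw [Nat.add_sub_cancel] at h2
      have h3 : ⁅(inl g⁻¹ : G ⋊[φ] A), x ^ p ^ n⁆ = inl (g⁻¹ * (σ ^ p ^ n) g) := by
        rw [commutatorElement_def, ← map_inv, inv_inv, map_mul,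
          show (inl ((σ ^ p ^ n) g) : G ⋊[φ] A)
            = inr (⟨σ, mem_zpowers σ⟩ ^ p ^ n) * inl g * inr (⟨σ, mem_zpowers σ⟩ ^ p ^ n)⁻¹ from
            by rw [← inl_aut, map_pow]; rfl, map_inv, map_inv, map_pow]
        simp only [mul_assoc, x]
      rw [h3] at h2
      let e : G ≃* inG φ := MonoidHom.ofInjective inl_injective
      obtain ⟨z, hz, hzg⟩ := h2
      rw [← Solvable.map_fittingSubgroup_equiv e] at hz
      obtain ⟨g', hg', rfl⟩ := hz
      obtain rfl : g' = g⁻¹ * (σ ^ p ^ n) g := inl_injective (φ := φ) hzg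
      exact hg'
    let τ : MulAut (G ⧸ F) := QuotientGroup.congr F F σ (Solvable.map_fittingSubgroup_equiv σ)
    have hτ : ∀ (k : ℕ) (g : G), (τ ^ k) (g : G ⧸ F) = (((σ ^ k) g : G) : G ⧸ F) := fun k g => by
      induction k with
      | zero => rfl
      | succ k ihk =>
        rw [pow_succ', MulAut.mul_apply, ihk, pow_succ', MulAut.mul_apply]
        exact QuotientGroup.congr_mk F F σ _ _
    refine (ih (inferInstance : Group.IsSolvable (G ⧸ F)) τ ?_ ?_).succ
      Solvable.fittingSubgroup_isNilpotent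
    · refine MulEquiv.ext fun y => ?_
      induction y using QuotientGroup.induction_on with
      | _ g =>
        rw [hτ, MulAut.one_apply]
        exact (QuotientGroup.eq.2 (hkey g)).symm
    · intro y hy
      induction y using QuotientGroup.induction_on with
      | _ g =>
        have h1 := hτ 1 g
        rw [pow_one, pow_one] at h1
        rw [h1] at hy
        refine (QuotientGroup.eq_one_iff g).2 (mem_of_fpf_quotient σ (fun u hu => ?_) hfpf
          (QuotientGroup.eq.1 hy.symm))
        exact (Solvable.map_fittingSubgroup_equiv σ).le (mem_map_of_mem _ hu)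

end CfsgLib.FixedFree
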