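import Cfsg.Agent.Lib.FixedFree.Weights
import Mathlib.LinearAlgebra.TensorProduct.Tower
import Mathlib.LinearAlgebra.Dimension.Constructions
import Mathlib.RingTheory.TensorProduct.Finite

/-!
# Extension of scalars of a representation
-/

set_option autoImplicit false

namespace CfsgLib.FixedFree

open Module TensorProduct

universe u v w z

variable {k : Type z} [Field k] (K : Type u) [Field K] [Algebra k K] {V : Type v} [AddCommGroup V]
  [Module k V] {G : Type w} [Group G]

/-- `ρ` with scalars extended to `K`. -/
def extend (ρ : Representation k G V) : Representation K G (K ⊗[k] V) where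
  toFun g := (ρ g).baseChange K
  map_one' := by rw [map_one, Module.End.one_eq_id, LinearMap.baseChange_id]; rfl
  map_mul' g h := by
    rw [map_mul, Module.End.mul_eq_comp, LinearMap.baseChange_comp]
    rfl

theorem extend_tmul (ρ : Representation k G V) (g : G) (a : K) (v : V) :
    extend K ρ g (a ⊗ₜ v) = a ⊗ₜ ρ g v := LinearMap.baseChange_tmul ..

theorem one_tmul_injective : Function.Injective fun v : V => (1 : K) ⊗ₜ[k] v := by
  obtain ⟨φ, hφ⟩ := Module.Projective.exists_dual_ne_zero k (one_ne_zero : (1 : K) ≠ 0)
  intro v w h
  have h1 := congrArg (fun x => TensorProduct.lid k V (LinearMap.rTensor V φ x)) h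
  simp only [LinearMap.rTensor_tmul, TensorProduct.lid_tmul] at h1
  exact smul_right_injective V hφ h1

theorem extend_eq_iff (ρ : Representation k G V) (g h : G) :
    extend K ρ g = extend K ρ h ↔ ρ g = ρ h := by
  refine ⟨fun e => LinearMap.ext fun v => ?_, fun e => congrArg (LinearMap.baseChange K) e⟩
  refine one_tmul_injective (k := k) K ?_
  show (1 : K) ⊗ₜ[k] ρ g v = 1 ⊗ₜ ρ h v
  rw [← extend_tmul, e, extend_tmul]

variable {K}

theorem NoFixed.extend {ρ : Representation k G V} {A : Subgroup G} [Finite A]
    (h : NoFixed ρ A) (hA : (Nat.card A : K) ≠ 0) : NoFixed (extend K ρ) A := by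
  have : Fintype A := Fintype.ofFinite A
  refine noFixed_of_sum hA fun x => ?_
  induction x using TensorProduct.induction_on with
  | zero => simp
  | tmul a v =>
    simp only [extend_tmul, ← TensorProduct.tmul_sum, h.sum_eq_zero, TensorProduct.tmul_zero]
  | add x y hx hy => simp only [map_add, Finset.sum_add_distrib, hx, hy, add_zero]

/-- The rank of an extended map is at most the rank of the map. -/
theorem finrank_range_baseChange_le [FiniteDimensional k V] (f : Module.End k V) :
    finrank K (LinearMap.range (f.baseChange K)) ≤ finrank k (LinearMap.range f) := by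
  have h1 : LinearMap.range (f.baseChange K)
      ≤ LinearMap.range ((LinearMap.range f).subtype.baseChange K) := by
    conv_lhs => rw [show f = (LinearMap.range f).subtype.comp f.rangeRestrict from rfl,
      LinearMap.baseChange_comp]
    exact LinearMap.range_comp_le_range _ _
  refine (Submodule.finrank_mono h1).trans ((LinearMap.finrank_range_le _).trans ?_)
  rw [Module.finrank_baseChange]

end CfsgLib.FixedFree
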