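import Cfsg.Agent.Lib.HallHigman.TheoremB

/-!
# Weights under a group acting without fixed points

If `A` fixes only `0` and permutes the weights of `Z`, then the sum over the stabiliser of a weight
of the translates of a weight vector vanishes. This is the engine of all the results on
fixed-point-free groups of automorphisms.
-/

set_option autoImplicit false

namespace CfsgLib.FixedFree

open Module Polynomial CfsgLib.HallHigman
open scoped commutatorElement

universe u v w

variable {K : Type u} [Field K] {V : Type v} [AddCommGroup V] [Module K V] {G : Type w} [Group G]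

/-- Only `0` is fixed by all of `A`. -/
def NoFixed (ρ : Representation K G V) (A : Subgroup G) : Prop :=
  ∀ v : V, (∀ g ∈ A, ρ g v = v) → v = 0

theorem rep_self_mul_apply (ρ : Representation K G V) (g h : G) (v : V) :
    ρ (g * h) v = ρ g (ρ h v) := by rw [map_mul, Module.End.mul_apply]

theorem eq_bot_or_eq_of_le_prime [Finite G] {B S : Subgroup G} (hB : (Nat.card B).Prime)
    (h : S ≤ B) : S = ⊥ ∨ S = B := by
  rcases hB.eq_one_or_self_of_dvd _ (Subgroup.card_dvd_of_le h) with h1 | h1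
  · exact Or.inl (Subgroup.card_eq_one.1 h1)
  · exact Or.inr (Subgroup.eq_of_le_of_card_ge h h1.ge)

variable {ρ : Representation K G V} {A : Subgroup G}

theorem NoFixed.sum_eq_zero [Fintype A] (h : NoFixed ρ A) (v : V) : ∑ c : A, ρ (c : G) v = 0 :=
  h _ fun g hg => by
    rw [map_sum]
    conv_rhs => rw [← Equiv.sum_comp (Equiv.mulLeft (⟨g, hg⟩ : A))]
    exact Finset.sum_congr rfl fun c _ => (rep_self_mul_apply ρ g c v).symm

theorem noFixed_of_sum [Fintype A] (hA : (Nat.card A : K) ≠ 0)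
    (h : ∀ v : V, ∑ c : A, ρ (c : G) v = 0) : NoFixed ρ A := fun v hv => by
  have h1 : (Nat.card A : K) • v = 0 := by
    rw [Nat.card_eq_fintype_card, ← Finset.card_univ, Nat.cast_smul_eq_nsmul, ← Finset.sum_const, ← h v]
    exact Finset.sum_congr rfl fun c _ => (hv c c.2).symm
  exact (smul_eq_zero.1 h1).resolve_left hA

theorem NoFixed.map {H : Type*} [Group H] {f : G →* H} {ρ' : Representation K H V}
    (hρ : ∀ g, ρ' (f g) = ρ g) (h : NoFixed ρ A) : NoFixed ρ' (A.map f) :=
  fun v hv => h v fun g hg => by rw [← hρ]; exact hv _ (Subgroup.mem_map_of_mem f hg)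

theorem NoFixed.restrict (h : NoFixed ρ A) {S : Subgroup G} (hAS : A ≤ S) {W : Submodule K V}
    (hW : ∀ s ∈ S, ∀ w ∈ W, ρ s w ∈ W) : NoFixed (restrictRep ρ S W hW) (A.subgroupOf S) :=
  fun w hw => Subtype.ext (h _ fun g hg => congrArg Subtype.val (hw ⟨g, hAS hg⟩ hg))

theorem NoFixed.quotient [Finite A] (hA : (Nat.card A : K) ≠ 0) (h : NoFixed ρ A) {S : Subgroup G}
    (hAS : A ≤ S) {W : Submodule K V} (hW : ∀ s ∈ S, ∀ w ∈ W, ρ s w ∈ W) :
    NoFixed (quotientRep ρ S W hW) (A.subgroupOf S) := by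
  have : Fintype A := Fintype.ofFinite A
  intro w hw
  obtain ⟨v, rfl⟩ := Submodule.Quotient.mk_surjective W w
  have h1 : W.mkQ (∑ c : A, ρ (c : G) v) = (Nat.card A : K) • W.mkQ v := by
    rw [map_sum, Nat.cast_smul_eq_nsmul, Nat.card_eq_fintype_card, ← Finset.card_univ, ← Finset.sum_const]
    exact Finset.sum_congr rfl fun c _ => hw ⟨c, hAS c.2⟩ c.2
  rw [h.sum_eq_zero, map_zero] at h1
  exact (smul_eq_zero.1 h1.symm).resolve_left hA

section Weights

variable [IsAlgClosed K] [FiniteDimensional K V]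

/-- A subgroup commuting on an invariant subspace has a weight vector there. -/
theorem exists_weight (ρ : Representation K G V) (Z : Subgroup G) {M : Submodule K V} (hM : M ≠ ⊥)
    (hinv : ∀ z ∈ Z, ∀ w ∈ M, ρ z w ∈ M)
    (hc : ∀ a ∈ Z, ∀ b ∈ Z, ∀ w ∈ M, ρ (a * b) w = ρ (b * a) w) :
    ∃ (v : V) (χ : G → K), v ∈ M ∧ v ≠ 0 ∧ v ∈ charSpace ρ Z χ := by
  classical
  obtain ⟨W, ⟨hWM, hWb, hWi⟩, hmin⟩ := wellFounded_lt.has_min
    {W : Submodule K V | W ≤ M ∧ W ≠ ⊥ ∧ ∀ z ∈ Z, ∀ w ∈ W, ρ z w ∈ W} ⟨M, le_rfl, hM, hinv⟩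
  have : Nontrivial W := Submodule.nontrivial_iff_ne_bot.2 hWb
  obtain ⟨v, hvW, hv⟩ := Submodule.exists_mem_ne_zero_of_ne_bot hWb
  have key : ∀ z ∈ Z, ∃ c : K, ∀ w ∈ W, ρ z w = c • w := by
    intro z hz
    obtain ⟨c, hc'⟩ := Module.End.exists_eigenvalue ((ρ z).restrict (hWi z hz))
    refine ⟨c, ?_⟩
    set E := (Module.End.eigenspace ((ρ z).restrict (hWi z hz)) c).map W.subtype with hE
    have hEle : E ≤ W := Submodule.map_subtype_le _ _
    have hEb : E ≠ ⊥ := fun e => hc' (eq_bot_of_map_subtype e)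
    have hEW : E = W := eq_of_le_of_not_lt hEle fun hlt =>
      hmin E ⟨hEle.trans hWM, hEb, fun y hy w hw => by
        obtain ⟨w, hw, rfl⟩ := hw
        refine ⟨⟨ρ y w, hWi y hy w w.2⟩, ?_, rfl⟩
        rw [SetLike.mem_coe, Module.End.mem_eigenspace_iff] at hw ⊢
        refine Subtype.ext ?_
        have h1 : ρ z w = c • (w : V) := congrArg Subtype.val hw
        show ρ z (ρ y w) = c • ρ y w
        rw [← map_smul, ← h1, ← rep_self_mul_apply, ← rep_self_mul_apply, hc z hz y hy w (hWM w.2)]⟩ hlt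
    intro w hw
    rw [← hEW] at hw
    obtain ⟨w, hw, rfl⟩ := hw
    rw [SetLike.mem_coe, Module.End.mem_eigenspace_iff] at hw
    exact congrArg Subtype.val hw
  choose c hc' using key
  refine ⟨v, fun z => if hz : z ∈ Z then c z hz else 0, hWM hvW, hv, fun z hz => ?_⟩
  simp only [dif_pos hz]
  exact hc' z hz v hvW

/-- An element of `Z` fixing every weight vector of `Z` in `M` fixes `M`. -/
theorem fix_of_weights (ρ : Representation K G V) (Z : Subgroup G) {M : Submodule K V}
    (hinv : ∀ z ∈ Z, ∀ w ∈ M, ρ z w ∈ M)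
    (hc : ∀ a ∈ Z, ∀ b ∈ Z, ∀ w ∈ M, ρ (a * b) w = ρ (b * a) w) {z : G} (hz : z ∈ Z)
    (hord : (orderOf z : K) ≠ 0)
    (h : ∀ (v : V) (χ : G → K), v ∈ M → v ≠ 0 → v ∈ charSpace ρ Z χ → ρ z v = v) :
    ∀ w ∈ M, ρ z w = w := by
  by_contra hcon
  push Not at hcon
  obtain ⟨w₀, hw₀, hne⟩ := hcon
  set R := M.map (ρ z - 1) with hR
  have hRM : R ≤ M := by
    rintro _ ⟨w, hw, rfl⟩
    exact M.sub_mem (hinv z hz w hw) hw
  have hRb : R ≠ ⊥ := (Submodule.ne_bot_iff _).2
    ⟨_, Submodule.mem_map_of_mem hw₀, sub_ne_zero.2 hne⟩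
  have hRi : ∀ y ∈ Z, ∀ w ∈ R, ρ y w ∈ R := by
    rintro y hy _ ⟨w, hw, rfl⟩
    refine ⟨ρ y w, hinv y hy w hw, ?_⟩
    rw [LinearMap.sub_apply, LinearMap.sub_apply, Module.End.one_apply, Module.End.one_apply, map_sub,
      ← rep_self_mul_apply, ← rep_self_mul_apply, hc z hz y hy w hw]
  obtain ⟨v, χ, hvR, hv0, hvχ⟩ := exists_weight ρ Z hRb hRi fun a ha b hb w hw => hc a ha b hb w (hRM hw)
  have hfix := h v χ (hRM hvR) hv0 hvχ
  obtain ⟨w, hw, rfl⟩ := hvR
  set u := (ρ z - 1) w with hu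
  have key : ∀ k : ℕ, ρ (z ^ k) w = w + (k : K) • u := by
    intro k
    induction k with
    | zero => simp
    | succ k ih =>
      rw [pow_succ', rep_self_mul_apply, ih, map_add, map_smul, hfix, Nat.cast_succ, add_smul,
        one_smul, hu, LinearMap.sub_apply, Module.End.one_apply]
      abel
  have h3 := key (orderOf z)
  rw [pow_orderOf_eq_one, map_one, Module.End.one_apply, left_eq_add, smul_eq_zero] at h3
  exact hv0 (h3.resolve_left hord)

end Weights

/-- The translates of a weight vector over the stabiliser of its weight sum to `0`. -/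
theorem sum_stab_eq_zero [Fintype A] {Z : Subgroup G} (hA : NoFixed ρ A)
    (hn : A ≤ Subgroup.normalizer (Z : Set G)) {χ : G → K} {v : V} (hv : v ∈ charSpace ρ Z χ)
    [DecidablePred fun c : A => (c : G) ∈ charStabilizer Z χ] :
    ∑ c ∈ (Finset.univ : Finset A).filter (fun c : A => (c : G) ∈ charStabilizer Z χ), ρ (c : G) v = 0 := by
  classical
  let f : A → Z → K := fun c z => χ ((c : G)⁻¹ * z * c)
  let χ' : ↥((Finset.univ : Finset A).image f) → G → K := fun i g => if h : g ∈ Z then i.1 ⟨g, h⟩ else 0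
  let w : ↥((Finset.univ : Finset A).image f) → V := fun i =>
    ∑ c ∈ (Finset.univ : Finset A).filter (fun c => f c = i.1), ρ (c : G) v
  have h0 := eq_zero_of_sum_eigen ρ Z χ'
    (fun i j e => Subtype.ext (funext fun z => by simpa [χ'] using e z z.2)) w
    (fun i z hz => by
      simp only [w, χ', dif_pos hz, map_sum, Finset.smul_sum]
      refine Finset.sum_congr rfl fun c hc => ?_
      rw [← (Finset.mem_filter.1 hc).2, ← rep_self_mul_apply,
        show z * (c : G) = c * ((c : G)⁻¹ * z * c) by group, rep_self_mul_apply,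
        hv _ (inv_conj_mem_of_mem_normalizer (hn c.2) hz), map_smul])
    (by
      simp only [w]
      rw [Finset.sum_coe_sort (Finset.univ.image f) (fun i => ∑ c ∈ (Finset.univ : Finset A).filter (fun c => f c = i), ρ (c : G) v),
        Finset.sum_fiberwise_of_maps_to (fun c hc => Finset.mem_image_of_mem f hc)]
      exact hA.sum_eq_zero v)
    ⟨f 1, Finset.mem_image_of_mem f (Finset.mem_univ _)⟩
  refine Eq.trans (Finset.sum_congr ?_ fun _ _ => rfl) h0
  ext c
  simp only [Finset.mem_filter, Finset.mem_univ, true_and]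
  constructor
  · intro hc
    funext z
    simpa [f] using hc.2 z z.2
  · intro hc
    refine ⟨hn c.2, fun z hz => ?_⟩
    have := congrFun hc ⟨z, hz⟩
    simpa [f] using this

/-- A weight vector fixed by the stabiliser of its weight is `0`. -/
theorem eq_zero_of_stab_fix [Finite A] {Z : Subgroup G} (hA : NoFixed ρ A)
    (hn : A ≤ Subgroup.normalizer (Z : Set G)) {χ : G → K} {v : V} (hv : v ∈ charSpace ρ Z χ)
    (hcard : (Nat.card ↥(A ⊓ charStabilizer Z χ) : K) ≠ 0)
    (hfix : ∀ c ∈ A ⊓ charStabilizer Z χ, ρ c v = v) : v = 0 := by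
  classical
  have : Fintype A := Fintype.ofFinite A
  have h1 := sum_stab_eq_zero hA hn hv
  have h2 : ∀ c ∈ (Finset.univ : Finset A).filter (fun c : A => (c : G) ∈ charStabilizer Z χ),
      ρ (c : G) v = v := fun c hc => hfix c ⟨c.2, (Finset.mem_filter.1 hc).2⟩
  rw [Finset.sum_eq_card_nsmul h2, ← Nat.cast_smul_eq_nsmul K] at h1
  refine (smul_eq_zero.1 h1).resolve_left (fun e => hcard ?_)
  rw [← e]
  congr 1
  rw [← Fintype.card_subtype, ← Nat.card_eq_fintype_card]
  exact Nat.card_congr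
    { toFun := fun c => ⟨⟨c.1, c.2.1⟩, c.2.2⟩
      invFun := fun c => ⟨(c.1 : G), c.1.2, c.2⟩
      left_inv := fun _ => rfl
      right_inv := fun _ => rfl }

/-- A nonzero weight vector has a nontrivial stabiliser in a group without fixed points. -/
theorem stab_ne_bot [Finite A] {Z : Subgroup G} (hA : NoFixed ρ A)
    (hn : A ≤ Subgroup.normalizer (Z : Set G)) {χ : G → K} {v : V} (hv : v ∈ charSpace ρ Z χ)
    (hv0 : v ≠ 0) : A ⊓ charStabilizer Z χ ≠ ⊥ := fun e => hv0 (eq_zero_of_stab_fix hA hn hv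
  (by rw [e, Subgroup.card_bot, Nat.cast_one]; exact one_ne_zero)
  (fun c hc => by
    rw [e, Subgroup.mem_bot] at hc
    rw [hc, map_one, Module.End.one_apply]))

/-- A weight vector is fixed by the commutators with the stabiliser of its weight. -/
theorem fix_commutator {Z : Subgroup G} {χ : G → K} {v : V} (hv : v ∈ charSpace ρ Z χ) {c z : G}
    (hc : c ∈ charStabilizer Z χ) (hz : z ∈ Z) : ρ ⁅z, c⁆ v = v := by
  have h1 : c * z⁻¹ * c⁻¹ ∈ Z := conj_mem_of_mem_normalizer hc.1 (inv_mem hz)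
  have h2 : χ (c * z⁻¹ * c⁻¹) = χ z⁻¹ := by
    rw [← hc.2 _ h1]
    congr 1
    group
  rw [commutatorElement_def, show z * c * z⁻¹ * c⁻¹ = z * (c * z⁻¹ * c⁻¹) by group,
    rep_self_mul_apply, hv _ h1, h2, ← hv _ (inv_mem hz), rep_self_apply_inv]

/-- An element of prime order without fixed points centralises the abelian groups it normalises. -/
theorem commute_of_noFixed [IsAlgClosed K] [FiniteDimensional K V] [Finite G]
    (ρ : Representation K G V) {a : G} {p : ℕ}
    (hp : p.Prime) (ha : orderOf a = p) (hfix : NoFixed ρ (Subgroup.zpowers a)) {Z : Subgroup G}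
    (haZ : a ∈ Subgroup.normalizer (Z : Set G)) (hc : ∀ x ∈ Z, ∀ y ∈ Z, ρ (x * y) = ρ (y * x))
    (hord : ∀ z ∈ Z, (orderOf z : K) ≠ 0) {z : G} (hz : z ∈ Z) : ρ (a * z) = ρ (z * a) := by
  have hmem : ⁅z, a⁆ ∈ Z := by
    rw [commutatorElement_def, show z * a * z⁻¹ * a⁻¹ = z * (a * z⁻¹ * a⁻¹) by group]
    exact mul_mem hz (conj_mem_of_mem_normalizer haZ (inv_mem hz))
  have hcard : (Nat.card (Subgroup.zpowers a)).Prime := by rwa [Nat.card_zpowers, ha]
  have h1 : ∀ w ∈ (⊤ : Submodule K V), ρ ⁅z, a⁆ w = w := fix_of_weights ρ Z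
    (fun _ _ _ _ => Submodule.mem_top) (fun x hx y hy w _ => by rw [hc x hx y hy]) hmem
    (hord _ hmem) fun v χ _ hv0 hv => fix_commutator hv (by
      have hb := (eq_bot_or_eq_of_le_prime hcard
        (inf_le_left : Subgroup.zpowers a ⊓ charStabilizer Z χ ≤ _)).resolve_left
        (stab_ne_bot hfix (Subgroup.zpowers_le.2 haZ) hv hv0)
      exact (hb.symm ▸ Subgroup.mem_zpowers a : a ∈ Subgroup.zpowers a ⊓ charStabilizer Z χ).2) hz
  have h2 : ρ ⁅z, a⁆ = 1 := LinearMap.ext fun w => h1 w Submodule.mem_top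
  calc ρ (a * z) = ρ ⁅z, a⁆ * ρ (a * z) := by rw [h2, one_mul]
    _ = ρ (z * a) := by rw [← map_mul, commutatorElement_def]; group

/-- An element of period `p` without fixed points has degree less than `p`. -/
theorem deg_lt_of_noFixed {a : G} {p : ℕ} (hp : 0 < p) (hap : a ^ p = 1)
    (hfix : NoFixed ρ (Subgroup.zpowers a)) : deg (ρ a) < p := by
  set g : K[X] := ∑ i ∈ Finset.range p, X ^ i with hg
  have h0 : aeval (ρ a) g = 0 := by
    refine LinearMap.ext fun v => hfix _ fun b hb => ?_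
    let M : Subgroup G :=
      { carrier := {b | ρ b (aeval (ρ a) g v) = aeval (ρ a) g v}
        one_mem' := by simp
        mul_mem' := fun {x y} hx hy => by
          show ρ (x * y) _ = _
          rw [rep_self_mul_apply, show ρ y _ = _ from hy, show ρ x _ = _ from hx]
        inv_mem' := fun {x} hx => by
          show ρ x⁻¹ _ = _
          conv_lhs => rw [← show ρ x (aeval (ρ a) g v) = _ from hx]
          exact rep_inv_apply_self ρ x _ }
    refine (Subgroup.zpowers_le.2 (?_ : a ∈ M)) hb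
    show ρ a _ = _
    rw [← sub_eq_zero]
    have h1 : (ρ a - 1) * aeval (ρ a) g = 0 := by
      simp only [hg, map_sum, map_pow, aeval_X]
      rw [mul_geom_sum, ← map_pow, hap, map_one, sub_self]
    simpa using LinearMap.congr_fun h1 v
  have hdeg : g.natDegree ≤ p - 1 := natDegree_sum_le_of_forall_le _ _ fun i hi => by
    rw [natDegree_X_pow]
    have := Finset.mem_range.1 hi
    omega
  have hne : g ≠ 0 := fun e => by
    have := congrArg (fun f : K[X] => f.coeff 0) e
    simp [hg, coeff_X_pow, hp] at this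
  have := deg_le_of_aeval_eq_zero hne h0
  omega

/-- The degree of a product of commuting maps. -/
theorem deg_mul_le [FiniteDimensional K V] {f g : Module.End K V} (h : Commute f g) :
    deg (f * g) ≤ deg f * deg g := by
  classical
  let S : Finset (Module.End K V) := (Finset.univ : Finset (Fin (deg f) × Fin (deg g))).image
    fun i => f ^ (i.1 : ℕ) * g ^ (i.2 : ℕ)
  have hspan : ∀ (x : Module.End K V) (k : ℕ),
      x ^ k ∈ Submodule.span K (Set.range fun i : Fin (deg x) => x ^ (i : ℕ)) := by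
    intro x k
    refine Submodule.mem_span_range_iff_exists_fun K |>.2 ?_
    rcases subsingleton_or_nontrivial V with hV | hV
    · exact ⟨0, Subsingleton.elim _ _⟩
    refine ⟨fun i => ((X ^ k : K[X]) %ₘ minpoly K x).coeff i, ?_⟩
    have h1 := aeval_eq_modByMonic x (X ^ k)
    rw [map_pow, aeval_X] at h1
    rw [h1, aeval_eq_sum_range' (natDegree_modByMonic_lt_deg x _), Finset.sum_range]
  have hmem : ∀ k, (f * g) ^ k ∈ Submodule.span K (S : Set (Module.End K V)) := by
    intro k
    rw [h.mul_pow]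
    have := Submodule.mul_mem_mul (hspan f k) (hspan g k)
    rw [Submodule.span_mul_span] at this
    refine Submodule.span_mono ?_ this
    rintro _ ⟨_, ⟨i, rfl⟩, _, ⟨j, rfl⟩, rfl⟩
    exact Finset.mem_coe.2 (Finset.mem_image.2 ⟨(i, j), Finset.mem_univ _, rfl⟩)
  have hli : LinearIndependent K (fun i : Fin (deg (f * g)) =>
      (⟨(f * g) ^ (i : ℕ), hmem i⟩ : Submodule.span K (S : Set (Module.End K V)))) :=
    LinearIndependent.of_comp (Submodule.subtype _) (linearIndependent_pow (f * g))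
  have h1 := hli.fintype_card_le_finrank
  rw [Fintype.card_fin] at h1
  refine h1.trans ((finrank_span_finset_le_card S).trans (Finset.card_image_le.trans (le_of_eq ?_)))
  simp

end CfsgLib.FixedFree
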