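import Cfsg.Agent.Lib.FixedFree.CoreIrred

/-!
# Fixed-point-free groups whose proper subgroups have prime order: `R` centralises `Q`
-/

set_option autoImplicit false

namespace CfsgLib.FixedFree

open Module Subgroup CfsgLib.HallHigman
open scoped commutatorElement

universe u v w

variable {K : Type v} [Field K] [IsAlgClosed K]

/-- The irreducible case. -/
theorem FpfHyp.commute_irreducible {G : Type u} [Group G] [Finite G] {V : Type w} [AddCommGroup V]
    [Module K V] [FiniteDimensional K V] [Nontrivial V] {ρ : Representation K G V} {A Q R : Subgroup G}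
    {q r : ℕ} [Q.Normal] (h : FpfHyp ρ A Q R q r) (hinj : Function.Injective ρ) (hq : q.Prime)
    (hr : r.Prime) (hrq : r ≠ q) (hqK : (q : K) ≠ 0)
    (hderiv : ∀ x ∈ R, ∀ y ∈ R, ∀ u ∈ Q, Commute ⁅x, y⁆ u)
    (hirr : ∀ W : Submodule K V, (∀ g ∈ Q, ∀ w ∈ W, ρ g w ∈ W) → (∀ g ∈ R, ∀ w ∈ W, ρ g w ∈ W) →
      (∀ g ∈ A, ∀ w ∈ W, ρ g w ∈ W) → W = ⊥ ∨ W = ⊤) :
    ∀ s ∈ R, ∀ t ∈ Q, Commute s t := by
  classical
  have := Fact.mk hq
  have := Fact.mk hr
  obtain ⟨hcQ, hcR⟩ := h.coprime_card hq hr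
  have hn : ∀ (H : Subgroup G) [H.Normal] (g : G), g ∈ normalizer (H : Set G) := fun H _ g => by
    rw [Subgroup.normalizer_eq_top]; trivial
  by_cases hQb : Q = ⊥
  · intro s _ t ht
    rw [hQb, mem_bot] at ht
    rw [ht]; exact Commute.one_right s
  have hQn : Group.IsNilpotent Q := h.isPGroup.isNilpotent
  -- the elements of order dividing `q` in the centre
  let Z : Subgroup G :=
    { carrier := {z | z ∈ centerIn Q ∧ z ^ q = 1}
      one_mem' := ⟨one_mem _, one_pow q⟩
      mul_mem' := fun {x y} hx hy => ⟨mul_mem hx.1 hy.1, by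
        rw [Commute.mul_pow ((mem_centerIn.1 hy.1).2 x (centerIn_le Q hx.1)), hx.2, hy.2, mul_one]⟩
      inv_mem' := fun {x} hx => ⟨inv_mem hx.1, by rw [inv_pow, hx.2, inv_one]⟩ }
  have hZn : Z.Normal := ⟨fun z hz g =>
    ⟨(centerIn_normal Q).conj_mem z hz.1 g, by rw [conj_pow, hz.2, mul_one, mul_inv_cancel]⟩⟩
  have hZQ : Z ≤ Q := fun z hz => centerIn_le Q hz.1
  have hZc : ∀ x ∈ Z, ∀ y ∈ Z, Commute x y := fun x hx y hy => (mem_centerIn.1 hy.1).2 x (hZQ hx)
  obtain ⟨z₀, hz₀, hz₀1⟩ : ∃ z ∈ Z, z ≠ 1 := by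
    have : Nontrivial Q := (Subgroup.nontrivial_iff_ne_bot Q).2 hQb
    have hcne : Nontrivial (center Q) := IsPGroup.center_nontrivial h.isPGroup
    obtain ⟨k, hk⟩ := IsPGroup.iff_card.1 (h.isPGroup.to_subgroup (center Q))
    obtain ⟨z, hz⟩ := exists_prime_orderOf_dvd_card' (G := center Q) q (by
      rw [hk]; exact dvd_pow_self q fun e => by
        rw [e, pow_zero] at hk
        exact absurd hk Finite.one_lt_card.ne')
    refine ⟨((z : Q) : G), ⟨⟨z, z.2, rfl⟩, ?_⟩, fun e => hq.ne_one ?_⟩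
    · rw [← SubgroupClass.coe_pow, ← SubgroupClass.coe_pow, ← hz, pow_orderOf_eq_one]; rfl
    · rw [← hz, orderOf_eq_one_iff]; exact Subtype.ext (Subtype.ext e)
  have hRZ := h.commute_central hinj hq hr hrq hqK hderiv hZQ hZc
  -- a weight of `Z`
  obtain ⟨v, χ, -, hv0, hv⟩ := exists_weight ρ Z (M := ⊤) top_ne_bot (fun _ _ _ _ => Submodule.mem_top)
    fun x hx y hy w _ => by rw [(hZc x hx y hy).eq]
  have hnt : ¬ ∀ z ∈ Z, ρ z v = v := fun hfix => by
    let W : Submodule K V :=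
      { carrier := {w | ∀ z ∈ Z, ρ z w = w}
        zero_mem' := fun z _ => map_zero _
        add_mem' := fun {x y} hx hy z hz => by rw [map_add, hx z hz, hy z hz]
        smul_mem' := fun c {x} hx z hz => by rw [map_smul, hx z hz] }
    have hinv : ∀ g : G, ∀ w ∈ W, ρ g w ∈ W := fun g w hw z hz => by
      rw [← rep_self_mul_apply, show z * g = g * (g⁻¹ * z * g) by group, rep_self_mul_apply,
        hw _ (inv_conj_mem_of_mem_normalizer (hn Z g) hz)]
    have htop := (hirr W (fun g _ => hinv g) (fun g _ => hinv g) (fun g _ => hinv g)).resolve_left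
      ((Submodule.ne_bot_iff _).2 ⟨v, hfix, hv0⟩)
    exact hz₀1 (hinj (LinearMap.ext fun w => by
      rw [map_one]; exact (htop ▸ Submodule.mem_top : w ∈ W) z₀ hz₀))
  set St := charStabilizer Z χ
  have hAn : A ≤ normalizer (Z : Set G) := fun g _ => hn Z g
  have hne : A ⊓ St ≠ ⊥ := stab_ne_bot h.noFixed hAn hv hv0
  have hneA : A ⊓ St ≠ A := fun e => hnt fun z hz => by
    have hsolZ : Group.IsSolvable Z := by
      have := (h.isPGroup.to_le hZQ).isNilpotent
      infer_instance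
    have hZA : ⁅Z, A⁆ = Z := commutator_eq_of_fpf hAn (hcQ.coprime_dvd_right (card_dvd_of_le hZQ)) hsolZ
      (le_bot_iff.1 ((inf_le_inf_right _ hZQ).trans h.fixQ.le))
    have hle : ⁅Z, A⁆ ≤ fixer ρ (K ∙ v) := commutator_le.2 fun y hy c hc w hw => by
      obtain ⟨d, rfl⟩ := Submodule.mem_span_singleton.1 hw
      rw [map_smul, fix_commutator hv (e.ge hc).2 hy]
    exact hle (hZA.ge hz) v (Submodule.mem_span_singleton_self v)
  have hprime : (Nat.card (A ⊓ St : Subgroup G)).Prime := h.sub _ inf_le_left hne hneA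
  set p := Nat.card (A ⊓ St : Subgroup G) with hp
  obtain ⟨a, ha, ha1⟩ := (Subgroup.bot_or_exists_ne_one (A ⊓ St)).resolve_left hne
  have hza : zpowers a = A ⊓ St := (eq_bot_or_eq_of_le_prime hprime (Subgroup.zpowers_le.2 ha)).resolve_left
    fun e => ha1 (zpowers_eq_bot.1 e)
  have hpA : p ∣ Nat.card A := card_dvd_of_le inf_le_left
  have hpK : (p : K) ≠ 0 := fun e => h.cardNe (by
    obtain ⟨m, hm⟩ := hpA
    rw [hm, Nat.cast_mul, e, zero_mul])
  have hap : a ^ p = 1 := by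
    have h1 : orderOf a = p := by rw [hp, ← hza, Nat.card_zpowers]
    rw [← h1]; exact pow_orderOf_eq_one a
  have hpq : p ≠ q := fun e => hprime.ne_one
    (Nat.eq_one_of_dvd_coprimes h.coprimeQ hpA (dvd_of_eq e))
  have hpr : p ≠ r := fun e => hprime.ne_one
    (Nat.eq_one_of_dvd_coprimes h.coprimeR hpA (dvd_of_eq e))
  set W := charSpace ρ Z χ with hW
  have hWb : W ≠ ⊥ := (Submodule.ne_bot_iff _).2 ⟨v, hv, hv0⟩
  have hWcom : ∀ g : G, (∀ z ∈ Z, Commute g z) → ∀ w ∈ W, ρ g w ∈ W := fun g hg w hw z hz => by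
    rw [← rep_self_mul_apply, ← (hg z hz).eq, rep_self_mul_apply, hw z hz, map_smul]
  set S := Q ⊔ R ⊔ zpowers a with hS
  have hWS : ∀ g ∈ S, ∀ w ∈ W, ρ g w ∈ W := invariant_sup ρ Q R a
    (fun g hg => hWcom g fun z hz => (mem_centerIn.1 hz.1).2 g hg) (fun g hg => hWcom g (hRZ g hg))
    (fun w hw => charSpace_map_mem ha.2 hw)
  have hQS : Q ≤ S := le_sup_left.trans le_sup_left
  have hRS : R ≤ S := le_sup_right.trans le_sup_left
  have haS : a ∈ S := mem_sup_right (mem_zpowers a)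
  have hRA : ⁅R, A⁆ = R := commutator_eq_of_fpf h.normR hcR
    (by have := h.isPGroupR.isNilpotent; infer_instance) h.fixR
  have hRq : (Nat.card R).Coprime q := by
    obtain ⟨j, hj⟩ := IsPGroup.iff_card.1 h.isPGroupR
    rw [hj]; exact ((Nat.coprime_primes hr hq).2 hrq).pow_left j
  have hyp : PrimeHyp (restrictRep ρ S W hWS) (⟨a, haS⟩ : S) (Q.subgroupOf S) (R.subgroupOf S) p q r :=
    { pow_eq := Subtype.ext hap
      noFixed := fun w hw => Subtype.ext (eq_zero_of_stab_fix h.noFixed hAn w.2 hpK fun c hc => by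
        obtain ⟨i, rfl⟩ := mem_zpowers_iff.1 (hza.ge hc)
        exact congrArg Subtype.val (hw ((⟨a, haS⟩ : S) ^ i) (zpow_mem (mem_zpowers _) i)))
      isPGroup := h.isPGroup.of_equiv (subgroupOfEquivOfLe hQS).symm
      isPGroupR := h.isPGroupR.of_equiv (subgroupOfEquivOfLe hRS).symm
      normalizesT := mem_normalizer_of_conj_mem fun g hg =>
        (conj_mem_of_mem_normalizer (hn Q a) hg : a * (g : G) * a⁻¹ ∈ Q)
      normalizesR := mem_normalizer_of_conj_mem fun g hg =>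
        (conj_mem_of_mem_normalizer (h.normR ha.1) hg : a * (g : G) * a⁻¹ ∈ R)
      le_normalizer := fun x _ => mem_normalizer_of_conj_mem fun g hg =>
        (conj_mem_of_mem_normalizer (hn Q (x : G)) hg : (x : G) * g * (x : G)⁻¹ ∈ Q)
      derived := fun x hx y hy t ht => congrArg _ (Subtype.ext (hderiv x hx y hy t ht).eq)
      fixed := fun t ht h1 h2 s hs => Subtype.ext (centralize_of_fix ha.1 h.sub ha1 h.normR hRA
        h.coprimeQ hRq Q h.isPGroup h.fixQ hderiv ht (congrArg Subtype.val h1)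
        (fun x hx => congrArg Subtype.val (h2 ⟨x, hRS hx⟩ hx)) s hs) }
  have hWcomm := commute_of_prime hprime hq hr hpq hrq hpr hpK hqK _ (restrictRep ρ S W hWS) _ _ _ rfl hyp
  -- the commutator subgroup fixes `W`
  have hD : ⁅R, Q⁆ ≤ fixer ρ W := commutator_le.2 fun s hs t ht w hw => by
    have h1 := congrArg Subtype.val (LinearMap.congr_fun (hWcomm ⟨s, hRS hs⟩ hs ⟨t, hQS ht⟩ ht)
      ⟨ρ (s⁻¹ * t⁻¹) w, hWS _ (mul_mem (inv_mem (hRS hs)) (inv_mem (hQS ht))) w hw⟩)
    simp only [restrictRep_apply_coe, Subgroup.coe_mul, ← rep_self_mul_apply] at h1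
    rw [commutatorElement_def, mul_assoc (s * t), h1]
    simp [mul_assoc]
  let F : Submodule K V :=
    { carrier := {w | ∀ g ∈ ⁅R, Q⁆, ρ g w = w}
      zero_mem' := fun g _ => map_zero _
      add_mem' := fun {x y} hx hy g hg => by rw [map_add, hx g hg, hy g hg]
      smul_mem' := fun c {x} hx g hg => by rw [map_smul, hx g hg] }
  have hFinv : ∀ H : Subgroup G, H ≤ normalizer (⁅R, Q⁆ : Subgroup G) → ∀ g ∈ H, ∀ w ∈ F, ρ g w ∈ F :=
    fun H hH g hg w hw d hd => by
      rw [← rep_self_mul_apply, show d * g = g * (g⁻¹ * d * g) by group, rep_self_mul_apply,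
        hw _ (inv_conj_mem_of_mem_normalizer (hH hg) hd)]
  have hAD : A ≤ normalizer (⁅R, Q⁆ : Subgroup G) := fun g hg => by
    rw [mem_normalizer_iff_map_conj_eq, map_commutator, mem_normalizer_iff_map_conj_eq.1 (hn Q g),
      mem_normalizer_iff_map_conj_eq.1 (h.normR hg)]
  have htop := (hirr F (hFinv Q (normalizer_commutator_ge_right R Q))
    (hFinv R (normalizer_commutator_ge_left R Q)) (hFinv A hAD)).resolve_left
    ((Submodule.ne_bot_iff _).2 ⟨v, fun g hg => hD hg v hv, hv0⟩)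
  intro s hs t ht
  refine commutatorElement_eq_one_iff_commute.1 (hinj ?_)
  rw [map_one]
  exact LinearMap.ext fun w => (htop ▸ Submodule.mem_top : w ∈ F) _ (commutator_mem_commutator hs ht)

/-- The injective case. -/
theorem FpfHyp.commute_of_injective {q r : ℕ} (hq : q.Prime) (hr : r.Prime) (hrq : r ≠ q)
    (hqK : (q : K) ≠ 0) {G : Type u} [Group G] [Finite G] {V : Type w} [AddCommGroup V] [Module K V]
    [FiniteDimensional K V]
    (ih : ∀ m < finrank K V, ∀ {G : Type u} [Group G] [Finite G] {V : Type w} [AddCommGroup V]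
      [Module K V] [FiniteDimensional K V] (ρ : Representation K G V) (A Q R : Subgroup G),
      finrank K V = m → FpfHyp ρ A Q R q r → ∀ s ∈ R, ∀ t ∈ Q, ρ (s * t) = ρ (t * s))
    {ρ : Representation K G V} (hinj : Function.Injective ρ) {A Q R : Subgroup G}
    (h : FpfHyp ρ A Q R q r) : ∀ s ∈ R, ∀ t ∈ Q, Commute s t := by
  classical
  have := Fact.mk hq
  have := Fact.mk hr
  by_contra hcon
  push Not at hcon
  obtain ⟨s₀, hs₀, t₀, ht₀, hst₀⟩ := hcon
  obtain ⟨R₀, ⟨hR₀le, hAR₀, hmov⟩, hmin⟩ := wellFounded_lt.has_min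
    {U : Subgroup G | U ≤ R ∧ A ≤ normalizer (U : Set G) ∧ ∃ s ∈ U, ∃ t ∈ Q, ¬ Commute s t}
    ⟨R, le_rfl, h.normR, s₀, hs₀, t₀, ht₀, hst₀⟩
  have hR₀Q : R₀ ≤ normalizer (Q : Set G) := hR₀le.trans h.normRQ
  have hderiv : ∀ x ∈ R₀, ∀ y ∈ R₀, ∀ u ∈ Q, Commute ⁅x, y⁆ u := by
    intro x hx y hy u hu
    by_contra hne
    refine hmin ⁅R₀, R₀⁆ ⟨(commutator_le.2 fun a ha b hb => ?_).trans hR₀le, fun g hg => ?_,
      _, commutator_mem_commutator hx hy, u, hu, hne⟩ ?_
    · exact mul_mem (mul_mem (mul_mem ha hb) (inv_mem ha)) (inv_mem hb)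
    · rw [mem_normalizer_iff_map_conj_eq, map_commutator, mem_normalizer_iff_map_conj_eq.1 (hAR₀ hg)]
    · refine lt_of_le_of_ne (commutator_le.2 fun a ha b hb =>
        mul_mem (mul_mem (mul_mem ha hb) (inv_mem ha)) (inv_mem hb)) fun e => ?_
      have hnil := (h.isPGroupR.to_le hR₀le).isNilpotent
      have : Nontrivial R₀ := by
        obtain ⟨s, hs, t, _, hst⟩ := hmov
        exact ⟨⟨s, hs⟩, 1, fun e => hst (by
          rw [show s = 1 from congrArg Subtype.val e]; exact Commute.one_left t)⟩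
      refine (Group.IsSolvable.commutator_lt_top_of_nontrivial R₀).ne ?_
      refine Subgroup.map_injective R₀.subtype_injective ?_
      rw [Subgroup.map_subtype_commutator, e, ← MonoidHom.range_eq_map, Subgroup.range_subtype]
  set S := Q ⊔ R₀ ⊔ A with hS
  have hQS : Q ≤ S := le_sup_left.trans le_sup_left
  have hRS : R₀ ≤ S := le_sup_right.trans le_sup_left
  have hAS : A ≤ S := le_sup_right
  have hSQ : S ≤ normalizer (Q : Set G) := sup_le (sup_le le_normalizer hR₀Q) h.normQ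
  have : (Q.subgroupOf S).Normal := normal_subgroupOf_of_le_normalizer hSQ
  have hC : ∀ H : Subgroup G, H ⊓ centralizer (A : Set G) = ⊥ →
      H.subgroupOf S ⊓ centralizer (A.subgroupOf S : Set S) = ⊥ := fun H hH => eq_bot_iff.2 fun g hg => by
    have h1 : (g : G) ∈ H ⊓ centralizer (A : Set G) := ⟨hg.1, mem_centralizer_iff.2 fun c hc =>
      congrArg Subtype.val (mem_centralizer_iff.1 hg.2 ⟨c, hAS hc⟩ hc)⟩
    rw [hH, mem_bot] at h1
    exact mem_bot.2 (Subtype.ext h1)
  have hcA : Nat.card (A.subgroupOf S) = Nat.card A := Coprime.card_subgroupOf hAS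
  have hyp : ∀ {W' : Type w} [AddCommGroup W'] [Module K W'] (σ : Representation K S W'),
      NoFixed σ (A.subgroupOf S) → FpfHyp σ (A.subgroupOf S) (Q.subgroupOf S) (R₀.subgroupOf S) q r :=
    fun {W'} _ _ σ hσ =>
    { isPGroup := h.isPGroup.of_equiv (subgroupOfEquivOfLe hQS).symm
      isPGroupR := (h.isPGroupR.to_le hR₀le).of_equiv (subgroupOfEquivOfLe hRS).symm
      coprimeQ := hcA ▸ h.coprimeQ
      coprimeR := hcA ▸ h.coprimeR
      cardNe := hcA ▸ h.cardNe
      sub := fun B hB hBb hBA => by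
        rw [← card_map_of_injective (f := S.subtype) S.subtype_injective]
        refine h.sub _ (by rintro _ ⟨b, hb, rfl⟩; exact hB hb)
          (fun e => hBb ((map_eq_bot_iff_of_injective B S.subtype_injective).1 e))
          fun e => hBA (Subgroup.map_injective S.subtype_injective
            (e.trans (by rw [subgroupOf_map_subtype, inf_eq_left.2 hAS])))
      normQ := le_normalizer_of_normal
      normR := fun c hc => mem_normalizer_of_conj_mem fun g hg =>
        (conj_mem_of_mem_normalizer (hAR₀ hc) hg : (c : G) * g * (c : G)⁻¹ ∈ R₀)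
      normRQ := le_normalizer_of_normal
      noFixed := hσ
      fixQ := hC Q h.fixQ
      fixR := hC R₀ (le_bot_iff.1 ((inf_le_inf_right _ hR₀le).trans h.fixR.le)) }
  obtain ⟨s, hs, t, ht, hst⟩ := hmov
  by_cases hirr : ∀ W : Submodule K V, (∀ g ∈ Q, ∀ w ∈ W, ρ g w ∈ W) → (∀ g ∈ R₀, ∀ w ∈ W, ρ g w ∈ W) →
      (∀ g ∈ A, ∀ w ∈ W, ρ g w ∈ W) → W = ⊥ ∨ W = ⊤
  · have : Nontrivial V := by
      by_contra hT
      rw [not_nontrivial_iff_subsingleton] at hT
      exact hst (hinj (LinearMap.ext fun _ => Subsingleton.elim _ _))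
    let σ : Representation K S V := ρ.comp S.subtype
    have h1 := (hyp σ fun v hv => h.noFixed v fun g hg => hv ⟨g, hAS hg⟩ hg).commute_irreducible
      (fun x y e => Subtype.ext (hinj e)) hq hr hrq hqK
      (fun x hx y hy u hu => Subtype.ext (hderiv x hx y hy u hu))
      (fun W h1 h2 h3 => hirr W (fun g hg w hw => h1 ⟨g, hQS hg⟩ hg w hw)
        (fun g hg w hw => h2 ⟨g, hRS hg⟩ hg w hw) (fun g hg w hw => h3 ⟨g, hAS hg⟩ hg w hw))
    exact hst (congrArg Subtype.val (h1 ⟨s, hRS hs⟩ hs ⟨t, hQS ht⟩ ht))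
  · push Not at hirr
    obtain ⟨W, hW1, hW2, hW3, hWb, hWt⟩ := hirr
    let M : Subgroup G :=
      { carrier := {g | ∀ w ∈ W, ρ g w ∈ W ∧ ρ g⁻¹ w ∈ W}
        one_mem' := fun w hw => by simpa using hw
        mul_mem' := fun {x y} hx hy w hw => ⟨by rw [rep_self_mul_apply]; exact (hx _ (hy w hw).1).1,
          by rw [mul_inv_rev, rep_self_mul_apply]; exact (hy _ (hx w hw).2).2⟩
        inv_mem' := fun {x} hx w hw => ⟨(hx w hw).2, by rw [inv_inv]; exact (hx w hw).1⟩ }
    have hSM : S ≤ M := sup_le (sup_le (fun g hg w hw => ⟨hW1 g hg w hw, hW1 _ (inv_mem hg) w hw⟩)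
      (fun g hg w hw => ⟨hW2 g hg w hw, hW2 _ (inv_mem hg) w hw⟩))
      (fun g hg w hw => ⟨hW3 g hg w hw, hW3 _ (inv_mem hg) w hw⟩)
    have hWS : ∀ g ∈ S, ∀ w ∈ W, ρ g w ∈ W := fun g hg w hw => (hSM hg w hw).1
    have h1 := ih _ (Submodule.finrank_lt hWt) (restrictRep ρ S W hWS) _ _ _ rfl
      (hyp _ (h.noFixed.restrict hAS hWS))
    have h2 := ih _ (by
        have h3 := W.finrank_quotient_add_finrank
        have h4 : 0 < finrank K W := by
          have : Nontrivial W := Submodule.nontrivial_iff_ne_bot.2 hWb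
          exact Module.finrank_pos
        omega) (quotientRep ρ S W hWS) _ _ _ rfl (hyp _ (h.noFixed.quotient h.cardNe hAS hWS))
    refine hst ?_
    have hmem : ⁅s, t⁆ ∈ Q := mul_mem (conj_mem_of_mem_normalizer (hR₀Q hs) ht) (inv_mem ht)
    have hσ : ∀ {W' : Type w} [AddCommGroup W'] [Module K W'] (σ : Representation K S W') (x y : S),
        σ (x * y) = σ (y * x) → σ ⁅x, y⁆ = 1 := by
      intro W' _ _ σ x y e
      rw [commutatorElement_def, mul_assoc (x * y), map_mul, e, ← map_mul]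
      simp [mul_assoc]
    have e1 := hσ _ _ _ (h1 ⟨s, hRS hs⟩ hs ⟨t, hQS ht⟩ ht)
    have e2 := hσ _ _ _ (h2 ⟨s, hRS hs⟩ hs ⟨t, hQS ht⟩ ht)
    refine commutatorElement_eq_one_iff_commute.1 (hinj ?_)
    rw [map_one]
    refine eq_one_of_unipotent (m := orderOf ⁅s, t⁆) (W := W)
      (by rw [← map_pow, pow_orderOf_eq_one, map_one]) (orderOf_cast_ne_zero h.isPGroup hqK hmem)
      (fun w hw => congrArg Subtype.val (LinearMap.congr_fun e1 ⟨w, hw⟩)) fun v => ?_
    rw [← Submodule.Quotient.mk_eq_zero, Submodule.Quotient.mk_sub]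
    exact sub_eq_zero.2 (LinearMap.congr_fun e2 (Submodule.Quotient.mk v))

/-- `R` centralises the action of `Q`. -/
theorem commute_of_fpf {q r : ℕ} (hq : q.Prime) (hr : r.Prime) (hrq : r ≠ q) (hqK : (q : K) ≠ 0) :
    ∀ d : ℕ, ∀ {G : Type u} [Group G] [Finite G] {V : Type w} [AddCommGroup V] [Module K V]
      [FiniteDimensional K V] (ρ : Representation K G V) (A Q R : Subgroup G),
      finrank K V = d → FpfHyp ρ A Q R q r → ∀ s ∈ R, ∀ t ∈ Q, ρ (s * t) = ρ (t * s) := by
  intro d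
  induction d using Nat.strong_induction_on with
  | _ d ih =>
  intro G _ _ V _ _ _ ρ A Q R hd h s hs t ht
  subst hd
  have := Fact.mk hq
  have := Fact.mk hr
  obtain ⟨hcQ, hcR⟩ := h.coprime_card hq hr
  let π := QuotientGroup.mk' ρ.ker
  let ρ' : Representation K (G ⧸ ρ.ker) V := QuotientGroup.lift ρ.ker ρ le_rfl
  have hρ' : ∀ g, ρ' (π g) = ρ g := fun g => QuotientGroup.lift_mk' _ _ g
  have hinj : Function.Injective ρ' := by
    intro x y hxy
    obtain ⟨x, rfl⟩ := QuotientGroup.mk'_surjective ρ.ker x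
    obtain ⟨y, rfl⟩ := QuotientGroup.mk'_surjective ρ.ker y
    rw [hρ', hρ'] at hxy
    exact QuotientGroup.eq.2 (MonoidHom.mem_ker.2 (by
      rw [map_mul, ← hxy, ← map_mul, inv_mul_cancel, map_one]))
  have hdvd : Nat.card (A.map π) ∣ Nat.card A := Subgroup.card_map_dvd A π
  have hnorm : ∀ H L : Subgroup G, H ≤ normalizer (L : Set G) →
      H.map π ≤ normalizer (L.map π : Set (G ⧸ ρ.ker)) := fun H L hHL => by
    rintro _ ⟨g, hg, rfl⟩
    refine mem_normalizer_of_conj_mem ?_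
    rintro _ ⟨x, hx, rfl⟩
    exact ⟨g * x * g⁻¹, conj_mem_of_mem_normalizer (hHL hg) hx, by simp⟩
  have hfix : ∀ H : Subgroup G, A ≤ normalizer (H : Set G) → (Nat.card A).Coprime (Nat.card H) →
      Group.IsSolvable H → H ⊓ centralizer (A : Set G) = ⊥ →
      H.map π ⊓ centralizer (A.map π : Set (G ⧸ ρ.ker)) = ⊥ := fun H h1 h2 h3 h4 => by
    rw [← Coprime.map_inf_centralizer π h1 h2 (Or.inr h3), h4, Subgroup.map_bot]
  have hyp : FpfHyp ρ' (A.map π) (Q.map π) (R.map π) q r :=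
    { isPGroup := h.isPGroup.map π
      isPGroupR := h.isPGroupR.map π
      coprimeQ := h.coprimeQ.coprime_dvd_left hdvd
      coprimeR := h.coprimeR.coprime_dvd_left hdvd
      cardNe := fun e => h.cardNe (by
        obtain ⟨m, hm⟩ := hdvd
        rw [hm, Nat.cast_mul, e, zero_mul])
      sub := fun B hB hBb hBA => by
        have hmap : (A ⊓ B.comap π).map π = B := by
          refine le_antisymm (by rintro _ ⟨g, hg, rfl⟩; exact hg.2) fun y hy => ?_
          obtain ⟨g, hg, rfl⟩ := hB hy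
          exact ⟨g, ⟨hg, hy⟩, rfl⟩
        have hpr := h.sub (A ⊓ B.comap π) inf_le_left (fun e => hBb (by rw [← hmap, e, Subgroup.map_bot]))
          (fun e => hBA (by rw [← hmap, e]))
        rcases hpr.eq_one_or_self_of_dvd _ (hmap ▸ Subgroup.card_map_dvd (A ⊓ B.comap π) π) with h1 | h1
        · exact absurd (card_eq_one.1 h1) hBb
        · exact h1.symm ▸ hpr
      normQ := hnorm A Q h.normQ
      normR := hnorm A R h.normR
      normRQ := hnorm R Q h.normRQ
      noFixed := h.noFixed.map hρ'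
      fixQ := hfix Q h.normQ hcQ (by have := h.isPGroup.isNilpotent; infer_instance) h.fixQ
      fixR := hfix R h.normR hcR (by have := h.isPGroupR.isNilpotent; infer_instance) h.fixR }
  have hc := FpfHyp.commute_of_injective hq hr hrq hqK
    (fun m hm {G} _ _ {V} _ _ _ ρ A Q R hd h => ih m hm ρ A Q R hd h) hinj hyp (π s)
    (mem_map_of_mem π hs) (π t) (mem_map_of_mem π ht)
  rw [← hρ', ← hρ', map_mul π, map_mul π, hc.eq]

end CfsgLib.FixedFree
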