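import Cfsg.Agent.Lib.FixedFree.Cores
import Cfsg.Agent.Lib.FixedFree.CoreAction
import Mathlib.FieldTheory.IsAlgClosed.AlgebraicClosure

/-!
# Fitting height at most two
-/

set_option autoImplicit false

namespace CfsgLib.FixedFree

open Subgroup CfsgLib.HallHigman
open scoped commutatorElement

universe u

variable {X : Type u} [Group X] [Finite X]

/-- `A` acts coprimely and without fixed points on the normal solvable subgroup `G`. -/
structure FpfAction (A G : Subgroup X) : Prop where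
  normal : G.Normal
  solvable : Group.IsSolvable G
  coprime : (Nat.card A).Coprime (Nat.card G)
  fix : G ⊓ centralizer (A : Set X) = ⊥

omit [Finite X] in
theorem FpfAction.act_le {A G : Subgroup X} (h : FpfAction A G) :
    A ≤ normalizer (G : Set X) := by
  have := h.normal
  rw [Subgroup.normalizer_eq_top]
  exact le_top

theorem FpfAction.fix_le {A G H : Subgroup X} (h : FpfAction A G) (hH : H ≤ G) :
    H ⊓ centralizer (A : Set X) = ⊥ :=
  le_bot_iff.1 ((inf_le_inf_right _ hH).trans h.fix.le)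

theorem FpfAction.coprime_le {A G H : Subgroup X} (h : FpfAction A G) (hH : H ≤ G) :
    (Nat.card A).Coprime (Nat.card H) :=
  h.coprime.coprime_dvd_right (card_dvd_of_le hH)

/-- The action on the Frattini quotient of a core. -/
theorem FpfAction.commute_core {A G : Subgroup X} (h : FpfAction A G)
    (hsub : ∀ B ≤ A, B ≠ ⊥ → B ≠ A → (Nat.card B).Prime) {p q r : ℕ} [Fact p.Prime] [Fact q.Prime]
    [Fact r.Prime] (hpq : p ≠ q) (hrq : r ≠ q) {Q R : Subgroup X} (hQG : Q ≤ G) (hRG : R ≤ G)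
    (hQ : IsPGroup q Q) (hR : IsPGroup r R) (hAQ : A ≤ normalizer (Q : Set X))
    (hAR : A ≤ normalizer (R : Set X)) (hRQ : R ≤ normalizer (Q : Set X)) {s t : X} (hs : s ∈ R)
    (ht : t ∈ Q) : ∀ u ∈ pCoreIn p G, Commute ⁅s, t⁆ u := by
  have := h.normal
  have hp : p.Prime := Fact.out
  have hq : q.Prime := Fact.out
  by_cases hPb : pCoreIn p G = ⊥
  · intro u hu
    rw [hPb, mem_bot] at hu
    rw [hu]; exact Commute.one_right _
  have hP : IsPGroup p (pCoreIn p G) := pCoreIn_isPGroup p G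
  have hpA : (Nat.card A).Coprime p := by
    obtain ⟨k, hk⟩ := IsPGroup.iff_card.1 hP
    have hk0 : k ≠ 0 := fun e => hPb (card_eq_one.1 (by rw [hk, e, pow_zero]))
    exact (h.coprime_le (pCoreIn_le p G)).coprime_dvd_right (hk ▸ dvd_pow_self p hk0)
  have hcopQ : ∀ {l : ℕ} [Fact l.Prime] {H : Subgroup X}, H ≤ G → IsPGroup l H → H ≠ ⊥ →
      (Nat.card A).Coprime l := fun {l} _ {H} hH hl hne => by
    obtain ⟨k, hk⟩ := IsPGroup.iff_card.1 hl
    have hk0 : k ≠ 0 := fun e => hne (card_eq_one.1 (by rw [hk, e, pow_zero]))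
    exact (h.coprime_le hH).coprime_dvd_right (hk ▸ dvd_pow_self l hk0)
  by_cases hQb : Q = ⊥
  · intro u _
    rw [hQb, mem_bot] at ht
    rw [ht, commutatorElement_one_right]; exact Commute.one_left u
  by_cases hRb : R = ⊥
  · intro u _
    rw [hRb, mem_bot] at hs
    rw [hs, commutatorElement_one_left]; exact Commute.one_left u
  let K := AlgebraicClosure (ZMod p)
  have hAK : (Nat.card A : K) ≠ 0 := natCast_ne_zero_of_coprime K hp hpA
  have hqK : (q : K) ≠ 0 := natCast_ne_zero_of_coprime K hp ((Nat.coprime_primes hq hp).2 hpq.symm)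
  have hyp : FpfHyp (extend K (modRep hP)) A Q R q r :=
    { isPGroup := hQ
      isPGroupR := hR
      coprimeQ := hcopQ hQG hQ hQb
      coprimeR := hcopQ hRG hR hRb
      cardNe := hAK
      sub := hsub
      normQ := hAQ
      normR := hAR
      normRQ := hRQ
      noFixed := (noFixed_modRep hP hpA (h.fix_le (pCoreIn_le p G))).extend hAK
      fixQ := h.fix_le hQG
      fixR := h.fix_le hRG }
  have hc := commute_of_fpf hq Fact.out hrq hqK _ _ A Q R rfl hyp s hs t ht
  have hmem : ⁅s, t⁆ ∈ Q := mul_mem (conj_mem_of_mem_normalizer (hRQ hs) ht) (inv_mem ht)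
  have hfix : modRep hP ⁅s, t⁆ = 1 := by
    rw [← map_one (modRep hP)]
    refine (extend_eq_iff K _ _ _).1 ?_
    rw [map_one, commutatorElement_def, mul_assoc (s * t), map_mul, hc, ← map_mul]
    simp [mul_assoc]
  have hbot := commutator_eq_bot_of_le_frattiniIn (S := zpowers ⁅s, t⁆) hP
    (by rw [Subgroup.normalizer_eq_top]; exact le_top)
    (by
      obtain ⟨k, hk⟩ := IsPGroup.iff_card.1 hQ
      exact (((Nat.coprime_primes hq hp).2 hpq.symm).pow_left k).coprime_dvd_left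
        (hk ▸ card_dvd_of_le (Subgroup.zpowers_le.2 hmem)))
    (fun g hg u hu => by
      obtain ⟨i, rfl⟩ := mem_powers_iff_mem_zpowers.2 hg
      refine (modRep_fix_iff hP _ hu).1 ?_
      show modRep hP (⁅s, t⁆ ^ i) _ = _
      rw [map_pow, hfix, one_pow, Module.End.one_apply])
  intro u hu
  exact (commutatorElement_eq_one_iff_commute.1
    (mem_bot.1 (hbot ▸ commutator_mem_commutator hu (mem_zpowers ⁅s, t⁆)))).symm

/-- A subgroup of `G` which is a `q`-group modulo the Fitting subgroup: what centralises the other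
cores lies in the Fitting subgroup. -/
theorem mem_fittingIn_of_centralizes {q : ℕ} [hq : Fact q.Prime] {G T : Subgroup X} [G.Normal] [T.Normal]
    (hTG : T ≤ G) (hT : ∀ t ∈ T, ∃ k : ℕ, t ^ q ^ k ∈ fittingIn G) {c : X} (hc : c ∈ T)
    (hcent : ∀ p : ℕ, p.Prime → p ≠ q → ∀ u ∈ pCoreIn p G, Commute c u) : c ∈ fittingIn G :=
  ⟨⟨c, hTG hc⟩, mem_fittingSubgroup_of_centralizes hq.out (T := T.subgroupOf G)
    (fun t ht => by
      obtain ⟨k, z, hz, hzt⟩ := hT t ht
      exact ⟨k, (Subtype.ext hzt : z = t ^ q ^ k) ▸ hz⟩)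
    (c := ⟨c, hTG hc⟩) hc
    (fun p hpq u hu => Subtype.ext (hcent p p.2 hpq u ⟨u, hu, rfl⟩)), rfl⟩

/-- **Fitting height two**: `G / F(G)` is nilpotent. -/
theorem FpfAction.isNilpotent_quotient {A G : Subgroup X} (h : FpfAction A G) [hGn : G.Normal]
    (hsub : ∀ B ≤ A, B ≠ ⊥ → B ≠ A → (Nat.card B).Prime) :
    Group.IsNilpotent (G.map (QuotientGroup.mk' (fittingIn G))) := by
  set F := fittingIn G
  set mk := QuotientGroup.mk' F
  set Gb := G.map mk with hGb
  have : Gb.Normal := Subgroup.Normal.map inferInstance _ (QuotientGroup.mk'_surjective _)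
  have hsol := h.solvable
  by_contra hnn
  have hne : fittingIn Gb ≠ Gb := fun e => hnn (by
    have h1 : Cfsg.fittingSubgroup Gb = ⊤ := Subgroup.map_injective Gb.subtype_injective
      (e.trans (by rw [← MonoidHom.range_eq_map, Subgroup.range_subtype]))
    exact (Group.isNilpotent_congr topEquiv).1 (h1 ▸ Solvable.fittingSubgroup_isNilpotent (G := Gb)))
  -- a prime `r` in the second layer
  set F2 := fittingIn Gb
  set mk2 := QuotientGroup.mk' F2
  set Y := Gb.map mk2 with hY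
  have : Y.Normal := Subgroup.Normal.map inferInstance _ (QuotientGroup.mk'_surjective _)
  have : Group.IsSolvable Gb := Coprime.isSolvable_map mk hsol
  have : Group.IsSolvable Y := Coprime.isSolvable_map mk2 this
  have : Nontrivial Y := (Subgroup.nontrivial_iff_ne_bot Y).2 fun e => hne (le_antisymm (fittingIn_le Gb) (by
    have := (Subgroup.map_eq_bot_iff _).1 e
    rwa [QuotientGroup.ker_mk'] at this))
  obtain ⟨r, hr⟩ : ∃ r : Nat.Primes, Cfsg.pCore (r : ℕ) Y ≠ ⊥ := by
    by_contra hall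
    push Not at hall
    refine Solvable.fittingSubgroup_ne_bot (G := Y) ?_
    rw [Solvable.fittingSubgroup_eq_iSup_pCore]
    exact iSup_eq_bot.2 hall
  have := Fact.mk r.2
  set Mb := (pCoreIn (r : ℕ) Y).comap mk2 ⊓ Gb with hMb
  have hF2M : F2 ≤ Mb := le_inf (fun x hx => by
    show mk2 x ∈ pCoreIn (r : ℕ) Y
    rw [show mk2 x = 1 from (QuotientGroup.eq_one_iff x).2 hx]; exact one_mem _) (fittingIn_le Gb)
  have hMne : ¬ Mb ≤ F2 := fun hle => hr (by
    refine (Subgroup.map_eq_bot_iff_of_injective _ Y.subtype_injective).1 (eq_bot_iff.2 fun y hy => ?_)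
    obtain ⟨x, hx, rfl⟩ := pCoreIn_le (r : ℕ) Y hy
    exact mem_bot.2 ((QuotientGroup.eq_one_iff x).2 (hle ⟨hy, hx⟩)))
  have hMpow : ∀ x ∈ Mb, ∃ k : ℕ, x ^ (r : ℕ) ^ k ∈ F2 := fun x hx => by
    obtain ⟨k, hk⟩ := pCoreIn_isPGroup (r : ℕ) Y ⟨mk2 x, hx.1⟩
    refine ⟨k, (QuotientGroup.eq_one_iff _).1 ?_⟩
    show mk2 (x ^ (r : ℕ) ^ k) = 1
    rw [map_pow]; exact congrArg Subtype.val hk
  set Ab := A.map mk with hAb
  have hAn : ∀ (H : Subgroup (X ⧸ F)) [H.Normal], Ab ≤ normalizer (H : Set (X ⧸ F)) := fun H _ => by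
    rw [Subgroup.normalizer_eq_top]; exact le_top
  have hcopM : (Nat.card Ab).Coprime (Nat.card Mb) :=
    (h.coprime.coprime_dvd_left (Subgroup.card_map_dvd A mk)).coprime_dvd_right
      ((card_dvd_of_le inf_le_right).trans (Subgroup.card_map_dvd G mk))
  obtain ⟨S, hS⟩ := Coprime.exists_invariant_sylow (hAn Mb) hcopM
    (Or.inr (Coprime.isSolvable_of_le inferInstance inf_le_right)) (r : ℕ)
  set Rb := (S : Subgroup Mb).map Mb.subtype with hRb
  have hRbM : Rb ≤ Mb := Subgroup.map_subtype_le _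
  have hRbp : IsPGroup (r : ℕ) Rb := S.2.map _
  have hsup : Rb ⊔ F2 = Mb := sylow_sup_eq hF2M (by rw [Subgroup.normalizer_eq_top]; exact le_top) hMpow S
  -- it moves some other core
  obtain ⟨q, hqr, s, hs, t, ht, hst⟩ : ∃ q : Nat.Primes, (r : ℕ) ≠ q ∧
      ∃ s ∈ Rb, ∃ t ∈ pCoreIn (q : ℕ) Gb, ¬ Commute s t := by
    by_contra hall
    push Not at hall
    have hOr : pCoreIn (r : ℕ) Gb ≤ Rb := fun x hx => by
      have hxM : x ∈ Mb := hF2M (pCoreIn_le_fittingIn _ Gb hx)
      have h1 := Solvable.normal_pgroup_le_sylow (N := (pCoreIn (r : ℕ) Gb).subgroupOf Mb)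
        ((pCoreIn_isPGroup (r : ℕ) Gb).of_equiv
          (subgroupOfEquivOfLe ((pCoreIn_le_fittingIn (r : ℕ) Gb).trans hF2M)).symm) S
      exact ⟨⟨x, hxM⟩, h1 hx, rfl⟩
    have hF2n : F2 ≤ normalizer (Rb : Set (X ⧸ F)) := by
      show (Cfsg.fittingSubgroup Gb).map Gb.subtype ≤ _
      rw [Solvable.fittingSubgroup_eq_iSup_pCore, Subgroup.map_iSup]
      refine iSup_le fun p => ?_
      by_cases hpr : (p : ℕ) = r
      · rw [hpr]; exact hOr.trans le_normalizer
      · intro u hu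
        refine mem_normalizer_of_conj_mem fun g hg => ?_
        have := hall p (fun e => hpr e.symm) g hg u hu
        rw [← this.eq, mul_inv_cancel_right]
        exact hg
    have hRn : (Rb.subgroupOf Mb).Normal :=
      normal_subgroupOf_of_le_normalizer (hsup.ge.trans (sup_le le_normalizer hF2n))
    have hSn : (S : Subgroup Mb).Normal := by
      rwa [hRb, subgroupOf, comap_map_eq_self_of_injective Mb.subtype_injective] at hRn
    have hRbn : Rb.Normal := by
      have : (Cfsg.pCore (r : ℕ) Mb).Characteristic := Solvable.pCore_characteristic _ _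
      have e : (S : Subgroup Mb) = Cfsg.pCore (r : ℕ) Mb :=
        le_antisymm (Solvable.le_pCore hSn S.2) (Solvable.pCore_le_sylow S)
      rw [hRb, e]
      exact Solvable.map_subtype_normal _
    exact hMne (hsup.ge.trans (sup_le ((le_pCoreIn (hRbM.trans inf_le_right) hRbp).trans
      (pCoreIn_le_fittingIn _ Gb)) le_rfl))
  have := Fact.mk q.2
  -- lifting
  have hFG : F ≤ G := fittingIn_le G
  set T := (pCoreIn (q : ℕ) Gb).comap mk with hT
  have hTG : T ≤ G := fun x hx => by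
    obtain ⟨g, hg, hgx⟩ := pCoreIn_le (q : ℕ) Gb hx
    have h1 := hFG (QuotientGroup.eq.1 hgx)
    exact (Subgroup.mul_mem_cancel_left G (inv_mem hg)).1 h1
  have hFT : F ≤ T := fun x hx => by
    show mk x ∈ pCoreIn (q : ℕ) Gb
    rw [show mk x = 1 from (QuotientGroup.eq_one_iff x).2 hx]; exact one_mem _
  have hTn : T.Normal := inferInstance
  have hTpow : ∀ x ∈ T, ∃ k : ℕ, x ^ (q : ℕ) ^ k ∈ F := fun x hx => by
    obtain ⟨k, hk⟩ := pCoreIn_isPGroup (q : ℕ) Gb ⟨mk x, hx⟩
    refine ⟨k, (QuotientGroup.eq_one_iff _).1 ?_⟩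
    show mk (x ^ (q : ℕ) ^ k) = 1
    rw [map_pow]; exact congrArg Subtype.val hk
  have hAT : A ≤ normalizer (T : Set X) := by rw [Subgroup.normalizer_eq_top]; exact le_top
  obtain ⟨SQ, hSQ⟩ := Coprime.exists_invariant_sylow hAT (h.coprime_le hTG)
    (Or.inr (Coprime.isSolvable_of_le hsol hTG)) (q : ℕ)
  set Q := (SQ : Subgroup T).map T.subtype with hQdef
  have hQT : Q ≤ T := Subgroup.map_subtype_le _
  have hQp : IsPGroup (q : ℕ) Q := SQ.2.map _
  have hQsup : Q ⊔ F = T := sylow_sup_eq hFT (by rw [Subgroup.normalizer_eq_top]; exact le_top) hTpow SQ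
  -- Frattini
  have hfrat : ∀ g ∈ G, ∃ n ∈ G ⊓ normalizer (Q : Set X), mk n = mk g := by
    intro g hg
    have hgT : Q.map (MulAut.conj g).toMonoidHom ≤ T := by
      rintro _ ⟨x, hx, rfl⟩; exact hTn.conj_mem x (hQT hx) g
    let Q' : Subgroup T := (Q.map (MulAut.conj g).toMonoidHom).subgroupOf T
    have hQ' : Nat.card Q' = (q : ℕ) ^ (Nat.card T).factorization (q : ℕ) := by
      rw [Coprime.card_subgroupOf hgT, Coprime.card_map_conj, hQdef,
        card_map_of_injective T.subtype_injective]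
      exact SQ.card_eq_multiplicity
    obtain ⟨y, hy⟩ := MulAction.exists_smul_eq T SQ (Sylow.ofCard Q' hQ')
    have h1 : (SQ : Subgroup T).map (MulAut.conj y).toMonoidHom = Q' :=
      congrArg (fun P : Sylow (q : ℕ) T => (P : Subgroup T)) hy
    replace h1 := congrArg (Subgroup.map T.subtype) h1
    rw [Coprime.map_conj_subtype, subgroupOf_map_subtype, inf_eq_left.2 hgT] at h1
    have hn : (y : X)⁻¹ * g ∈ normalizer (Q : Set X) := by
      rw [Coprime.mem_normalizer_iff_map_conj, ← Coprime.map_conj_conj, ← h1, Coprime.map_conj_conj,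
        inv_mul_cancel]
      simp [MulEquiv.toMonoidHom, Subgroup.ext_iff, Subgroup.mem_map, hQdef]
    obtain ⟨u, hu, f, hf, huf⟩ := Subgroup.mem_sup_of_normal_right.1 (hQsup.ge (show (y : X) ∈ T from y.2))
    refine ⟨u * ((y : X)⁻¹ * g), mem_inf.2 ⟨mul_mem (hTG (hQT hu)) (mul_mem (inv_mem (hTG y.2)) hg),
      mul_mem (le_normalizer hu) hn⟩, ?_⟩
    have hf1 : mk f = 1 := (QuotientGroup.eq_one_iff f).2 hf
    rw [← huf, mul_inv_rev, map_mul, map_mul, map_mul, map_inv, map_inv, hf1]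
    group
  set W := (G ⊓ normalizer (Q : Set X)) ⊓ Rb.comap mk with hW
  have hWG : W ≤ G := inf_le_left.trans inf_le_left
  have hAN : A ≤ normalizer ((G ⊓ normalizer (Q : Set X) : Subgroup X) : Set X) := fun a ha => by
    refine mem_normalizer_of_conj_mem fun x hx => mem_inf.2 ⟨hGn.conj_mem x hx.1 a, ?_⟩
    exact mul_mem (mul_mem (hSQ ha) hx.2) (inv_mem (hSQ ha))
  have hAW : A ≤ normalizer (W : Set X) := fun a ha => mem_normalizer_of_conj_mem fun x hx => by
    refine ⟨conj_mem_of_mem_normalizer (hAN ha) hx.1, ?_⟩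
    show mk (a * x * a⁻¹) ∈ Rb
    rw [map_mul, map_mul, map_inv]
    exact conj_mem_of_mem_normalizer (hS (mem_map_of_mem mk ha)) hx.2
  obtain ⟨SR, hSR⟩ := Coprime.exists_invariant_sylow hAW (h.coprime_le hWG)
    (Or.inr (Coprime.isSolvable_of_le hsol hWG)) (r : ℕ)
  set R := (SR : Subgroup W).map W.subtype with hRdef
  have hRW : R ≤ W := Subgroup.map_subtype_le _
  have hRsup : R ⊔ (W ⊓ F) = W := by
    refine sylow_sup_eq inf_le_left ?_ (fun x hx => ?_) SR
    · intro x hx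
      refine mem_normalizer_of_conj_mem fun y hy =>
        mem_inf.2 ⟨mul_mem (mul_mem hx hy.1) (inv_mem hx), (inferInstance : F.Normal).conj_mem y hy.2 x⟩
    · obtain ⟨k, hk⟩ := hRbp ⟨mk x, hx.2⟩
      refine ⟨k, mem_inf.2 ⟨pow_mem hx _, (QuotientGroup.eq_one_iff _).1 ?_⟩⟩
      show mk (x ^ (r : ℕ) ^ k) = 1
      rw [map_pow]; exact congrArg Subtype.val hk
  -- the moved pair lifts
  obtain ⟨s', hs', rfl⟩ : ∃ s' ∈ R, mk s' = s := by
    obtain ⟨g, hg, hgs⟩ := (hRbM.trans inf_le_right) hs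
    obtain ⟨n, hn, hng⟩ := hfrat g hg
    have hnW : n ∈ W := ⟨hn, by show mk n ∈ Rb; rwa [hng, hgs]⟩
    obtain ⟨u, hu, f, hf, huf⟩ := (Coprime.mem_sup_of_le_normalizer' (fun x hx => mem_normalizer_of_conj_mem fun y hy =>
      mem_inf.2 ⟨mul_mem (mul_mem (hRW hx) hy.1) (inv_mem (hRW hx)), (inferInstance : F.Normal).conj_mem y hy.2 x⟩)).1
      (sup_comm R (W ⊓ F) ▸ hRsup.ge hnW)
    refine ⟨u, hu, ?_⟩
    rw [← hgs, ← hng, ← huf, map_mul, show mk f = 1 from (QuotientGroup.eq_one_iff f).2 hf.2, mul_one]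
  obtain ⟨t', ht', rfl⟩ : ∃ t' ∈ Q, mk t' = t := by
    obtain ⟨x, hx⟩ := QuotientGroup.mk'_surjective F t
    have hxT : x ∈ T := by
      show mk x ∈ pCoreIn (q : ℕ) Gb
      rw [show mk x = t from hx]; exact ht
    obtain ⟨u, hu, f, hf, huf⟩ := Subgroup.mem_sup_of_normal_right.1 (hQsup.ge hxT)
    refine ⟨u, hu, ?_⟩
    rw [← hx, ← huf, map_mul, show mk f = 1 from (QuotientGroup.eq_one_iff f).2 hf, mul_one]
  refine hst (commutatorElement_eq_one_iff_commute.1 ?_)
  rw [← map_commutatorElement]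
  refine (QuotientGroup.eq_one_iff _).2 (mem_fittingIn_of_centralizes hTG hTpow
    (hQT (mul_mem (conj_mem_of_mem_normalizer (hRW hs').1.2 ht') (inv_mem ht'))) fun p hp hpq => ?_)
  have := Fact.mk hp
  exact h.commute_core hsub hpq hqr (hQT.trans hTG) (hRW.trans hWG) hQp (SR.2.map _) hSQ hSR
    (fun x hx => (hRW hx).1.2) hs' ht'

end CfsgLib.FixedFree
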