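import Cfsg.Agent.Lib.FixedFree.CoreIrred
import Cfsg.Agent.Lib.FixedFree.Cores

/-!
# When a fixed-point-free action forces an abelian image
-/

set_option autoImplicit false

namespace CfsgLib.FixedFree

open Module Subgroup CfsgLib.HallHigman
open scoped commutatorElement

universe u v w

variable {K : Type v} [Field K] [IsAlgClosed K]

/-- A faithful irreducible module for `R A` without fixed points of `A`. -/
structure DerivedConfig {G : Type u} [Group G] {V : Type w} [AddCommGroup V] [Module K V]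
    (ρ : Representation K G V) (A R : Subgroup G) (r : ℕ) : Prop where
  injective : Function.Injective ρ
  irreducible : ∀ W : Submodule K V, (∀ g : G, ∀ w ∈ W, ρ g w ∈ W) → W = ⊥ ∨ W = ⊤
  normal : R.Normal
  sup_eq : R ⊔ A = ⊤
  isPGroup : IsPGroup r R
  coprime : (Nat.card A).Coprime r
  cardNe : (Nat.card A : K) ≠ 0
  sub : ∀ B ≤ A, B ≠ ⊥ → B ≠ A → (Nat.card B).Prime
  noFixed : NoFixed ρ A
  fixR : R ⊓ centralizer (A : Set G) = ⊥

section

variable {G : Type u} [Group G] [Finite G] {V : Type w} [AddCommGroup V] [Module K V]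
  {ρ : Representation K G V} {A R : Subgroup G} {r : ℕ}

omit [IsAlgClosed K] [Finite G] in
/-- A normal subgroup fixing a nonzero vector is trivial. -/
theorem DerivedConfig.eq_bot_of_fix (h : DerivedConfig ρ A R r) {N : Subgroup G} [hN : N.Normal]
    {w : V} (hw : w ≠ 0) (hfix : ∀ n ∈ N, ρ n w = w) : N = ⊥ := by
  let F : Submodule K V :=
    { carrier := {v | ∀ n ∈ N, ρ n v = v}
      zero_mem' := fun n _ => map_zero _
      add_mem' := fun {x y} hx hy n hn => by rw [map_add, hx n hn, hy n hn]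
      smul_mem' := fun c {x} hx n hn => by rw [map_smul, hx n hn] }
  have hinv : ∀ g : G, ∀ v ∈ F, ρ g v ∈ F := fun g v hv n hn => by
    rw [← rep_self_mul_apply, show n * g = g * (g⁻¹ * n * g) by group, rep_self_mul_apply,
      hv _ (by simpa using hN.conj_mem n hn g⁻¹)]
  have htop := (h.irreducible F hinv).resolve_left ((Submodule.ne_bot_iff _).2 ⟨w, hfix, hw⟩)
  exact eq_bot_iff.2 fun n hn => Subgroup.mem_bot.2 (h.injective (LinearMap.ext fun v => by
    rw [map_one]; exact (htop ▸ Submodule.mem_top : v ∈ F) n hn))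

variable [FiniteDimensional K V]

/-- A weight space of the centre of `R`: it is fixed-point-free for an element of prime order. -/
theorem DerivedConfig.exists_weight_space [Nontrivial V] (h : DerivedConfig ρ A R r) [Fact r.Prime]
    (hR : R ≠ ⊥) : ∃ a ∈ A, (orderOf a).Prime ∧ zpowers a ≠ A ∧ ∃ W : Submodule K V, W ≠ ⊥ ∧
      (∀ g ∈ R, ∀ w ∈ W, ρ g w ∈ W) ∧ (∀ w ∈ W, ρ a w ∈ W) ∧ ∀ w ∈ W, ρ a w = w → w = 0 := by
  classical
  have hn := h.normal
  set Z := centerIn R with hZ
  have hZn : Z.Normal := centerIn_normal R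
  have hZc : ∀ x ∈ Z, ∀ y ∈ Z, Commute x y := fun x hx y hy =>
    (mem_centerIn.1 hy).2 x (centerIn_le R hx)
  have hAn : A ≤ normalizer (Z : Set G) := by rw [Subgroup.normalizer_eq_top]; exact le_top
  obtain ⟨v, χ, -, hv0, hv⟩ := exists_weight ρ Z (M := ⊤) top_ne_bot (fun _ _ _ _ => Submodule.mem_top)
    fun x hx y hy w _ => by rw [(hZc x hx y hy).eq]
  have hne : A ⊓ charStabilizer Z χ ≠ ⊥ := stab_ne_bot h.noFixed hAn hv hv0
  have hneA : A ⊓ charStabilizer Z χ ≠ A := fun e => by
    have hcop : (Nat.card A).Coprime (Nat.card Z) := by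
      obtain ⟨k, hk⟩ := IsPGroup.iff_card.1 (h.isPGroup.to_le (centerIn_le R))
      exact hk ▸ h.coprime.pow_right k
    have hsol : Group.IsSolvable Z := by
      have := (h.isPGroup.to_le (centerIn_le R)).isNilpotent
      infer_instance
    have hZA : ⁅Z, A⁆ = Z := commutator_eq_of_fpf hAn hcop hsol
      (le_bot_iff.1 ((inf_le_inf_right _ (centerIn_le R)).trans h.fixR.le))
    have hle : ⁅Z, A⁆ ≤ fixer ρ (K ∙ v) := commutator_le.2 fun y hy c hc w hw => by
      obtain ⟨d, rfl⟩ := Submodule.mem_span_singleton.1 hw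
      rw [map_smul, fix_commutator hv (e.ge hc).2 hy]
    have hb := h.eq_bot_of_fix (N := Z) hv0 fun n hn =>
      hle (hZA.ge hn) v (Submodule.mem_span_singleton_self v)
    have : Nontrivial R := (Subgroup.nontrivial_iff_ne_bot R).2 hR
    have hc : Nontrivial (center R) := IsPGroup.center_nontrivial h.isPGroup
    exact (Subgroup.nontrivial_iff_ne_bot (center R)).1 hc
      ((Subgroup.map_eq_bot_iff_of_injective _ R.subtype_injective).1 hb)
  obtain ⟨a, ha, ha1⟩ := (Subgroup.bot_or_exists_ne_one _).resolve_left hne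
  have hprime := h.sub _ inf_le_left hne hneA
  have hza : zpowers a = A ⊓ charStabilizer Z χ :=
    (eq_bot_or_eq_of_le_prime hprime (Subgroup.zpowers_le.2 ha)).resolve_left
      fun e => ha1 (zpowers_eq_bot.1 e)
  refine ⟨a, ha.1, by rw [← Nat.card_zpowers, hza]; exact hprime, hza ▸ hneA, charSpace ρ Z χ,
    (Submodule.ne_bot_iff _).2 ⟨v, hv, hv0⟩, fun g hg w hw z hz => ?_,
    fun w hw => charSpace_map_mem ha.2 hw, fun w hw hwa => ?_⟩
  · rw [← rep_self_mul_apply, ← ((mem_centerIn.1 hz).2 g hg).eq, rep_self_mul_apply, hw z hz, map_smul]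
  · refine eq_zero_of_stab_fix h.noFixed hAn hw (fun e => h.cardNe ?_) fun c hc => ?_
    · obtain ⟨m, hm⟩ := Subgroup.card_dvd_of_le (inf_le_left : A ⊓ charStabilizer Z χ ≤ A)
      rw [hm, Nat.cast_mul, e, zero_mul]
    · obtain ⟨i, rfl⟩ := mem_powers_iff_mem_zpowers.2 (hza.ge hc)
      show ρ (a ^ i) w = w
      clear hc
      induction i with
      | zero => simp
      | succ i ih => rw [pow_succ', rep_self_mul_apply, ih, hwa]

end

/-- If `R` is abelian in every faithful irreducible configuration, its derived group acts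
trivially. -/
theorem derived_trivial {G : Type u} [Group G] [Finite G] {V : Type w} [AddCommGroup V] [Module K V]
    [FiniteDimensional K V] (ρ : Representation K G V) {A R : Subgroup G} {r : ℕ} [hr : Fact r.Prime]
    (hR : IsPGroup r R) (hAR : A ≤ normalizer (R : Set G)) (hcop : (Nat.card A).Coprime r)
    (hrK : (r : K) ≠ 0) (hAK : (Nat.card A : K) ≠ 0)
    (hsub : ∀ B ≤ A, B ≠ ⊥ → B ≠ A → (Nat.card B).Prime) (hfix : NoFixed ρ A)
    (hfixR : R ⊓ centralizer (A : Set G) = ⊥)
    (hab : ∀ {G' : Type u} [Group G'] [Finite G'] {V' : Type w} [AddCommGroup V'] [Module K V']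
      [FiniteDimensional K V'] [Nontrivial V'] (σ : Representation K G' V') (A' R' : Subgroup G')
      (f : A →* G'), f.range = A' → DerivedConfig σ A' R' r → ∀ x ∈ R', ∀ y ∈ R', Commute x y) :
    ∀ x ∈ R, ∀ y ∈ R, ρ ⁅x, y⁆ = 1 := by
  classical
  set D := ⁅R, R⁆ with hD
  suffices h : ∀ d ∈ D, ρ d = 1 from fun x hx y hy => h _ (commutator_mem_commutator hx hy)
  by_contra hcon
  push Not at hcon
  obtain ⟨d₀, hd₀, hd₀1⟩ := hcon
  have hDR : D ≤ R := commutator_le.2 fun a ha b hb =>
    mul_mem (mul_mem (mul_mem ha hb) (inv_mem ha)) (inv_mem hb)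
  set S := R ⊔ A with hS
  have hRS : R ≤ S := le_sup_left
  have hAS : A ≤ S := le_sup_right
  have hSR : S ≤ normalizer (R : Set G) := sup_le le_normalizer hAR
  have hSD : ∀ g ∈ S, g ∈ normalizer (D : Set G) := fun g hg => by
    rw [mem_normalizer_iff_map_conj_eq, map_commutator, mem_normalizer_iff_map_conj_eq.1 (hSR hg)]
  have : Fintype D := Fintype.ofFinite D
  have hDK : (Nat.card D : K) ≠ 0 := by
    obtain ⟨k, hk⟩ := IsPGroup.iff_card.1 (hR.to_le hDR)
    rw [hk, Nat.cast_pow]; exact pow_ne_zero _ hrK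
  set N : Module.End K V := ∑ d : D, ρ (d : G) with hN
  have hNfix : ∀ d ∈ D, ∀ v, ρ d (N v) = N v := fun d hd v => by
    rw [hN, LinearMap.sum_apply, map_sum]
    conv_rhs => rw [← Equiv.sum_comp (Equiv.mulLeft (⟨d, hd⟩ : D))]
    exact Finset.sum_congr rfl fun c _ => (rep_self_mul_apply ρ d c v).symm
  have hNN : ∀ v, N (N v) = (Nat.card D : K) • N v := fun v => by
    conv_lhs => rw [hN, LinearMap.sum_apply]
    rw [Finset.sum_congr rfl fun (c : D) _ => hNfix c c.2 v, Finset.sum_const, Finset.card_univ,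
      ← Nat.card_eq_fintype_card, ← Nat.cast_smul_eq_nsmul K]
  have hNinv : ∀ g ∈ S, ∀ v, N (ρ g v) = ρ g (N v) := fun g hg v => by
    rw [hN, LinearMap.sum_apply, LinearMap.sum_apply, map_sum]
    let e : D ≃ D :=
      { toFun := fun c => ⟨g⁻¹ * c * g, inv_conj_mem_of_mem_normalizer (hSD g hg) c.2⟩
        invFun := fun c => ⟨g * c * g⁻¹, conj_mem_of_mem_normalizer (hSD g hg) c.2⟩
        left_inv := fun c => Subtype.ext (by group)
        right_inv := fun c => Subtype.ext (by group) }
    conv_rhs => rw [← Equiv.sum_comp e]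
    refine Finset.sum_congr rfl fun c _ => ?_
    show ρ c (ρ g v) = ρ g (ρ (g⁻¹ * c * g) v)
    rw [← rep_self_mul_apply, ← rep_self_mul_apply]
    group
  have hEb : LinearMap.ker N ≠ ⊥ := fun e => hd₀1 (LinearMap.ext fun v => by
    have h1 : (Nat.card D : K) • v - N v ∈ LinearMap.ker N := by
      rw [LinearMap.mem_ker, map_sub, map_smul, hNN, sub_self]
    rw [e, Submodule.mem_bot, sub_eq_zero] at h1
    have h2 := hNfix d₀ hd₀ v
    rw [← h1, map_smul] at h2
    exact smul_right_injective V hDK h2)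
  obtain ⟨W, ⟨hWE, hWS, hWb⟩, hWmin⟩ := wellFounded_lt.has_min
    {W : Submodule K V | W ≤ LinearMap.ker N ∧ (∀ g ∈ S, ∀ w ∈ W, ρ g w ∈ W) ∧ W ≠ ⊥}
    ⟨_, le_rfl, fun g hg w hw => by
      rw [LinearMap.mem_ker] at hw ⊢
      rw [hNinv g hg, hw, map_zero], hEb⟩
  have hfixD : ∀ w ∈ W, (∀ d ∈ D, ρ d w = w) → w = 0 := fun w hw hwd => by
    have h1 : N w = (Nat.card D : K) • w := by
      rw [hN, LinearMap.sum_apply, Finset.sum_congr rfl fun (c : D) _ => hwd c c.2, Finset.sum_const,
        Finset.card_univ, ← Nat.card_eq_fintype_card, ← Nat.cast_smul_eq_nsmul K]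
    rw [LinearMap.mem_ker.1 (hWE hw)] at h1
    exact (smul_eq_zero.1 h1.symm).resolve_left hDK
  set σ₀ := restrictRep ρ S W hWS
  set π := QuotientGroup.mk' σ₀.ker
  let σ : Representation K (S ⧸ σ₀.ker) W := QuotientGroup.lift σ₀.ker σ₀ le_rfl
  have hσ : ∀ t, σ (π t) = σ₀ t := fun t => QuotientGroup.lift_mk' _ _ t
  have hσinj : Function.Injective σ := by
    intro a b hab
    obtain ⟨a, rfl⟩ := QuotientGroup.mk'_surjective σ₀.ker a
    obtain ⟨b, rfl⟩ := QuotientGroup.mk'_surjective σ₀.ker b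
    rw [hσ, hσ] at hab
    exact QuotientGroup.eq.2 (MonoidHom.mem_ker.2 (by
      rw [map_mul, ← hab, ← map_mul, inv_mul_cancel, map_one]))
  have : Nontrivial W := Submodule.nontrivial_iff_ne_bot.2 hWb
  have hRn : (R.subgroupOf S).Normal := normal_subgroupOf_of_le_normalizer hSR
  have hcR : (Nat.card (A.subgroupOf S)).Coprime (Nat.card (R.subgroupOf S)) := by
    obtain ⟨k, hk⟩ := IsPGroup.iff_card.1 hR
    rw [Coprime.card_subgroupOf hAS, Coprime.card_subgroupOf hRS, hk]
    exact hcop.pow_right k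
  have hdvd : Nat.card ((A.subgroupOf S).map π) ∣ Nat.card A :=
    Coprime.card_subgroupOf hAS ▸ Subgroup.card_map_dvd _ π
  have hfixS : R.subgroupOf S ⊓ centralizer (A.subgroupOf S : Set S) = ⊥ := eq_bot_iff.2 fun g hg => by
    have h1 : (g : G) ∈ R ⊓ centralizer (A : Set G) := ⟨hg.1, mem_centralizer_iff.2 fun c hc =>
      congrArg Subtype.val (mem_centralizer_iff.1 hg.2 ⟨c, hAS hc⟩ hc)⟩
    rw [hfixR, mem_bot] at h1
    exact mem_bot.2 (Subtype.ext h1)
  have hconf : DerivedConfig σ ((A.subgroupOf S).map π) ((R.subgroupOf S).map π) r :=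
    { injective := hσinj
      irreducible := fun U hU => by
        by_cases hUb : U = ⊥
        · exact Or.inl hUb
        right
        have hmap : U.map W.subtype = W := eq_of_le_of_not_lt (Submodule.map_subtype_le _ _)
          (hWmin _ ⟨(Submodule.map_subtype_le _ _).trans hWE, by
            rintro g hg _ ⟨w, hw, rfl⟩
            exact ⟨σ (π ⟨g, hg⟩) w, hU _ w hw, by rw [hσ]; rfl⟩,
            fun hb => hUb (eq_bot_of_map_subtype hb)⟩)
        exact Submodule.map_injective_of_injective W.subtype_injective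
          (by rw [hmap, Submodule.map_subtype_top])
      normal := Subgroup.Normal.map hRn _ (QuotientGroup.mk'_surjective _)
      sup_eq := by
        rw [← Subgroup.map_sup, ← subgroupOf_sup hRS hAS, subgroupOf_self,
          Subgroup.map_top_of_surjective _ (QuotientGroup.mk'_surjective _)]
      isPGroup := (hR.of_equiv (subgroupOfEquivOfLe hRS).symm).map π
      coprime := hcop.coprime_dvd_left hdvd
      cardNe := fun e => hAK (by
        obtain ⟨m, hm⟩ := hdvd
        rw [hm, Nat.cast_mul, e, zero_mul])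
      sub := fun B hB hBb hBA => by
        have hmap : (((A.subgroupOf S) ⊓ B.comap π).map S.subtype ⊓ A).subgroupOf S
            = A.subgroupOf S ⊓ B.comap π := by
          rw [inf_eq_left.2 (show ((A.subgroupOf S) ⊓ B.comap π).map S.subtype ≤ A by
            rintro _ ⟨g, hg, rfl⟩; exact hg.1)]
          exact comap_map_eq_self_of_injective S.subtype_injective _
        have himg : (A.subgroupOf S ⊓ B.comap π).map π = B := by
          refine le_antisymm (by rintro _ ⟨g, hg, rfl⟩; exact hg.2) fun y hy => ?_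
          obtain ⟨g, hg, rfl⟩ := hB hy
          exact ⟨g, ⟨hg, hy⟩, rfl⟩
        set C := ((A.subgroupOf S) ⊓ B.comap π).map S.subtype ⊓ A
        have hC : (Nat.card C).Prime := hsub C inf_le_right
          (fun e => hBb (by rw [← himg, ← hmap, e, bot_subgroupOf, Subgroup.map_bot]))
          (fun e => hBA (by rw [← himg, ← hmap, e]))
        have hd : Nat.card B ∣ Nat.card C := by
          rw [← himg, ← hmap]
          exact (Subgroup.card_map_dvd _ π).trans
            (Coprime.card_subgroupOf (inf_le_right.trans hAS)).dvd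
        rcases hC.eq_one_or_self_of_dvd _ hd with h1 | h1
        · exact absurd (card_eq_one.1 h1) hBb
        · exact h1.symm ▸ hC
      noFixed := (hfix.restrict hAS hWS).map hσ
      fixR := by
        rw [← Coprime.map_inf_centralizer π le_normalizer_of_normal hcR (Or.inr (by
            have := (hR.of_equiv (subgroupOfEquivOfLe hRS).symm).isNilpotent
            infer_instance)), hfixS, Subgroup.map_bot] }
  have hcomm := hab σ _ _ (π.comp (inclusion hAS)) (by
    rw [MonoidHom.range_comp, Subgroup.inclusion_range]) hconf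
  obtain ⟨w, hw, hw0⟩ := Submodule.exists_mem_ne_zero_of_ne_bot hWb
  refine hw0 (hfixD w hw fun d hd => ?_)
  have hle : D ≤ fixer ρ W := commutator_le.2 fun x hx y hy v hv => by
    have h1 : σ₀ ⁅(⟨x, hRS hx⟩ : S), (⟨y, hRS hy⟩ : S)⁆ = 1 := by
      rw [← hσ, map_commutatorElement, commutatorElement_eq_one_iff_commute.2
        (hcomm _ (mem_map_of_mem π (show (⟨x, hRS hx⟩ : S) ∈ R.subgroupOf S from hx)) _
          (mem_map_of_mem π (show (⟨y, hRS hy⟩ : S) ∈ R.subgroupOf S from hy))), map_one]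
    exact congrArg Subtype.val (LinearMap.congr_fun h1 ⟨v, hv⟩)
  exact hle hd w hw

end CfsgLib.FixedFree
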