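import Cfsg.Agent.Lib.FixedFree.Semidirect
import Cfsg.Agent.Lib.FixedFree.DerivedRep

/-!
# When the derived group is nilpotent
-/

set_option autoImplicit false

namespace CfsgLib.FixedFree

open Subgroup CfsgLib.HallHigman
open scoped commutatorElement

universe u v

variable {X : Type u} [Group X] [Finite X]

omit [Finite X] in
/-- An element killed modulo `P` lies in every subgroup that contains `P` and it. -/
theorem mem_pCoreIn_of_isNilpotent [Finite X] {r : ℕ} [Fact r.Prime] {H : Subgroup X}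
    (hH : Group.IsNilpotent H) {S : Subgroup X} (hSH : S ≤ H) (hS : IsPGroup r S) :
    S ≤ pCoreIn r H := by
  obtain ⟨P, hP⟩ := (hS.of_equiv (subgroupOfEquivOfLe hSH).symm).exists_le_sylow
  have hn : (P : Subgroup H).Normal :=
    (Group.isNilpotent_of_finite_tfae (G := H)).out 0 3 rfl rfl |>.mp hH r ⟨Fact.out⟩ P
  exact fun x hx => ⟨⟨x, hSH hx⟩, Solvable.le_pCore hn P.2 (hP hx), rfl⟩

theorem commute_pCoreIn {p q : ℕ} [Fact p.Prime] [Fact q.Prime] (hpq : p ≠ q) {H : Subgroup X}
    [H.Normal] : ∀ x ∈ pCoreIn p H, ∀ y ∈ pCoreIn q H, Commute x y := fun x hx y hy =>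
  Subgroup.commute_of_normal_of_disjoint _ _ inferInstance inferInstance
    (IsPGroup.disjoint_of_ne p q hpq _ _ (pCoreIn_isPGroup p H) (pCoreIn_isPGroup q H)) x y hx hy

/-- `G / F(G)` is abelian when the derived groups of invariant `r`-subgroups centralise the other
cores. -/
theorem FpfAction.commutator_mem_fitting {A G : Subgroup X} (h : FpfAction A G) [hGn : G.Normal]
    (hnil : Group.IsNilpotent (G.map (QuotientGroup.mk' (fittingIn G))))
    (hker : ∀ p r : ℕ, p.Prime → r.Prime → p ≠ r → ∀ R : Subgroup X, R ≤ G → IsPGroup r R →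
      A ≤ normalizer (R : Set X) → ∀ x ∈ R, ∀ y ∈ R, ∀ u ∈ pCoreIn p G, Commute ⁅x, y⁆ u) :
    ∀ g ∈ G, ∀ g' ∈ G, ⁅g, g'⁆ ∈ fittingIn G := by
  set F := fittingIn G
  set mk := QuotientGroup.mk' F
  set Gb := G.map mk
  have : Gb.Normal := Subgroup.Normal.map inferInstance _ (QuotientGroup.mk'_surjective _)
  have hex : ∀ r : Nat.Primes, ∃ S : Sylow (r : ℕ) G,
      A ≤ normalizer (((S : Subgroup G).map G.subtype : Subgroup X) : Set X) := fun r => by
    have := Fact.mk r.2
    exact Coprime.exists_invariant_sylow h.act_le h.coprime (Or.inr h.solvable) r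
  choose S hS using hex
  set H := ⨆ r : Nat.Primes, (S r : Subgroup G) with hH
  have htop : H = ⊤ := Solvable.eq_top_of_forall_prime fun p hp hd => by
    have := Fact.mk hp
    exact (S ⟨p, hp⟩).not_dvd_index
      (hd.trans (Subgroup.index_dvd_of_le (le_iSup (fun r : Nat.Primes => (S r : Subgroup G)) ⟨p, hp⟩)))
  let R : Nat.Primes → Subgroup X := fun r => (S r : Subgroup G).map G.subtype
  have hcomm : ∀ r r' : Nat.Primes, ∀ x ∈ R r, ∀ y ∈ R r', ⁅x, y⁆ ∈ F := by
    intro r r' x hx y hy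
    have := Fact.mk r.2
    have := Fact.mk r'.2
    have hRb : ∀ q : Nat.Primes, (R q).map mk ≤ pCoreIn (q : ℕ) Gb := fun q => by
      have := Fact.mk q.2
      exact mem_pCoreIn_of_isNilpotent hnil (Subgroup.map_mono (map_subtype_le _))
        (((S q).2.map _).map mk)
    by_cases hrr : r = r'
    · subst hrr
      set T := (pCoreIn (r : ℕ) Gb).comap mk ⊓ G
      have hTn : T.Normal := inferInstance
      have hpow : ∀ t ∈ T, ∃ k : ℕ, t ^ (r : ℕ) ^ k ∈ F := fun t ht => by
        obtain ⟨k, hk⟩ := pCoreIn_isPGroup (r : ℕ) Gb ⟨mk t, ht.1⟩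
        refine ⟨k, (QuotientGroup.eq_one_iff _).1 ?_⟩
        show mk (t ^ (r : ℕ) ^ k) = 1
        rw [map_pow]; exact congrArg Subtype.val hk
      have hxT : ∀ z ∈ R r, z ∈ T := fun z hz => ⟨hRb r (mem_map_of_mem mk hz), map_subtype_le _ hz⟩
      refine mem_fittingIn_of_centralizes (T := T) inf_le_right hpow
        (mul_mem (mul_mem (mul_mem (hxT x hx) (hxT y hy)) (inv_mem (hxT x hx))) (inv_mem (hxT y hy)))
        fun p hp hpr u hu => ?_
      exact hker p r hp r.2 hpr (R r) (map_subtype_le _) ((S r).2.map _) (hS r) x hx y hy u hu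
    · refine (QuotientGroup.eq_one_iff _).1 ?_
      show mk ⁅x, y⁆ = 1
      rw [map_commutatorElement, commutatorElement_eq_one_iff_commute]
      exact commute_pCoreIn (fun e => hrr (Subtype.ext e)) _ (hRb r (mem_map_of_mem mk hx)) _
        (hRb r' (mem_map_of_mem mk hy))
  have hGle : G = ⨆ r, R r := by
    rw [← Subgroup.map_iSup, ← hH, htop, ← MonoidHom.range_eq_map, Subgroup.range_subtype]
  intro g hg g' hg'
  refine (QuotientGroup.eq_one_iff _).1 ?_
  show mk ⁅g, g'⁆ = 1
  rw [map_commutatorElement, commutatorElement_eq_one_iff_commute]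
  have key : ∀ r, ∀ x ∈ R r, G ≤ (centralizer {mk x}).comap mk := fun r x hx => by
    refine hGle.le.trans (iSup_le fun r' y hy => mem_centralizer_singleton_iff.2 ?_)
    have h1 : mk ⁅y, x⁆ = 1 := (QuotientGroup.eq_one_iff _).2 (hcomm r' r y hy x hx)
    rw [map_commutatorElement, commutatorElement_eq_one_iff_mul_comm] at h1
    exact h1
  have hle : G ≤ (centralizer {mk g}).comap mk := by
    refine hGle.le.trans (iSup_le fun r y hy => mem_centralizer_singleton_iff.2 ?_)
    exact (mem_centralizer_singleton_iff.1 (key r y hy hg)).symm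
  exact (mem_centralizer_singleton_iff.1 (hle hg')).symm

/-- The derived group acts trivially on the other cores, given the abelian configurations. -/
theorem FpfAction.commute_core_derived {A G : Subgroup X} (h : FpfAction A G)
    (hsub : ∀ B ≤ A, B ≠ ⊥ → B ≠ A → (Nat.card B).Prime) {p r : ℕ} [hp : Fact p.Prime]
    [hr : Fact r.Prime] (hpr : p ≠ r) {R : Subgroup X} (hRG : R ≤ G) (hR : IsPGroup r R)
    (hAR : A ≤ normalizer (R : Set X))
    (hab : r ∣ Nat.card G → ∀ {G' : Type u} [Group G'] [Finite G'] {V' : Type u} [AddCommGroup V']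
      [Module (AlgebraicClosure (ZMod p)) V'] [FiniteDimensional (AlgebraicClosure (ZMod p)) V']
      [Nontrivial V'] (σ : Representation (AlgebraicClosure (ZMod p)) G' V') (A' R' : Subgroup G')
      (f : A →* G'), f.range = A' → DerivedConfig σ A' R' r → ∀ x ∈ R', ∀ y ∈ R', Commute x y) :
    ∀ x ∈ R, ∀ y ∈ R, ∀ u ∈ pCoreIn p G, Commute ⁅x, y⁆ u := by
  have := h.normal
  intro x hx y hy
  by_cases hPb : pCoreIn p G = ⊥
  · intro u hu
    rw [hPb, mem_bot] at hu
    rw [hu]; exact Commute.one_right _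
  by_cases hRb : R = ⊥
  · intro u _
    rw [hRb, mem_bot] at hx
    rw [hx, commutatorElement_one_left]; exact Commute.one_left u
  have hP : IsPGroup p (pCoreIn p G) := pCoreIn_isPGroup p G
  have hdvd : ∀ {l : ℕ} [Fact l.Prime] {H : Subgroup X}, H ≤ G → IsPGroup l H → H ≠ ⊥ →
      l ∣ Nat.card G := fun {l} _ {H} hH hl hne => by
    obtain ⟨k, hk⟩ := IsPGroup.iff_card.1 hl
    have hk0 : k ≠ 0 := fun e => hne (card_eq_one.1 (by rw [hk, e, pow_zero]))
    exact (dvd_pow_self l hk0).trans (hk ▸ card_dvd_of_le hH)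
  have hpA := h.coprime.coprime_dvd_right (hdvd (pCoreIn_le p G) hP hPb)
  have hrA := h.coprime.coprime_dvd_right (hdvd hRG hR hRb)
  let K := AlgebraicClosure (ZMod p)
  have hAK : (Nat.card A : K) ≠ 0 := natCast_ne_zero_of_coprime K hp.out hpA
  have hrK : (r : K) ≠ 0 :=
    natCast_ne_zero_of_coprime K hp.out ((Nat.coprime_primes hr.out hp.out).2 hpr.symm)
  have htriv := derived_trivial (extend K (modRep hP)) hR hAR hrA hrK hAK hsub
    ((noFixed_modRep hP hpA (h.fix_le (pCoreIn_le p G))).extend hAK) (h.fix_le hRG)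
    (fun {G'} _ _ {V'} _ _ _ _ σ A' R' f hf hc => hab (hdvd hRG hR hRb) σ A' R' f hf hc) x hx y hy
  have hmem : ⁅x, y⁆ ∈ R := mul_mem (mul_mem (mul_mem hx hy) (inv_mem hx)) (inv_mem hy)
  have hfix : modRep hP ⁅x, y⁆ = 1 := by
    rw [← map_one (modRep hP)]
    refine (extend_eq_iff K _ _ _).1 ?_
    rw [map_one]; exact htriv
  have hbot := commutator_eq_bot_of_le_frattiniIn (S := zpowers ⁅x, y⁆) hP
    (by rw [Subgroup.normalizer_eq_top]; exact le_top)
    (by
      obtain ⟨k, hk⟩ := IsPGroup.iff_card.1 hR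
      exact (((Nat.coprime_primes hr.out hp.out).2 hpr.symm).pow_left k).coprime_dvd_left
        (hk ▸ card_dvd_of_le (Subgroup.zpowers_le.2 hmem)))
    (fun g hg u hu => by
      obtain ⟨i, rfl⟩ := mem_powers_iff_mem_zpowers.2 hg
      refine (modRep_fix_iff hP _ hu).1 ?_
      show modRep hP (⁅x, y⁆ ^ i) _ = _
      rw [map_pow, hfix, one_pow, Module.End.one_apply])
  intro u hu
  exact (commutatorElement_eq_one_iff_commute.1
    (mem_bot.1 (hbot ▸ commutator_mem_commutator hu (mem_zpowers ⁅x, y⁆)))).symm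

/-- Pulling back to the group: the derived group is nilpotent. -/
theorem isNilpotent_commutator_of_mem {G : Type u} {A : Type v} [Group G] [Group A] [Finite G] [Finite A]
    (φ : A →* MulAut G)
    (h : ∀ g ∈ inG φ, ∀ g' ∈ inG φ, ⁅g, g'⁆ ∈ fittingIn (inG φ)) :
    Group.IsNilpotent (commutator G) := by
  refine Solvable.isNilpotent_of_le_fittingSubgroup ?_
  rw [_root_.commutator_def, commutator_le]
  intro x _ y _
  let e : G ≃* inG φ := MonoidHom.ofInjective SemidirectProduct.inl_injective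
  obtain ⟨z, hz, hzg⟩ := h _ (e x).2 _ (e y).2
  rw [← Solvable.map_fittingSubgroup_equiv e] at hz
  obtain ⟨g', hg', rfl⟩ := hz
  obtain rfl : g' = ⁅x, y⁆ := e.injective (Subtype.ext (by
    rw [map_commutatorElement]; exact hzg))
  exact hg'

end CfsgLib.FixedFree
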