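import Cfsg.Agent.Lib.FixedFree.DerivedRep
import Mathlib.GroupTheory.FixedPointFree

/-!
# The configurations for `Z / 4` and `S₃`
-/

set_option autoImplicit false

namespace CfsgLib.FixedFree

open Module Subgroup CfsgLib.HallHigman
open scoped commutatorElement

universe u v w

/-- An involution fixing nothing in `R` makes `R` abelian. -/
theorem commute_of_involution {G : Type u} [Group G] [Finite G] {R : Subgroup G} {t : G}
    (ht : ∀ x ∈ R, t * x * t⁻¹ ∈ R) (h2 : ∀ x ∈ R, Commute (t * t) x)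
    (hfpf : ∀ x ∈ R, Commute t x → x = 1) : ∀ x ∈ R, ∀ y ∈ R, Commute x y := by
  let φ : R → R := fun x => ⟨t * x * t⁻¹, ht x x.2⟩
  let f : R →* R := MonoidHom.mk' φ fun a b => Subtype.ext (by simp [φ])
  have hinv : Function.Involutive f := fun x => Subtype.ext (by
    show t * (t * (x : G) * t⁻¹) * t⁻¹ = x
    have := (h2 x x.2).eq
    calc t * (t * (x : G) * t⁻¹) * t⁻¹ = (t * t) * x * (t * t)⁻¹ := by group
      _ = x := by rw [this, mul_inv_cancel_right])
  have hf : MonoidHom.FixedPointFree f := fun x hx => Subtype.ext (hfpf x x.2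
    (mul_inv_eq_iff_eq_mul.1 (congrArg Subtype.val hx)))
  exact fun x hx y hy => congrArg Subtype.val
    (MonoidHom.FixedPointFree.commute_all_of_involutive hf hinv (⟨x, hx⟩ : R) ⟨y, hy⟩).eq

variable {K : Type v} [Field K] [IsAlgClosed K] {G : Type u} [Group G] [Finite G] {V : Type w}
  [AddCommGroup V] [Module K V] [FiniteDimensional K V] [Nontrivial V] {ρ : Representation K G V}
  {A R : Subgroup G} {r : ℕ}

omit [IsAlgClosed K] [Finite G] [FiniteDimensional K V] [Nontrivial V] in
/-- An involution without fixed vectors on `W` acts as `-1`, so the commutators with it fix `W`. -/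
theorem commutator_le_fixer {a : G} (ha : a * a = 1) {W : Submodule K V}
    (hR : ∀ g ∈ R, ∀ w ∈ W, ρ g w ∈ W) (hW : ∀ w ∈ W, ρ a w ∈ W)
    (hfix : ∀ w ∈ W, ρ a w = w → w = 0) : ⁅R, zpowers a⁆ ≤ fixer ρ W := by
  have hneg : ∀ w ∈ W, ρ a w = -w := fun w hw => eq_neg_of_add_eq_zero_left
    (hfix _ (W.add_mem (hW w hw) hw) (by
      rw [map_add, ← rep_self_mul_apply, ha, map_one, Module.End.one_apply, add_comm]))
  refine commutator_le.2 fun x hx g hg w hw => ?_
  have hg' : g = 1 ∨ g = a := by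
    obtain ⟨i, rfl⟩ := mem_zpowers_iff.1 hg
    rw [show a ^ i = a ^ (i % 2) from zpow_eq_zpow_emod' i (by rw [pow_two, ha])]
    rcases Int.emod_two_eq_zero_or_one i with e | e <;> rw [e] <;> simp
  rcases hg' with rfl | rfl
  · simp
  have hinv : ∀ y : V, y ∈ W → ρ g⁻¹ y = -y := fun y hy => by
    rw [inv_eq_of_mul_eq_one_right ha]; exact hneg y hy
  rw [commutatorElement_def, mul_assoc, mul_assoc, rep_self_mul_apply, rep_self_mul_apply,
    rep_self_mul_apply, hinv w hw, map_neg, hneg _ (W.neg_mem (hR _ (inv_mem hx) w hw)), neg_neg,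
    rep_self_apply_inv]

/-- The cyclic case of order dividing `4`. -/
theorem DerivedConfig.commute_of_cyclic_four (h : DerivedConfig ρ A R r) [Fact r.Prime] {τ : G}
    (hA : A = zpowers τ) (hτ : τ ^ 4 = 1) : ∀ x ∈ R, ∀ y ∈ R, Commute x y := by
  by_cases hR : R = ⊥
  · intro x hx y _
    rw [hR, mem_bot] at hx
    rw [hx]; exact Commute.one_left y
  obtain ⟨a, ha, hp, hza, W, hWb, hWR, hWa, hfix⟩ := h.exists_weight_space hR
  have hord : orderOf τ = 4 := by
    have hd : orderOf τ ∣ 4 := orderOf_dvd_of_pow_eq_one hτ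
    have hle : orderOf τ ≤ 4 := Nat.le_of_dvd (by norm_num) hd
    by_contra hne
    refine hza (eq_of_le_of_card_ge (Subgroup.zpowers_le.2 ha) ?_)
    rw [hA, Nat.card_zpowers, Nat.card_zpowers]
    have hd2 : orderOf a ∣ orderOf τ := by
      rw [← Nat.card_zpowers τ, ← hA]; exact Subgroup.orderOf_dvd_natCard A ha
    have := hp.two_le
    have hpos := orderOf_pos τ
    interval_cases hτo : orderOf τ <;> first | omega | (have := Nat.le_of_dvd (by norm_num) hd2; omega)
  obtain ⟨i, rfl⟩ := mem_powers_iff_mem_zpowers.2 (hA ▸ ha : a ∈ zpowers τ)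
  have ha2 : τ ^ i = τ ^ 2 := by
    change (orderOf (τ ^ i)).Prime at hp
    have e : τ ^ i = τ ^ (i % 4) := (hord ▸ pow_mod_orderOf τ i).symm
    rw [e, orderOf_pow τ (n := i % 4), hord] at hp
    rw [e]
    rcases (show i % 4 = 0 ∨ i % 4 = 1 ∨ i % 4 = 2 ∨ i % 4 = 3 by omega) with h0 | h0 | h0 | h0 <;>
      rw [h0] at hp ⊢ <;> norm_num at hp
  have hle := commutator_le_fixer (a := τ ^ i) (by rw [ha2, ← pow_add]; exact hτ) hWR hWa hfix
  have hn : (⁅R, zpowers (τ ^ i)⁆ : Subgroup G).Normal := by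
    rw [← Subgroup.normalizer_eq_top_iff, eq_top_iff, ← h.sup_eq]
    refine sup_le (normalizer_commutator_ge_left R _) (hA ▸ Subgroup.zpowers_le.2 ?_)
    have := h.normal
    rw [mem_normalizer_iff_map_conj_eq, map_commutator, MonoidHom.map_zpowers,
      mem_normalizer_iff_map_conj_eq.1 (by rw [Subgroup.normalizer_eq_top]; trivial : τ ∈ normalizer (R : Set G))]
    congr 2
    show τ * τ ^ i * τ⁻¹ = τ ^ i
    rw [← pow_succ', pow_succ, mul_inv_cancel_right]
  obtain ⟨w, hw, hw0⟩ := Submodule.exists_mem_ne_zero_of_ne_bot hWb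
  have hb := h.eq_bot_of_fix hw0 fun n hn => hle hn w hw
  refine commute_of_involution (t := τ) (fun x hx => h.normal.conj_mem x hx τ) (fun x hx => ?_) fun x hx hc => ?_
  · rw [← pow_two, ← ha2]
    exact (commutatorElement_eq_one_iff_commute.1
      (mem_bot.1 (hb ▸ commutator_mem_commutator hx (mem_zpowers (τ ^ i))))).symm
  · have hmem : x ∈ R ⊓ centralizer (A : Set G) := ⟨hx, mem_centralizer_iff.2 fun c hc' => by
      rw [hA] at hc'
      obtain ⟨j, rfl⟩ := mem_zpowers_iff.1 hc'
      exact (hc.zpow_left j).eq⟩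
    rw [h.fixR, mem_bot] at hmem
    exact hmem

end CfsgLib.FixedFree
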