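import Cfsg.Agent.Lib.FixedFree.Cores
import Cfsg.Agent.Lib.Comp.Local

/-!
# The cores of the centralisers of `P` and of `z` in a group `H` with `[H, P]` solvable
-/

set_option autoImplicit false

namespace CfsgLib.FixedFree

open Subgroup
open scoped commutatorElement

universe u

variable {X : Type u} [Group X] [Finite X]

/-- An element fixed by `z` modulo a normal subgroup of coprime order lifts to a fixed element. -/
theorem exists_mul_mem_centralizer_singleton {M : Subgroup X} [M.Normal] {z : X}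
    (hcop : (Nat.card (zpowers z)).Coprime (Nat.card M)) {g : X} (hg : g⁻¹ * z * g * z⁻¹ ∈ M) :
    ∃ m ∈ M, g * m * z = z * (g * m) := by
  set A := zpowers z
  set B := A.map (MulAut.conj g⁻¹).toMonoidHom
  have hn : ∀ S : Subgroup X, S ≤ normalizer (M : Set X) := fun S => by
    rw [Subgroup.normalizer_eq_top]; exact le_top
  have hz : (MulAut.conj g⁻¹).toMonoidHom z = g⁻¹ * z * g := by simp
  have hsup : M ⊔ A = M ⊔ B := by
    refine le_antisymm (sup_le le_sup_left (zpowers_le.2 ?_)) (sup_le le_sup_left ?_)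
    · have h2 := mul_mem (inv_mem (mem_sup_left (T := B) hg))
        (mem_sup_right (S := M) (⟨z, mem_zpowers z, hz⟩ : g⁻¹ * z * g ∈ B))
      rwa [show (g⁻¹ * z * g * z⁻¹)⁻¹ * (g⁻¹ * z * g) = z by group] at h2
    · rw [show B = _ from MonoidHom.map_zpowers _ z, zpowers_le, hz,
        show g⁻¹ * z * g = g⁻¹ * z * g * z⁻¹ * z by group]
      exact mul_mem (mem_sup_left hg) (mem_sup_right (mem_zpowers z))
  obtain ⟨m, hm, hmB⟩ := Coprime.exists_conj_eq_of_coprime (hn A) (hn B) hsup hcop
    ((Coprime.card_map_conj g⁻¹ A).symm ▸ hcop)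
    (Or.inl (by open scoped IsMulCommutative in exact inferInstance))
  refine ⟨m, hm, ?_⟩
  have hmem : (MulAut.conj (g * m)).toMonoidHom z ∈ A := by
    have h1 : A.map (MulAut.conj (g * m)).toMonoidHom = A := by
      rw [← Coprime.map_conj_conj, ← hmB, Coprime.map_conj_conj, mul_inv_cancel]
      simp [MulEquiv.toMonoidHom, Subgroup.ext_iff, mem_map]
    exact h1.le (mem_map_of_mem _ (mem_zpowers z))
  have hM : g * m * z * (g * m)⁻¹ * z⁻¹ ∈ M := by
    have h3 : g⁻¹ * z * g * z⁻¹ ∈ M := hg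
    convert (inferInstance : M.Normal).conj_mem _ (mul_mem (mul_mem hm
      ((inferInstance : M.Normal).conj_mem _ (inv_mem hm) z)) (inv_mem h3)) g using 1
    group
  have hA : g * m * z * (g * m)⁻¹ * z⁻¹ ∈ A := mul_mem (by simpa [mul_assoc] using hmem) (inv_mem (mem_zpowers z))
  have h1 := (Coprime.inf_eq_bot_of_coprime hcop).le ⟨hA, hM⟩
  rwa [mem_bot, mul_inv_eq_one, mul_inv_eq_iff_eq_mul] at h1

/-- The reduced case: `O_{q'}(H) = 1`. -/
theorem eq_bot_of_core_trivial {H P A B : Subgroup X} {p q : ℕ} [Fact p.Prime] [hq : Fact q.Prime]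
    [H.Normal] (htop : H ⊔ P = ⊤) (hP : IsPGroup p P) (hHp : (Nat.card H).Coprime p)
    (hsol : Group.IsSolvable ↥⁅H, P⁆)
    (hcore : ∀ N : Subgroup X, N ≤ H → H ≤ normalizer (N : Set X) → (Nat.card N).Coprime q → N = ⊥)
    {z : X} (hzP : z ∈ centralizer (P : Set X)) (hz : IsPGroup q (zpowers z))
    (hA : A ≤ H) (hAq : (Nat.card A).Coprime q) (hAz : A ≤ centralizer ({z} : Set X))
    (hAn : H ⊓ centralizer ({z} : Set X) ≤ normalizer (A : Set X)) (hPA : P ≤ normalizer (A : Set X))
    (hBH : B ≤ H) (hBq : (Nat.card B).Coprime q)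
    (hBn : H ⊓ centralizer (P : Set X) ≤ normalizer (B : Set X)) : ⁅A, P⁆ = ⊥ ∧ A ⊓ B = ⊥ := by
  set K := ⁅H, P⁆ with hK
  have hKn : K.Normal := by
    refine normalizer_eq_top_iff.1 (eq_top_iff.2 (htop ▸ sup_le ?_ ?_))
    · exact normalizer_commutator_ge_left H P
    · exact normalizer_commutator_ge_right H P
  have hPH : P ≤ normalizer (H : Set X) := by rw [Subgroup.normalizer_eq_top]; exact le_top
  have hKH : K ≤ H := le_normalizer_iff_commutator_le_left.1 hPH
  have hqK : Cfsg.pPrimeCore q K = ⊥ := by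
    have := Solvable.pPrimeCore_characteristic q K
    have h1 := hcore ((Cfsg.pPrimeCore q K).map K.subtype) ((map_subtype_le _).trans hKH)
      (by
        have : ((Cfsg.pPrimeCore q K).map K.subtype).Normal := Solvable.map_subtype_normal _
        rw [Subgroup.normalizer_eq_top]; exact le_top)
      (by rw [Solvable.card_map_subtype]; exact Solvable.pPrimeCore_coprime q)
    exact (map_eq_bot_iff_of_injective _ K.subtype_injective).1 h1
  set R := pCoreIn q K
  have hR : IsPGroup q R := pCoreIn_isPGroup q K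
  have hRn : ∀ S : Subgroup X, S ≤ normalizer (R : Set X) := fun S => by
    rw [Subgroup.normalizer_eq_top]; exact le_top
  have hconstr : ∀ k ∈ K, k ∈ centralizer (R : Set X) → k ∈ R := fun k hk hc =>
    ⟨⟨k, hk⟩, Solvable.centralizer_pCore_le (G := K) q hqK (mem_centralizer_iff.2 fun u hu =>
      Subtype.ext (mem_centralizer_iff.1 hc u ⟨u, hu, rfl⟩)), rfl⟩
  have hARcen : A ≤ centralizer (R : Set X) := by
    refine Comp.le_centralizer_of_centralizes_fixed hR hz hAq (hRn _) (hRn _) ?_ ?_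
    · exact hAz.trans (fun a ha => mem_centralizer_iff.2 fun y hy => by
        obtain ⟨i, rfl⟩ := mem_zpowers_iff.1 hy
        exact (Commute.zpow_left (show Commute z a from mem_centralizer_iff.1 ha z rfl) i).eq)
    · intro a ha
      refine mem_centralizer_iff.2 fun u hu => ?_
      have huz : u ∈ H ⊓ centralizer ({z} : Set X) := ⟨hKH (pCoreIn_le q K hu.1),
        mem_centralizer_singleton_iff.2 (mem_centralizer_iff.1 hu.2 z (mem_zpowers z)).symm⟩
      have h1 : u * a * u⁻¹ * a⁻¹ ∈ A :=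
        mul_mem (HallHigman.conj_mem_of_mem_normalizer (hAn huz) ha) (inv_mem ha)
      have h2 : u * a * u⁻¹ * a⁻¹ ∈ R := by
        rw [show u * a * u⁻¹ * a⁻¹ = u * (a * u⁻¹ * a⁻¹) by group]
        exact mul_mem hu.1 ((inferInstance : R.Normal).conj_mem _ (inv_mem hu.1) a)
      obtain ⟨k, hk⟩ := IsPGroup.iff_card.1 hR
      have h3 := (Coprime.inf_eq_bot_of_coprime (hk ▸ (hAq.pow_right k) :
        (Nat.card A).Coprime (Nat.card R))).le ⟨h1, h2⟩
      rw [mem_bot, mul_inv_eq_one, mul_inv_eq_iff_eq_mul] at h3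
      exact h3
  refine ⟨?_, ?_⟩
  · have hD : ⁅A, P⁆ ≤ A := le_normalizer_iff_commutator_le_left.1 hPA
    have hDR : ⁅A, P⁆ ≤ R := fun d hd =>
      hconstr d (commutator_mono hA le_rfl hd) (hARcen (hD hd))
    obtain ⟨k, hk⟩ := IsPGroup.iff_card.1 hR
    exact le_bot_iff.1 ((le_inf hD hDR).trans
      (Coprime.inf_eq_bot_of_coprime (hk ▸ (hAq.pow_right k))).le)
  · set C := H ⊓ centralizer (R : Set X)
    have hCn : C.Normal := inferInstance
    have hPC : P ≤ normalizer (C : Set X) := by rw [Subgroup.normalizer_eq_top]; exact le_top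
    set B' := C ⊓ B
    have hBC : B' ≤ C := inf_le_left
    obtain ⟨k, hk⟩ := IsPGroup.iff_card.1 hP
    have hcop : (Nat.card P).Coprime (Nat.card C) :=
      hk ▸ (hHp.coprime_dvd_left (card_dvd_of_le inf_le_left)).symm.pow_left k
    have hCB : C ≤ normalizer (B' : Set X) := by
      intro c hc
      obtain ⟨d, hd, e, he, rfl⟩ := Coprime.exists_mul_eq' hPC hcop
        (Or.inl (by have := hP.isNilpotent; infer_instance)) hc
      refine mul_mem ?_ (HallHigman.mem_normalizer_of_conj_mem fun y hy => ⟨hCn.conj_mem y hy.1 e,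
        HallHigman.conj_mem_of_mem_normalizer (hBn ⟨he.1.1, he.2⟩) hy.2⟩)
      have hdC : d ∈ C := le_normalizer_iff_commutator_le_left.1 hPC hd
      have hdR : d ∈ R := hconstr d (commutator_mono inf_le_left le_rfl hd) hdC.2
      refine centralizer_le_normalizer _ (mem_centralizer_iff.2 fun b hb => ?_)
      exact (mem_centralizer_iff.1 hb.1.2 d hdR).symm
    have h1 : B'.subgroupOf C ≤ Cfsg.pPrimeCore q C := Solvable.le_pPrimeCore
      (normal_subgroupOf_of_le_normalizer hCB)
      (by rw [Coprime.card_subgroupOf hBC]; exact hBq.coprime_dvd_left (card_dvd_of_le inf_le_right))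
    have := Solvable.pPrimeCore_characteristic q C
    have h2 := hcore ((Cfsg.pPrimeCore q C).map C.subtype) ((map_subtype_le _).trans inf_le_left)
      (by
        have : ((Cfsg.pPrimeCore q C).map C.subtype).Normal := Solvable.map_subtype_normal _
        rw [Subgroup.normalizer_eq_top]; exact le_top)
      (by rw [Solvable.card_map_subtype]; exact Solvable.pPrimeCore_coprime q)
    refine (Subgroup.eq_bot_iff_forall _).2 fun b hb => ?_
    exact mem_bot.1 (h2 ▸ ⟨⟨b, ⟨hA hb.1, hARcen hb.1⟩⟩, h1 ⟨⟨hA hb.1, hARcen hb.1⟩, hb.2⟩, rfl⟩)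

theorem qPrimeCoreIn_coprime (q : ℕ) (S : Subgroup X) :
    (Nat.card ((Cfsg.pPrimeCore q S).map S.subtype)).Coprime q := by
  rw [Solvable.card_map_subtype]; exact Solvable.pPrimeCore_coprime q

theorem le_normalizer_map_pPrimeCore (q : ℕ) (S : Subgroup X) :
    normalizer (S : Set X) ≤ normalizer (((Cfsg.pPrimeCore q S).map S.subtype : Subgroup X) : Set X) := by
  intro g hg
  let e := S.normalizerMonoidHom ⟨g, hg⟩
  refine HallHigman.mem_normalizer_of_conj_mem ?_
  rintro _ ⟨x, hx, rfl⟩
  exact ⟨e x, (Solvable.map_pPrimeCore_equiv e q).le (mem_map_of_mem _ hx), rfl⟩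

/-- The main inclusion. -/
theorem cores_le {H P : Subgroup X} {p q : ℕ} [Fact p.Prime] [Fact q.Prime] [H.Normal]
    (htop : H ⊔ P = ⊤) (hP : IsPGroup p P) (hHp : (Nat.card H).Coprime p)
    (hsol : Group.IsSolvable ↥⁅H, P⁆) {z : X} (hzP : z ∈ centralizer (P : Set X))
    (hz : IsPGroup q (zpowers z)) :
    let S := H ⊓ centralizer ({z} : Set X)
    let T := H ⊓ centralizer (P : Set X)
    (Cfsg.pPrimeCore q S).map S.subtype ⊓ (Cfsg.pPrimeCore q T).map T.subtype
        ⊔ ⁅(Cfsg.pPrimeCore q S).map S.subtype, P⁆ ≤ (Cfsg.pPrimeCore q H).map H.subtype := by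
  intro S T
  set A := (Cfsg.pPrimeCore q S).map S.subtype
  set B₀ := (Cfsg.pPrimeCore q T).map T.subtype
  set M := (Cfsg.pPrimeCore q H).map H.subtype
  have := Solvable.pPrimeCore_characteristic q H
  have hMn : M.Normal := Solvable.map_subtype_normal _
  set π := QuotientGroup.mk' M
  have hMq : (Nat.card M).Coprime q := qPrimeCoreIn_coprime q H
  have hMH : M ≤ H := map_subtype_le _
  have hnPS : P ≤ normalizer (S : Set X) := by
    intro a ha
    refine HallHigman.mem_normalizer_of_conj_mem fun y hy =>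
      ⟨(inferInstance : H.Normal).conj_mem y hy.1 a, mem_centralizer_singleton_iff.2 ?_⟩
    have h1 : Commute a z := mem_centralizer_iff.1 hzP a ha
    have h2 : Commute y z := mem_centralizer_singleton_iff.1 hy.2
    exact ((h1.mul_left h2).mul_left h1.inv_left).eq
  have hPA : P ≤ normalizer (A : Set X) := hnPS.trans (le_normalizer_map_pPrimeCore q S)
  have hAS : A ≤ S := map_subtype_le _
  have hsol' : Group.IsSolvable ↥⁅H.map π, P.map π⁆ := by
    rw [← map_commutator]; exact Coprime.isSolvable_map π hsol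
  have : (H.map π).Normal := Subgroup.Normal.map inferInstance _ (QuotientGroup.mk'_surjective _)
  have hcore : ∀ N : Subgroup (X ⧸ M), N ≤ H.map π → H.map π ≤ normalizer (N : Set (X ⧸ M)) →
      (Nat.card N).Coprime q → N = ⊥ := by
    intro N hNH hNn hNq
    set N₀ := N.comap π
    have hN₀H : N₀ ≤ H := fun y hy => by
      obtain ⟨h, hh, e⟩ := hNH hy
      exact (Subgroup.mul_mem_cancel_left H (inv_mem hh)).1 (hMH (QuotientGroup.eq.1 e))
    have hN₀n : (N₀.subgroupOf H).Normal := normal_subgroupOf_of_le_normalizer fun h hh =>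
      HallHigman.mem_normalizer_of_conj_mem fun y hy => by
        show π (h * y * h⁻¹) ∈ N
        rw [map_mul, map_mul, map_inv]
        exact HallHigman.conj_mem_of_mem_normalizer (hNn (mem_map_of_mem π hh)) hy
    have hcard : Nat.card N₀ = Nat.card M * Nat.card N := by
      have h1 := Subgroup.card_eq_card_quotient_mul_card_subgroup (M.subgroupOf N₀)
      have hMN : M ≤ N₀ := fun y hy => by
        show π y ∈ N
        rw [show π y = 1 from (QuotientGroup.eq_one_iff y).2 hy]; exact one_mem N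
      rw [h1, Coprime.card_subgroupOf hMN, mul_comm]
      congr 1
      let f : N₀ →* N := (π.comp N₀.subtype).codRestrict N fun y => y.2
      have hf : Function.Surjective f := fun y => by
        obtain ⟨w, hw⟩ := QuotientGroup.mk'_surjective M y
        exact ⟨⟨w, by show π w ∈ N; rw [hw]; exact y.2⟩, Subtype.ext hw⟩
      have hk : f.ker = M.subgroupOf N₀ := by
        ext y
        rw [MonoidHom.mem_ker, mem_subgroupOf, ← QuotientGroup.eq_one_iff (N := M) (y : X)]
        exact ⟨fun e => congrArg Subtype.val e, fun e => Subtype.ext e⟩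
      rw [← hk]
      exact Nat.card_congr (QuotientGroup.quotientKerEquivOfSurjective f hf).toEquiv
    have h1 : N₀.subgroupOf H ≤ Cfsg.pPrimeCore q H := Solvable.le_pPrimeCore hN₀n (by
      rw [Coprime.card_subgroupOf hN₀H, hcard]; exact hMq.mul hNq)
    refine (Subgroup.eq_bot_iff_forall _).2 fun y hy => ?_
    obtain ⟨w, rfl⟩ := QuotientGroup.mk'_surjective M y
    exact (QuotientGroup.eq_one_iff w).2 ⟨⟨w, hN₀H hy⟩, h1 hy, rfl⟩
  have hCz : H.map π ⊓ centralizer ({π z} : Set (X ⧸ M)) ≤ S.map π := by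
    rintro _ ⟨⟨g, hg, rfl⟩, hc⟩
    have hcomm : π g * π z = π z * π g := mem_centralizer_singleton_iff.1 hc
    have hgM : g⁻¹ * z * g * z⁻¹ ∈ M := (QuotientGroup.eq_one_iff _).1 (by
      show π _ = 1
      rw [map_mul, mul_assoc g⁻¹, map_mul, map_mul π z g, ← hcomm, map_inv, map_inv]; group)
    obtain ⟨j, hj⟩ := IsPGroup.iff_card.1 hz
    obtain ⟨m, hm, hmc⟩ := exists_mul_mem_centralizer_singleton (hj ▸ hMq.symm.pow_left j) hgM
    refine ⟨g * m, ⟨mul_mem hg (hMH hm), mem_centralizer_singleton_iff.2 hmc⟩, ?_⟩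
    rw [map_mul, show π m = 1 from (QuotientGroup.eq_one_iff m).2 hm, mul_one]
  have hCP : H.map π ⊓ centralizer ((P.map π : Subgroup (X ⧸ M)) : Set (X ⧸ M)) ≤ T.map π := by
    obtain ⟨k, hk⟩ := IsPGroup.iff_card.1 hP
    exact (Coprime.map_inf_centralizer π (by rw [Subgroup.normalizer_eq_top]; exact le_top)
      (hk ▸ hHp.symm.pow_left k) (Or.inl (by have := hP.isNilpotent; infer_instance))).ge
  have hmapn : ∀ {S' A' : Subgroup X}, S' ≤ normalizer (A' : Set X) →
      S'.map π ≤ normalizer ((A'.map π : Subgroup (X ⧸ M)) : Set (X ⧸ M)) := fun {S' A'} h =>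
    (Subgroup.map_mono h).trans (le_normalizer_map π)
  have hmain := eq_bot_of_core_trivial (q := q) (H := H.map π) (P := P.map π) (A := A.map π)
    (B := B₀.map π) (z := π z)
    (by rw [← Subgroup.map_sup, htop, Subgroup.map_top_of_surjective _ (QuotientGroup.mk'_surjective _)])
    (hP.map π) (hHp.coprime_dvd_left (Subgroup.card_map_dvd H π)) hsol' hcore
    (mem_centralizer_iff.2 (by
      rintro _ ⟨a, ha, rfl⟩
      rw [← map_mul, ← map_mul, mem_centralizer_iff.1 hzP a ha]))
    (MonoidHom.map_zpowers π z ▸ hz.map π)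
    (Subgroup.map_mono (hAS.trans inf_le_left))
    ((qPrimeCoreIn_coprime q S).coprime_dvd_left (Subgroup.card_map_dvd A π))
    (by
      rintro _ ⟨a, ha, rfl⟩
      exact mem_centralizer_singleton_iff.2 (by
        rw [← map_mul, ← map_mul, mem_centralizer_singleton_iff.1 (hAS ha).2]))
    (hCz.trans (hmapn (le_normalizer.trans (le_normalizer_map_pPrimeCore q S))))
    (hmapn hPA) (Subgroup.map_mono ((map_subtype_le _ : B₀ ≤ T).trans inf_le_left))
    ((qPrimeCoreIn_coprime q T).coprime_dvd_left (Subgroup.card_map_dvd B₀ π))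
    (hCP.trans (hmapn (le_normalizer.trans (le_normalizer_map_pPrimeCore q T))))
  refine sup_le (fun y hy => ?_) (fun y hy => ?_)
  · exact (QuotientGroup.eq_one_iff y).1 (mem_bot.1 (hmain.2 ▸
      ⟨mem_map_of_mem π hy.1, mem_map_of_mem π hy.2⟩))
  · refine (QuotientGroup.eq_one_iff y).1 (mem_bot.1 (hmain.1 ▸ ?_))
    rw [← map_commutator]
    exact mem_map_of_mem π hy

end CfsgLib.FixedFree
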