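import Cfsg.Agent.Lib.FixedFree.PrimePower

/-!
# The representation theorem of Shult and Gross
-/

set_option autoImplicit false

namespace CfsgLib.FixedFree

open Module Subgroup CfsgLib.HallHigman
open scoped commutatorElement

universe u v w

theorem noFixed_zpowers_iff {K : Type u} [Field K] {V : Type v} [AddCommGroup V] [Module K V]
    {G : Type w} [Group G] [Finite G] {ρ : Representation K G V} {x : G} :
    NoFixed ρ (zpowers x) ↔ ∀ v : V, ρ x v = v → v = 0 := by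
  refine ⟨fun h v hv => h v fun g hg => ?_, fun h v hv => h v (hv x (mem_zpowers x))⟩
  obtain ⟨i, rfl⟩ := mem_powers_iff_mem_zpowers.2 hg
  clear hg
  induction i with
  | zero => simp
  | succ i ih =>
    show ρ (x ^ (i + 1)) v = v
    rw [pow_succ', rep_self_mul_apply, ih, hv]

theorem map_commutator_eq_one {G : Type*} [Group G] {M : Type*} [Monoid M] (f : G →* M) {a b : G}
    (h : f (a * b) = f (b * a)) : f ⁅a, b⁆ = 1 := by
  calc f ⁅a, b⁆ = f (a * b) * f (a⁻¹ * b⁻¹) := by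
        rw [← map_mul, commutatorElement_def]; simp only [mul_assoc]
    _ = 1 := by rw [h, ← map_mul]; simp [mul_assoc]

/-- An element of odd period `p ^ n` fixing nothing on `V` and on `Q`: its power of period `p`
commutes with `Q` on `V`. -/
theorem commute_of_primePower {K : Type u} [Field K] [IsAlgClosed K] {p q : ℕ} (hp : p.Prime)
    (hp2 : p ≠ 2) (hq : q.Prime) (hpq : p ≠ q) (hqK : (q : K) ≠ 0) (hpK : (p : K) ≠ 0) :
    ∀ (d : ℕ) {G : Type w} [Group G] [Finite G] {V : Type v} [AddCommGroup V] [Module K V]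
      [FiniteDimensional K V] (ρ : Representation K G V) (Q : Subgroup G) (x : G) (n : ℕ),
      finrank K V = d → PrimePowerHyp ρ Q x p q n →
      ∀ g ∈ Q, ρ (x ^ p ^ (n - 1) * g) = ρ (g * x ^ p ^ (n - 1)) := by
  intro d
  induction d using Nat.strong_induction_on with
  | _ d ih =>
  intro G _ _ V _ _ _ ρ Q x n hd H g hg
  subst hd
  have := Fact.mk hq
  obtain ⟨hQ, hxQ, hxP, hn, hfix, hC⟩ := H
  -- pass to the image
  let π := QuotientGroup.mk' ρ.ker
  let ρ' : Representation K (G ⧸ ρ.ker) V := QuotientGroup.lift ρ.ker ρ le_rfl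
  have hρ' : ∀ g, ρ' (π g) = ρ g := fun g => QuotientGroup.lift_mk' _ _ g
  have hinj : Function.Injective ρ' := by
    intro a b hab
    obtain ⟨a, rfl⟩ := QuotientGroup.mk'_surjective ρ.ker a
    obtain ⟨b, rfl⟩ := QuotientGroup.mk'_surjective ρ.ker b
    rw [hρ', hρ'] at hab
    exact QuotientGroup.eq.2 (MonoidHom.mem_ker.2 (by
      rw [map_mul, ← hab, ← map_mul, inv_mul_cancel, map_one]))
  set y := π x with hy
  suffices main : ∀ g ∈ Q.map π, y ^ p ^ (n - 1) * g = g * y ^ p ^ (n - 1) by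
    have h1 := main _ (mem_map_of_mem π hg)
    rw [hy, ← map_pow, ← map_mul, ← map_mul] at h1
    rw [← hρ', ← hρ', h1]
  by_contra hcon
  push Not at hcon
  have hxQ' : y ∈ normalizer ((Q.map π : Subgroup (G ⧸ ρ.ker)) : Set (G ⧸ ρ.ker)) :=
    mem_normalizer_of_conj_mem (by
      rintro _ ⟨a, ha, rfl⟩
      exact ⟨x * a * x⁻¹, conj_mem_of_mem_normalizer hxQ ha, by simp [hy]⟩)
  have hfix' : NoFixed ρ' (zpowers y) := by
    rw [hy, ← MonoidHom.map_zpowers]
    exact hfix.map hρ'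
  have hC' : ∀ u ∈ Q.map π, y * u = u * y → u = 1 := by
    rintro _ ⟨u, hu, rfl⟩ hcomm
    rw [hy, ← map_mul, ← map_mul] at hcomm
    set N := Q ⊓ ρ.ker
    have hxN : x ∈ normalizer (N : Set G) := mem_normalizer_of_conj_mem fun a ha =>
      ⟨conj_mem_of_mem_normalizer hxQ ha.1, (MonoidHom.normal_ker ρ).conj_mem a ha.2 x⟩
    have hmem : u⁻¹ * x * u * x⁻¹ ∈ N := by
      refine ⟨?_, ?_⟩
      · show u⁻¹ * x * u * x⁻¹ ∈ Q
        rw [mul_assoc, mul_assoc, ← mul_assoc x]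
        exact mul_mem (inv_mem hu) (conj_mem_of_mem_normalizer hxQ hu)
      · refine (QuotientGroup.eq_one_iff _).1 ?_
        show π _ = 1
        rw [map_mul, mul_assoc u⁻¹, map_mul, hcomm, map_mul, map_inv, map_inv]
        group
    have hall : ∀ a ∈ zpowers x, u⁻¹ * a * u * a⁻¹ ∈ N := fun a ha => by
      obtain ⟨i, rfl⟩ := mem_powers_iff_mem_zpowers.2 ha
      clear ha
      induction i with
      | zero => simp
      | succ i ih =>
        show u⁻¹ * x ^ (i + 1) * u * (x ^ (i + 1))⁻¹ ∈ N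
        have h2 := mul_mem hmem (conj_mem_of_mem_normalizer hxN ih)
        convert h2 using 1
        rw [pow_succ']
        group
    obtain ⟨k, hk⟩ := IsPGroup.iff_card.1 hQ
    have hcop : (Nat.card (zpowers x)).Coprime (Nat.card Q) := by
      rw [hk, Nat.card_zpowers]
      exact (((Nat.coprime_primes hp hq).2 hpq).pow n k).coprime_dvd_left
        (orderOf_dvd_of_pow_eq_one hxP)
    obtain ⟨c, hc, huc⟩ := Coprime.exists_mem_centralizer_of_coset (zpowers_le.2 hxQ) (zpowers_le.2 hxN)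
      inf_le_left hcop (Or.inl (by open scoped IsMulCommutative in exact inferInstance)) hu hall
    have h1 := hC _ (mul_mem hu hc.1) (mem_centralizer_iff.1 huc x (mem_zpowers x))
    rw [eq_inv_of_mul_eq_one_left h1, map_inv, inv_eq_one]
    exact (QuotientGroup.eq_one_iff c).2 hc.2
  have hxP' : y ^ p ^ n = 1 := by rw [hy, ← map_pow, hxP, map_one]
  obtain ⟨Q₁, ⟨hQ₁le, hxQ₁, hmov₁⟩, hQmin⟩ := wellFounded_lt.has_min
    {R : Subgroup (G ⧸ ρ.ker) | R ≤ Q.map π ∧ y ∈ Subgroup.normalizer (R : Set (G ⧸ ρ.ker)) ∧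
      ∃ g ∈ R, y ^ p ^ (n - 1) * g ≠ g * y ^ p ^ (n - 1)} ⟨Q.map π, le_rfl, hxQ', hcon⟩
  have hQ₁ : IsPGroup q Q₁ := (hQ.map π).to_le hQ₁le
  have hC₁ : ∀ u ∈ Q₁, y * u = u * y → u = 1 := fun u hu => hC' u (hQ₁le hu)
  have h : MinMoved Q₁ y (y ^ p ^ (n - 1)) :=
    { normalizes := hxQ₁
      mem_zpowers := pow_mem (Subgroup.mem_zpowers y) _
      moved := hmov₁
      minimal := fun R hR hRx hne g hg => by
        by_contra hc
        exact hQmin R ⟨hR.trans hQ₁le, hRx, g, hg, hc⟩ (lt_of_le_of_ne hR hne)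
      coprime := by
        obtain ⟨k, hk⟩ := IsPGroup.iff_card.1 hQ₁
        rw [hk, Nat.card_zpowers]
        refine ((((Nat.coprime_primes hp hq).2 hpq).pow_right k).coprime_dvd_left
          (orderOf_dvd_of_pow_eq_one ?_))
        rw [← pow_mul, ← pow_succ, Nat.sub_add_cancel hn, hxP'] }
  have : Nontrivial V := by
    by_contra hT
    rw [not_nontrivial_iff_subsingleton] at hT
    obtain ⟨g, hg, hne⟩ := hmov₁
    exact hne (hinj (LinearMap.ext fun _ => Subsingleton.elim _ _))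
  by_cases hirr : ∀ W : Submodule K V, (∀ g ∈ Q₁, ∀ w ∈ W, ρ' g w ∈ W) →
      (∀ w ∈ W, ρ' y w ∈ W) → W = ⊥ ∨ W = ⊤
  · exact false_of_irreducible hp hp2 hq hqK hinj ⟨hQ₁, hxQ₁, hxP', hn, hfix', hC₁⟩ h hirr
  push Not at hirr
  obtain ⟨W, hW1, hW2, hWb, hWt⟩ := hirr
  -- a proper invariant subspace
  set S := Q₁ ⊔ zpowers y
  have hWS := invariant_of_closure ρ' Q₁ y W hW1 hW2
  have hQS : Q₁ ≤ S := le_sup_left
  have hxS : y ∈ S := mem_sup_right (mem_zpowers y)
  have hxS' : (⟨y, hxS⟩ : S) ∈ normalizer ((Q₁.subgroupOf S : Subgroup S) : Set S) :=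
    mem_normalizer_of_conj_mem fun g hg =>
      (conj_mem_of_mem_normalizer hxQ₁ (mem_subgroupOf.1 hg) : y * (g : G ⧸ ρ.ker) * y⁻¹ ∈ Q₁)
  have hle : zpowers y ≤ S := zpowers_le.2 hxS
  have hcard : (Nat.card (zpowers y) : K) ≠ 0 := by
    obtain ⟨k, -, hk⟩ := (Nat.dvd_prime_pow hp).1
      (Nat.card_zpowers y ▸ orderOf_dvd_of_pow_eq_one hxP')
    rw [hk, Nat.cast_pow]
    exact pow_ne_zero _ hpK
  have hgen : ∀ {V' : Type v} [AddCommGroup V'] [Module K V'] {τ : Representation K S V'},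
      NoFixed τ ((zpowers y).subgroupOf S) → NoFixed τ (zpowers (⟨y, hxS⟩ : S)) := fun {V'} _ _ {τ} hτ v hv =>
    hτ v fun s hs => by
      obtain ⟨i, hi⟩ := mem_powers_iff_mem_zpowers.2 (mem_subgroupOf.1 hs)
      exact hv s ⟨i, Subtype.ext (by simpa using hi)⟩
  have step : ∀ (V' : Type v) [AddCommGroup V'] [Module K V'] [FiniteDimensional K V']
      (σ : Representation K S V'), finrank K V' < finrank K V → NoFixed σ ((zpowers y).subgroupOf S) →
      ∀ (u : G ⧸ ρ.ker) (hu : u ∈ Q₁),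
        σ ⁅(⟨y, hxS⟩ : S) ^ p ^ (n - 1), ⟨u, hQS hu⟩⁆ = 1 := by
    intro V' _ _ _ σ hlt hσ u hu
    have := ih _ hlt σ (Q₁.subgroupOf S) ⟨y, hxS⟩ n rfl
      ⟨hQ₁.of_equiv (subgroupOfEquivOfLe hQS).symm, hxS', Subtype.ext hxP', hn, hgen hσ,
        fun s hs e => Subtype.ext (hC₁ s hs (congrArg Subtype.val e))⟩ ⟨u, hQS hu⟩ hu
    exact map_commutator_eq_one σ this
  obtain ⟨u, hu, hne⟩ := hmov₁
  apply hne
  set c := ⁅y ^ p ^ (n - 1), u⁆ with hc
  have hcQ : c ∈ Q₁ := mul_mem (conj_mem_of_mem_normalizer (pow_mem hxQ₁ _) hu) (inv_mem hu)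
  obtain ⟨k, hk⟩ := IsPGroup.iff_orderOf.1 hQ₁ ⟨c, hcQ⟩
  rw [Subgroup.orderOf_mk] at hk
  have hpos : 0 < finrank K W := by
    have : Nontrivial W := Submodule.nontrivial_iff_ne_bot.2 hWb
    exact Module.finrank_pos
  have h1 : ∀ w ∈ W, ρ' c w = w := fun w hw => congrArg Subtype.val (LinearMap.congr_fun
    (step W (restrictRep ρ' S W hWS) (Submodule.finrank_lt hWt) (hfix'.restrict hle hWS) u hu) ⟨w, hw⟩)
  have h2 : ∀ v, ρ' c v - v ∈ W := fun v => by
    have h3 := LinearMap.congr_fun (step (V ⧸ W) (quotientRep ρ' S W hWS)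
      (by have := W.finrank_quotient_add_finrank; omega) (hfix'.quotient hcard hle hWS) u hu)
      (Submodule.Quotient.mk v)
    rw [← Submodule.Quotient.mk_eq_zero, Submodule.Quotient.mk_sub]
    exact sub_eq_zero.2 h3
  have hρc : ρ' c = 1 := eq_one_of_unipotent (m := q ^ k)
    (by rw [← map_pow, ← hk, pow_orderOf_eq_one, map_one])
    (by rw [Nat.cast_pow]; exact pow_ne_zero _ hqK) h1 h2
  exact commutatorElement_eq_one_iff_mul_comm.1 (hinj (by rw [hρc, map_one]))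

end CfsgLib.FixedFree
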