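import Cfsg.Agent.Lib.FixedFree.Weights
import Mathlib.RingTheory.RootsOfUnity.Basic

/-!
# The critical case for a group acting with scalar centre

The hypothesis of faithfulness on the whole group is dropped, and the period of the normalising
element is only required modulo the centraliser.
-/

set_option autoImplicit false

namespace CfsgLib.FixedFree

open Module Polynomial CfsgLib.HallHigman
open scoped commutatorElement

universe u v w

variable {K : Type u} [Field K] {V : Type v} [AddCommGroup V] [Module K V] {G : Type w} [Group G]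

theorem deg_smul_one_le [FiniteDimensional K V] (c : K) :
    deg (c • (1 : Module.End K V)) ≤ 1 := by
  refine (deg_le_of_aeval_eq_zero (X_sub_C_ne_zero c) ?_).trans (natDegree_X_sub_C c).le
  rw [map_sub, aeval_X, aeval_C, Algebra.algebraMap_eq_smul_one, sub_self]

theorem deg_smul_le [FiniteDimensional K V] (c : K) (f : Module.End K V) :
    deg (c • f) ≤ deg f := by
  have h := deg_mul_le ((Commute.one_left f).smul_left c)
  rw [smul_mul_assoc, one_mul] at h
  exact h.trans ((Nat.mul_le_mul_right _ (deg_smul_one_le c)).trans (one_mul _).le)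

theorem card_center_quotient_congr {A B : Type*} [Group A] [Group B] (e : A ≃* B) :
    Nat.card (A ⧸ Subgroup.center A) = Nat.card (B ⧸ Subgroup.center B) :=
  Nat.card_congr (QuotientGroup.congr _ _ e (by
    ext b
    constructor
    · rintro ⟨a, ha, rfl⟩
      refine Subgroup.mem_center_iff.2 fun g => ?_
      obtain ⟨g, rfl⟩ := e.surjective g
      show e g * e a = e a * e g
      rw [← map_mul, ← map_mul, Subgroup.mem_center_iff.1 ha g]
    · intro hb
      refine ⟨e.symm b, Subgroup.mem_center_iff.2 fun g => e.injective ?_, e.apply_symm_apply b⟩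
      rw [map_mul, map_mul, e.apply_symm_apply, Subgroup.mem_center_iff.1 hb])).toEquiv

/-- A `q`-group of class two with scalar centre acting faithfully and non-abelian. -/
structure ScalarQ (ρ : Representation K G V) (S : Subgroup G) (q : ℕ) : Prop where
  isPGroup : IsPGroup q S
  classTwo : ∀ g h : S, ⁅g, h⁆ ∈ Subgroup.center S
  scalar : ∀ z : S, z ∈ Subgroup.center S → ∃ c : K, ρ (z : G) = c • (1 : Module.End K V)
  faithful : ∀ s : S, ρ (s : G) = 1 → s = 1
  nonabelian : Subgroup.center S ≠ ⊤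

variable {ρ : Representation K G V} {S : Subgroup G} {q : ℕ}

theorem ScalarQ.transfer (h : ScalarQ ρ S q) {G' : Type*} [Group G'] {V' : Type*} [AddCommGroup V']
    [Module K V'] {ρ' : Representation K G' V'} {S' : Subgroup G'} (e : S ≃* S')
    (hsc : ∀ (s : S) (c : K), ρ (s : G) = c • (1 : Module.End K V) →
      ρ' (e s : G') = c • (1 : Module.End K V'))
    (hfaith : ∀ s : S, ρ' (e s : G') = 1 → s = 1) : ScalarQ ρ' S' q where
  isPGroup := h.isPGroup.of_equiv e
  classTwo g g' := by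
    obtain ⟨a, rfl⟩ := e.surjective g
    obtain ⟨b, rfl⟩ := e.surjective g'
    rw [← map_commutatorElement, Subgroup.mem_center_iff]
    intro k
    obtain ⟨k, rfl⟩ := e.surjective k
    rw [← map_mul, ← map_mul, Subgroup.mem_center_iff.1 (h.classTwo a b) k]
  scalar z hz := by
    obtain ⟨a, rfl⟩ := e.surjective z
    obtain ⟨c, hc⟩ := h.scalar a (Subgroup.mem_center_iff.2 fun g => e.injective (by
      rw [map_mul, map_mul, Subgroup.mem_center_iff.1 hz (e g)]))
    exact ⟨c, hsc a c hc⟩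
  faithful s hs := by
    obtain ⟨a, rfl⟩ := e.surjective s
    rw [hfaith a hs, map_one]
  nonabelian e' := h.nonabelian (eq_top_iff.2 fun a _ => Subgroup.mem_center_iff.2 fun g =>
    e.injective (by rw [map_mul, map_mul, Subgroup.mem_center_iff.1 (e' ▸ Subgroup.mem_top _) (e g)]))

/-- Faithfulness passes to every nonzero invariant subspace. -/
theorem ScalarQ.faithful_on (h : ScalarQ ρ S q) {W : Submodule K V} (hW : W ≠ ⊥)
    (hinv : ∀ s ∈ S, ∀ w ∈ W, ρ s w ∈ W) {s : S} (hs : ∀ w ∈ W, ρ (s : G) w = w) : s = 1 := by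
  have hcen : ∀ z : S, z ∈ Subgroup.center S → (∀ w ∈ W, ρ (z : G) w = w) → z = 1 := by
    intro z hz hzw
    obtain ⟨c, hc⟩ := h.scalar z hz
    obtain ⟨w, hw, hw0⟩ := Submodule.exists_mem_ne_zero_of_ne_bot hW
    have h1 := hzw w hw
    rw [hc, LinearMap.smul_apply, Module.End.one_apply] at h1
    have hc1 : c = 1 := smul_left_injective K hw0 (h1.trans (one_smul K w).symm)
    exact h.faithful z (by rw [hc, hc1, one_smul])
  refine hcen s (Subgroup.mem_center_iff.2 fun t => commutatorElement_eq_one_iff_mul_comm.1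
    (hcen _ (h.classTwo t s) fun w hw => ?_)) hs
  have h1 : ρ (s : G)⁻¹ w = w := by
    conv_lhs => rw [← hs w hw]
    exact rep_inv_apply_self ρ _ _
  push_cast [commutatorElement_def]
  rw [mul_assoc, mul_assoc, rep_self_mul_apply, rep_self_mul_apply, rep_self_mul_apply, h1,
    hs _ (hinv _ (inv_mem t.2) w hw), rep_self_apply_inv]

/-- The data transferred to an invariant subspace, made faithful. -/
theorem ScalarQ.exists_critical [Finite G] [FiniteDimensional K V] [Nontrivial V]
    (h : ScalarQ ρ S q) {x : G} (hxS : x ∈ Subgroup.normalizer (S : Set G)) :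
    ∃ (W : Submodule K V) (hWx : ∀ w ∈ W, ρ x w ∈ W) (H : Type w) (_ : Group H) (_ : Finite H)
      (σ : Representation K H W) (S' : Subgroup H) (y : H) (e : S ≃* S'),
      Nontrivial W ∧ Critical σ S' q ∧ σ y = (ρ x).restrict hWx ∧
      (∀ g ∈ S', y * g * y⁻¹ ∈ S') ∧
      (∀ (s : S) (i : ℕ), y ^ i * (e s : H) * (y ^ i)⁻¹ =
        (e ⟨x ^ i * s * (x ^ i)⁻¹, conj_mem_of_mem_normalizer (pow_mem hxS i) s.2⟩ : H)) ∧
      (∀ W' : Submodule K W, (∀ g ∈ S', ∀ w ∈ W', σ g w ∈ W') → (∀ w ∈ W', σ y w ∈ W') →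
        W' = ⊥ ∨ W' = ⊤) := by
  obtain ⟨W, ⟨hWS, hWx, hWb⟩, hWmin⟩ := wellFounded_lt.has_min
    {W : Submodule K V | (∀ g ∈ S, ∀ w ∈ W, ρ g w ∈ W) ∧ (∀ w ∈ W, ρ x w ∈ W) ∧ W ≠ ⊥}
    ⟨⊤, fun _ _ _ _ => Submodule.mem_top, fun _ _ => Submodule.mem_top, top_ne_bot⟩
  set T := S ⊔ Subgroup.zpowers x
  have hST : S ≤ T := le_sup_left
  have hxT : x ∈ T := Subgroup.mem_sup_right (Subgroup.mem_zpowers x)
  set σ₀ := restrictRep ρ T W (invariant_of_closure ρ S x W hWS hWx)
  set π := QuotientGroup.mk' σ₀.ker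
  let σ : Representation K (T ⧸ σ₀.ker) W := QuotientGroup.lift σ₀.ker σ₀ le_rfl
  have hσ : ∀ t, σ (π t) = σ₀ t := fun t => QuotientGroup.lift_mk' _ _ t
  have hσinj : Function.Injective σ := by
    intro a b hab
    obtain ⟨a, rfl⟩ := QuotientGroup.mk'_surjective σ₀.ker a
    obtain ⟨b, rfl⟩ := QuotientGroup.mk'_surjective σ₀.ker b
    rw [hσ, hσ] at hab
    exact QuotientGroup.eq.2 (MonoidHom.mem_ker.2 (by
      rw [map_mul, ← hab, ← map_mul, inv_mul_cancel, map_one]))
  let ι : S →* T ⧸ σ₀.ker := π.comp (Subgroup.inclusion hST)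
  have hιinj : Function.Injective ι := (injective_iff_map_eq_one ι).2 fun s hs => by
    refine h.faithful_on hWb hWS fun w hw => ?_
    have h1 : σ₀ (Subgroup.inclusion hST s) = 1 := by
      rw [← hσ]; show σ (ι s) = 1; rw [hs, map_one]
    exact congrArg Subtype.val (LinearMap.congr_fun h1 ⟨w, hw⟩)
  let e : S ≃* ι.range := MonoidHom.ofInjective hιinj
  have he : ∀ s : S, σ (e s : T ⧸ σ₀.ker) = σ₀ (Subgroup.inclusion hST s) := fun s => hσ _
  have hSQ : ScalarQ σ ι.range q := h.transfer e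
    (fun s c hc => LinearMap.ext fun w => Subtype.ext (by
      rw [he, restrictRep_apply_coe, Subgroup.coe_inclusion, hc]; rfl))
    (fun s hs => hιinj (hσinj (by rw [map_one, map_one]; exact hs)))
  have hconj : ∀ (s : S) (i : ℕ), π ⟨x, hxT⟩ ^ i * (e s : T ⧸ σ₀.ker) * (π ⟨x, hxT⟩ ^ i)⁻¹ =
      (e ⟨x ^ i * s * (x ^ i)⁻¹, conj_mem_of_mem_normalizer (pow_mem hxS i) s.2⟩ : T ⧸ σ₀.ker) := by
    intro s i
    show _ = π _
    rw [show (e s : T ⧸ σ₀.ker) = π (Subgroup.inclusion hST s) from rfl, ← map_pow, ← map_inv,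
      ← map_mul, ← map_mul]
    exact congrArg π (Subtype.ext (by simp))
  refine ⟨W, hWx, T ⧸ σ₀.ker, inferInstance, inferInstance, σ, ι.range, π ⟨x, hxT⟩, e,
    Submodule.nontrivial_iff_ne_bot.2 hWb, ⟨hσinj, hSQ.isPGroup, hSQ.scalar, fun a b => ?_,
      hSQ.nonabelian⟩, ?_, ?_, hconj, ?_⟩
  · have := hSQ.classTwo a b
    rwa [commutatorElement_def] at this
  · rw [hσ]; rfl
  · intro g hg
    obtain ⟨s, hs⟩ := e.surjective ⟨g, hg⟩
    have := hconj s 1
    rw [hs, pow_one] at this
    simp only at this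
    rw [this]
    exact SetLike.coe_mem _
  · intro W' h1 h2
    by_cases hW'b : W' = ⊥
    · exact Or.inl hW'b
    right
    have hmap : W'.map W.subtype = W := by
      refine eq_of_le_of_not_lt (Submodule.map_subtype_le _ _) (hWmin _ ⟨?_, ?_, fun hb => hW'b (eq_bot_of_map_subtype hb)⟩)
      · rintro g hg _ ⟨w, hw, rfl⟩
        refine ⟨σ (e ⟨g, hg⟩ : T ⧸ σ₀.ker) w, h1 _ (SetLike.coe_mem _) w hw, ?_⟩
        rw [he]; rfl
      · rintro _ ⟨w, hw, rfl⟩
        refine ⟨σ (π ⟨x, hxT⟩) w, h2 w hw, ?_⟩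
        rw [hσ]; rfl
    exact Submodule.map_injective_of_injective W.subtype_injective
      (by rw [hmap, Submodule.map_subtype_top])

/-- The order modulo the centre is a square. -/
theorem ScalarQ.exists_square [IsAlgClosed K] [Finite G] [FiniteDimensional K V] [Nontrivial V]
    (h : ScalarQ ρ S q) : ∃ d, Nat.card (S ⧸ Subgroup.center S) = d * d := by
  obtain ⟨W, hWx, H, _, _, σ, S', y, e, _, hcrit, hy, hyS, -, hirr⟩ :=
    h.exists_critical (one_mem _)
  refine ⟨finrank K W, ?_⟩
  have hspan : repSpan σ S' = ⊤ := by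
    have h1 : (1 : Module.End K W) ∈ repSpan σ S' := by simpa using hcrit.rep_mem 1
    have htop : (repSpan σ S').toSubalgebra h1 (fun _ _ => hcrit.mul_mem) = ⊤ := by
      refine eq_top_of_no_invariant _ fun U hU => ?_
      by_cases hUb : U = ⊥
      · exact Or.inl hUb
      · exact Or.inr (hcrit.irreducible (x := (1 : H)) (P := 1) (fun g hg => by simpa using hg) one_pos
          (one_pow 1) (fun U' h1 _ => hirr U' h1 fun w hw => by
            rw [hy]
            convert hw using 1
            exact Subtype.ext (by simp))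
          (fun g hg w hw => hU _ (hcrit.rep_mem ⟨g, hg⟩) w hw) hUb)
    refine eq_top_iff.2 fun f _ => ?_
    have hf : f ∈ (repSpan σ S').toSubalgebra h1 (fun _ _ => hcrit.mul_mem) := htop ▸ Algebra.mem_top
    exact hf
  rw [card_center_quotient_congr e, ← hcrit.finrank_repSpan, hspan, finrank_top,
    Module.finrank_linearMap]

/-- The scalar `ν` is used to make the period exact. -/
def twistRep (ρ : Representation K G V) (M : Subgroup Kˣ) :
    Representation K (G × M) V where
  toFun g := ((g.2 : Kˣ) : K) • ρ g.1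
  map_one' := by simp
  map_mul' g h := by
    rw [Prod.fst_mul, Prod.snd_mul, Subgroup.coe_mul, Units.val_mul, map_mul, smul_mul_smul_comm]

/-- Hall and Higman's bound in the critical case, the period holding modulo the centraliser. -/
theorem ScalarQ.deg_bound [IsAlgClosed K] [Finite G] [FiniteDimensional K V] [Nontrivial V]
    [Fact q.Prime] (h : ScalarQ ρ S q) {x : G} (hxS : x ∈ Subgroup.normalizer (S : Set G)) {P : ℕ}
    (hP : 1 < P) (hxP : ∀ s ∈ S, Commute (x ^ P) s)
    (hfree : ∀ (s : S) (i : ℕ), 0 < i → i < P →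
      (∀ t ∈ S, Commute t ((s : G)⁻¹ * (x ^ i * s * (x ^ i)⁻¹))) → s ∈ Subgroup.center S)
    (hdeg : ∀ (W : Submodule K V) (hWx : ∀ w ∈ W, ρ x w ∈ W) (c : K),
      (∀ w ∈ W, ρ (x ^ P) w = c • w) → deg ((ρ x).restrict hWx) < P) :
    ∃ b : ℕ, 1 ≤ b ∧ P = q ^ b + 1 ∧ Nat.card (S ⧸ Subgroup.center S) = q ^ b * q ^ b := by
  classical
  -- an eigenspace of `x ^ P`
  obtain ⟨c, hc⟩ := Module.End.exists_eigenvalue (ρ (x ^ P))
  set E := Module.End.eigenspace (ρ (x ^ P)) c with hE
  have hEinv : ∀ g, Commute (x ^ P) g → ∀ w ∈ E, ρ g w ∈ E := fun g hg w hw => by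
    rw [hE, Module.End.mem_eigenspace_iff] at hw ⊢
    rw [← rep_self_mul_apply, hg.eq, rep_self_mul_apply, hw, map_smul]
  have hEx : ∀ w ∈ E, ρ x w ∈ E := hEinv x (Commute.pow_self x P)
  set T := S ⊔ Subgroup.zpowers x
  have hET := invariant_of_closure ρ S x E (fun g hg => hEinv g (hxP g hg)) hEx
  set σ := restrictRep ρ T E hET
  have hxT : x ∈ T := Subgroup.mem_sup_right (Subgroup.mem_zpowers x)
  -- the scalar removing it
  obtain ⟨v, hv, hv0⟩ := Submodule.exists_mem_ne_zero_of_ne_bot (show E ≠ ⊥ from hc)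
  have hc0 : c ≠ 0 := fun e => hv0 (by
    rw [hE, Module.End.mem_eigenspace_iff, e, zero_smul] at hv
    rw [← rep_inv_apply_self ρ (x ^ P) v, hv, map_zero])
  obtain ⟨ν, hν⟩ := IsAlgClosed.exists_pow_nat_eq c⁻¹ (by omega : 0 < P)
  have hν0 : ν ≠ 0 := fun e => inv_ne_zero hc0 (by rw [← hν, e, zero_pow (by omega)])
  set N := P * orderOf (x ^ P)
  have : NeZero N := ⟨Nat.mul_ne_zero (by omega) (orderOf_pos _).ne'⟩
  have hνN : Units.mk0 ν hν0 ∈ rootsOfUnity N K := by
    rw [mem_rootsOfUnity, Units.ext_iff, Units.val_pow_eq_pow_val, Units.val_mk0, Units.val_one,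
      pow_mul, hν, inv_pow, inv_eq_one]
    have hpow : ∀ k : ℕ, ρ ((x ^ P) ^ k) v = c ^ k • v := fun k => by
      induction k with
      | zero => simp
      | succ k ih =>
        rw [hE, Module.End.mem_eigenspace_iff] at hv
        rw [pow_succ', rep_self_mul_apply, ih, map_smul, hv, smul_smul, pow_succ]
    have h1 := hpow (orderOf (x ^ P))
    rw [pow_orderOf_eq_one, map_one, Module.End.one_apply] at h1
    exact smul_left_injective K hv0 (h1.symm.trans (one_smul K v).symm)
  let M := rootsOfUnity N K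
  let τ := twistRep σ M
  let x' : T × M := (⟨x, hxT⟩, ⟨_, hνN⟩)
  have hτx : τ x' = ν • σ ⟨x, hxT⟩ := rfl
  have hST : S ≤ T := le_sup_left
  let ι : S →* T × M := (MonoidHom.inl T M).comp (Subgroup.inclusion hST)
  let e : S ≃* ι.range := MonoidHom.ofInjective (f := ι)
    (fun a b hab => Subgroup.inclusion_injective hST (congrArg Prod.fst hab))
  have hτe : ∀ s : S, τ (e s : T × M) = σ (Subgroup.inclusion hST s) := fun s => one_smul K _
  have hEb : E ≠ ⊥ := hc
  have : Nontrivial E := Submodule.nontrivial_iff_ne_bot.2 hEb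
  have hQ : ScalarQ τ ι.range q := h.transfer e
    (fun s d hd => LinearMap.ext fun w => Subtype.ext (by
      rw [hτe, restrictRep_apply_coe, Subgroup.coe_inclusion, hd]; rfl))
    (fun s hs => h.faithful_on hEb (fun g hg => hEinv g (hxP g hg)) fun w hw =>
      congrArg Subtype.val (LinearMap.congr_fun ((hτe s).symm.trans hs) ⟨w, hw⟩))
  have hconj : ∀ (s : S) (i : ℕ), x' ^ i * (e s : T × M) * (x' ^ i)⁻¹
      = (e ⟨x ^ i * s * (x ^ i)⁻¹, conj_mem_of_mem_normalizer (pow_mem hxS i) s.2⟩ : T × M) := by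
    intro s i
    show _ = ι _
    rw [show (e s : T × M) = ι s from rfl]
    refine Prod.ext (Subtype.ext ?_) ?_
    · simp [ι, x']
    · simp [ι, x']
  have hx'S : x' ∈ Subgroup.normalizer (ι.range : Set (T × M)) := mem_normalizer_of_conj_mem fun g hg => by
    obtain ⟨s, hs⟩ := e.surjective ⟨g, hg⟩
    have h1 := hconj s 1
    rw [hs, pow_one] at h1
    simp only at h1
    rw [h1]
    exact SetLike.coe_mem _
  obtain ⟨W, hWx, H, _, _, φ, S', y, f, _, hcrit, hy, hyS, hyconj, hirr⟩ := hQ.exists_critical hx'S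
  -- the period is now exact
  have hτP : τ (x' ^ P) = 1 := LinearMap.ext fun w => Subtype.ext (by
    rw [map_pow, hτx, smul_pow, ← map_pow, LinearMap.smul_apply, Submodule.coe_smul,
      restrictRep_apply_coe, SubgroupClass.coe_pow,
      show ρ (x ^ P) (w : V) = c • (w : V) from Module.End.mem_eigenspace_iff.1 w.2, smul_smul, hν,
      inv_mul_cancel₀ hc0, one_smul, Module.End.one_apply])
  have hyP : y ^ P = 1 := hcrit.injective (by
    rw [map_pow, map_one, hy, Module.End.pow_restrict]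
    refine LinearMap.ext fun w => Subtype.ext ?_
    show ((τ x') ^ P) (w : E) = w
    rw [← map_pow, hτP, Module.End.one_apply])
  have hdeg' : deg (φ y) < P := by
    have h1 : deg (φ y) ≤ deg (σ ⟨x, hxT⟩) := by
      rw [hy]
      refine (deg_restrict_le _).trans ?_
      rw [hτx]
      exact deg_smul_le _ _
    exact lt_of_le_of_lt h1 (hdeg E hEx c fun w hw => Module.End.mem_eigenspace_iff.1 hw)
  have hfree' : ∀ (u v : S') (i : ℕ), 0 < i → i < P → (v : H) = y ^ i * u * (y ^ i)⁻¹ →
      u⁻¹ * v ∈ Subgroup.center S' → u ∈ Subgroup.center S' := by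
    intro u v i hi hiP hv huv
    obtain ⟨g, rfl⟩ := f.surjective u
    obtain ⟨s, rfl⟩ := e.surjective g
    rw [hyconj] at hv
    have hv' : v = f (e ⟨x ^ i * s * (x ^ i)⁻¹, conj_mem_of_mem_normalizer (pow_mem hxS i) s.2⟩) := by
      refine (Subtype.ext hv).trans (congrArg f (Subtype.ext ?_))
      exact hconj s i
    rw [hv', ← map_inv, ← map_mul, ← map_inv, ← map_mul] at huv
    have hs : s ∈ Subgroup.center S := hfree s i hi hiP fun t ht => congrArg Subtype.val
      (e.injective (f.injective (by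
        simpa only [map_mul] using Subgroup.mem_center_iff.1 huv (f (e ⟨t, ht⟩)))) :
        (⟨t, ht⟩ : S) * (s⁻¹ * ⟨x ^ i * s * (x ^ i)⁻¹, _⟩) = (s⁻¹ * ⟨x ^ i * s * (x ^ i)⁻¹, _⟩) * ⟨t, ht⟩)
    refine Subgroup.mem_center_iff.2 fun g => ?_
    obtain ⟨g, rfl⟩ := f.surjective g
    obtain ⟨g, rfl⟩ := e.surjective g
    rw [← map_mul, ← map_mul, ← map_mul, ← map_mul, Subgroup.mem_center_iff.1 hs g]
  rcases hcrit.deg_bound_card hyS hP hyP hfree' hirr with h1 | ⟨b, hb, hPb, -, hcard⟩
  · omega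
  · exact ⟨b, hb, hPb, by rw [card_center_quotient_congr (e.trans f)]; exact hcard⟩

end CfsgLib.FixedFree
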