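import Cfsg.Agent.Lib.FixedFree.ClassTwo
import Cfsg.Agent.Lib.FixedFree.CriticalPart

/-!
# The action on `T / Z(T)` in the prime-order configuration
-/

set_option autoImplicit false

namespace CfsgLib.FixedFree

open Subgroup CfsgLib.HallHigman CfsgLib.PLength
open scoped commutatorElement

universe u

variable {G : Type u} [Group G] [Finite G] {a : G} {T R : Subgroup G} {p q r : ℕ} [T.Normal] [Fact q.Prime]

/-- Conjugation on `T / Z(T)`. -/
noncomputable def cenRep (h : PrimeConfig a T R p q r) :
    Representation (ZMod q) G h.elemNormal_center.Space :=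
  h.elemNormal_center.conjRep.comp (QuotientGroup.mk' (centerIn T))

/-- The class of an element of `T` modulo the centre. -/
noncomputable def cenVec (h : PrimeConfig a T R p q r) (u : G) (hu : u ∈ T) :
    h.elemNormal_center.Space :=
  h.elemNormal_center.vec ⟨_, Subgroup.mem_map_of_mem _ hu⟩

theorem exists_cenVec (h : PrimeConfig a T R p q r) (x : h.elemNormal_center.Space) :
    ∃ (u : G) (hu : u ∈ T), cenVec h u hu = x := by
  obtain ⟨⟨_, u, hu, rfl⟩, rfl⟩ := h.elemNormal_center.vec.surjective x
  exact ⟨u, hu, rfl⟩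

theorem cenVec_eq_zero (h : PrimeConfig a T R p q r) {u : G} (hu : u ∈ T) :
    cenVec h u hu = 0 ↔ u ∈ centerIn T := by
  rw [cenVec, ElemNormal.vec_eq_zero, ← Subtype.coe_inj]
  exact QuotientGroup.eq_one_iff u

theorem cenRep_apply (h : PrimeConfig a T R p q r) (g : G) {u : G} (hu : u ∈ T) :
    cenRep h g (cenVec h u hu) = cenVec h (g * u * g⁻¹) (h.normal.conj_mem u hu g) := by
  rw [cenRep, MonoidHom.comp_apply, cenVec, ElemNormal.conjRep_vec, cenVec]
  congr 1

theorem cenRep_fix_iff (h : PrimeConfig a T R p q r) (g : G) {u : G} (hu : u ∈ T) :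
    cenRep h g (cenVec h u hu) = cenVec h u hu ↔ ⁅g, u⁆ ∈ centerIn T := by
  rw [cenRep_apply, cenVec, cenVec, h.elemNormal_center.vec.apply_eq_iff_eq, Subtype.ext_iff,
    ← QuotientGroup.eq_one_iff (N := centerIn T) ⁅g, u⁆, commutatorElement_def]
  simp only [QuotientGroup.mk'_apply, QuotientGroup.mk_mul, QuotientGroup.mk_inv]
  exact mul_inv_eq_one.symm

theorem cenRep_eq_one_of_centralizes (h : PrimeConfig a T R p q r) {g : G}
    (hg : ∀ t ∈ T, Commute g t) : cenRep h g = 1 := LinearMap.ext fun x => by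
  obtain ⟨u, hu, rfl⟩ := exists_cenVec h x
  rw [Module.End.one_apply, cenRep_fix_iff, commutatorElement_eq_one_iff_commute.2 (hg u hu)]
  exact one_mem _

/-- A coprime group of operators fixing a class fixes a representative. -/
theorem exists_commute_of_fixed (h : PrimeConfig a T R p q r) {S : Subgroup G}
    (hS : (Nat.card S).Coprime q) {u : G} (hu : u ∈ T)
    (hfix : ∀ g ∈ S, cenRep h g (cenVec h u hu) = cenVec h u hu) :
    ∃ z ∈ centerIn T, u * z ∈ centralizer (S : Set G) := by
  have := Fact.mk h.hq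
  obtain ⟨k, hk⟩ := IsPGroup.iff_card.1 h.isPGroup
  refine Coprime.exists_mem_centralizer_of_coset (h.le_normalizer S)
    (by rw [Subgroup.normalizer_eq_top]; exact le_top) (centerIn_le T) (hk ▸ hS.pow_right k)
    (Or.inr ?_) hu fun g hg => ?_
  · have := (h.isPGroup.to_le (centerIn_le T)).isNilpotent
    infer_instance
  · have h1 := (centerIn_normal T).conj_mem _ ((cenRep_fix_iff h g hu).1 (hfix g hg)) u⁻¹
    simp only [commutatorElement_def] at h1
    convert h1 using 1
    group

/-- A class fixed by `S`, where what `S` fixes in `T` is central, vanishes. -/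
theorem eq_zero_of_fixed (h : PrimeConfig a T R p q r) {S : Subgroup G}
    (hS : (Nat.card S).Coprime q)
    (hC : ∀ u ∈ T, u ∈ centralizer (S : Set G) → u ∈ centerIn T) : NoFixed (cenRep h) S := by
  intro x hx
  obtain ⟨u, hu, rfl⟩ := exists_cenVec h x
  obtain ⟨z, hz, hc⟩ := exists_commute_of_fixed h hS hu hx
  rw [cenVec_eq_zero]
  have h1 := mul_mem (hC _ (mul_mem hu (centerIn_le T hz)) hc) (inv_mem hz)
  rwa [mul_inv_cancel_right] at h1

theorem central_of_fixGroup (h : PrimeConfig a T R p q r) {u : G} (hu : u ∈ T)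
    (hc : u ∈ centralizer (fixGroup a R : Set G)) : u ∈ centerIn T := by
  obtain ⟨h1, h2⟩ := mem_centralizer_fixGroup.1 hc
  exact mem_centerIn.2 ⟨hu, h.central_of_fixed hu (h.fixed u hu h1 h2)⟩

theorem noFixed_fixGroup (h : PrimeConfig a T R p q r) : NoFixed (cenRep h) (fixGroup a R) :=
  eq_zero_of_fixed h (coprime_fixGroup h.hp h.hq h.hr h.hpq h.hrq h.hpr h.pow_eq h.isPGroupR h.normalizes)
    fun _ hu hc => central_of_fixGroup h hu hc

/-- `R` acts on `T / Z(T)` through an abelian group. -/
theorem cenRep_comm (h : PrimeConfig a T R p q r) {x y : G} (hx : x ∈ R) (hy : y ∈ R) :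
    cenRep h (x * y) = cenRep h (y * x) := by
  rw [show x * y = ⁅x, y⁆ * (y * x) by rw [commutatorElement_def]; group, map_mul,
    cenRep_eq_one_of_centralizes h (h.derived x hx y hy), one_mul]

theorem card_space (h : PrimeConfig a T R p q r) :
    Nat.card h.elemNormal_center.Space = Nat.card (T ⧸ center T) := by
  let f : T →* G ⧸ centerIn T := (QuotientGroup.mk' (centerIn T)).comp T.subtype
  have hker : f.ker = center T := by
    ext t
    rw [MonoidHom.mem_ker]
    refine (QuotientGroup.eq_one_iff _).trans ⟨fun ht => ?_, fun ht => ⟨t, ht, rfl⟩⟩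
    obtain ⟨z, hz, e⟩ := ht
    rwa [← Subtype.ext e]
  rw [Nat.card_congr h.elemNormal_center.vec.symm, Nat.card_congr (QuotientGroup.quotientMulEquivOfEq hker.symm).toEquiv,
    Nat.card_congr (QuotientGroup.quotientKerEquivRange f).toEquiv,
    show f.range = T.map (QuotientGroup.mk' (centerIn T)) by rw [MonoidHom.range_comp, T.range_subtype]]

theorem card_space_eq_pow (h : PrimeConfig a T R p q r) :
    Nat.card h.elemNormal_center.Space
      = q ^ Module.finrank (ZMod q) h.elemNormal_center.Space := by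
  rw [Module.natCard_eq_pow_finrank (K := ZMod q), Nat.card_zmod]

end CfsgLib.FixedFree
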