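import Cfsg.Agent.Lib.FixedFree.Frattini
import Cfsg.Agent.Lib.Coprime.Sylow

/-!
# A normal `q`-subgroup minimal subject to being moved by a coprime abelian action
-/

set_option autoImplicit false

namespace CfsgLib.FixedFree

open Subgroup CfsgLib.HallHigman CfsgLib.PLength
open scoped commutatorElement

universe u

variable {G : Type u} [Group G] [Finite G]

/-- The group generated by `a` and the commutators of `R` with `a`. -/
def fixGroup (a : G) (R : Subgroup G) : Subgroup G :=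
  zpowers a ⊔ closure {g | ∃ s ∈ R, g = ⁅s, a⁆}

omit [Finite G] in
theorem commutator_mem_fixGroup {a : G} {R : Subgroup G} {s : G} (hs : s ∈ R) :
    ⁅s, a⁆ ∈ fixGroup a R :=
  mem_sup_right (subset_closure ⟨s, hs, rfl⟩)

omit [Finite G] in
theorem mem_fixGroup (a : G) (R : Subgroup G) : a ∈ fixGroup a R :=
  mem_sup_left (mem_zpowers a)

omit [Finite G] in
theorem fixGroup_le_iff {a : G} {R H : Subgroup G} :
    fixGroup a R ≤ H ↔ a ∈ H ∧ ∀ s ∈ R, ⁅s, a⁆ ∈ H := by
  rw [fixGroup, sup_le_iff, Subgroup.zpowers_le, closure_le]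
  exact and_congr_right fun _ => ⟨fun h s hs => h ⟨s, hs, rfl⟩, fun h g ⟨s, hs, e⟩ => e ▸ h s hs⟩

omit [Finite G] in
theorem mem_centralizer_fixGroup {a : G} {R : Subgroup G} {t : G} :
    t ∈ centralizer (fixGroup a R : Set G) ↔ Commute a t ∧ ∀ s ∈ R, Commute ⁅s, a⁆ t := by
  rw [← zpowers_le, Subgroup.le_centralizer_iff, fixGroup_le_iff]
  exact and_congr
    ⟨fun h => (mem_centralizer_iff.1 h t (mem_zpowers t)).symm, fun h => mem_centralizer_iff.2 fun g hg => by
      obtain ⟨i, rfl⟩ := mem_zpowers_iff.1 hg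
      exact (h.zpow_right i).eq.symm⟩
    (forall₂_congr fun s _ =>
      ⟨fun h => (mem_centralizer_iff.1 h t (mem_zpowers t)).symm, fun h => mem_centralizer_iff.2 fun g hg => by
        obtain ⟨i, rfl⟩ := mem_zpowers_iff.1 hg
        exact (h.zpow_right i).eq.symm⟩)

theorem fixGroup_le_sup {a : G} {R : Subgroup G} (haR : a ∈ normalizer (R : Set G)) :
    fixGroup a R ≤ R ⊔ zpowers a :=
  fixGroup_le_iff.2 ⟨mem_sup_right (mem_zpowers a), fun s hs => mem_sup_left (by
    rw [commutatorElement_def, show s * a * s⁻¹ * a⁻¹ = s * (a * s⁻¹ * a⁻¹) by group]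
    exact mul_mem hs (conj_mem_of_mem_normalizer haR (inv_mem hs)))⟩

theorem coprime_fixGroup {a : G} {R : Subgroup G} {p q r : ℕ} (hp : p.Prime) (hq : q.Prime)
    (hr : r.Prime) (hpq : p ≠ q) (hrq : r ≠ q) (hpr : p ≠ r) (ha : a ^ p = 1) (hR : IsPGroup r R)
    (haR : a ∈ normalizer (R : Set G)) : (Nat.card (fixGroup a R)).Coprime q := by
  have := Fact.mk hr
  refine Nat.Coprime.coprime_dvd_left (Subgroup.card_dvd_of_le (fixGroup_le_sup haR)) ?_
  obtain ⟨k, hk⟩ := IsPGroup.iff_card.1 hR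
  have hd : Nat.card (zpowers a) ∣ p := by rw [Nat.card_zpowers]; exact orderOf_dvd_of_pow_eq_one ha
  have hco : (Nat.card (zpowers a)).Coprime (Nat.card R) := by
    rw [hk]; exact (((Nat.coprime_primes hp hr).2 hpr).pow_right k).coprime_dvd_left hd
  rw [Coprime.card_sup_of_inf_eq_bot (Subgroup.zpowers_le.2 haR) (Coprime.inf_eq_bot_of_coprime hco), hk]
  exact Nat.Coprime.mul_left (((Nat.coprime_primes hr hq).2 hrq).pow_left k)
    (((Nat.coprime_primes hp hq).2 hpq).coprime_dvd_left hd)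

/-- The minimal configuration in the prime-order case. -/
structure PrimeConfig (a : G) (T R : Subgroup G) (p q r : ℕ) : Prop where
  hp : p.Prime
  hq : q.Prime
  hr : r.Prime
  hpq : p ≠ q
  hrq : r ≠ q
  hpr : p ≠ r
  pow_eq : a ^ p = 1
  normal : T.Normal
  isPGroup : IsPGroup q T
  isPGroupR : IsPGroup r R
  normalizes : a ∈ normalizer (R : Set G)
  derived : ∀ x ∈ R, ∀ y ∈ R, ∀ t ∈ T, Commute ⁅x, y⁆ t
  fixed : ∀ t ∈ T, Commute a t → (∀ s ∈ R, Commute ⁅s, a⁆ t) → ∀ s ∈ R, Commute s t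
  moved : ∃ s ∈ R, ∃ t ∈ T, ¬ Commute s t
  minimal : ∀ U ≤ T, R ≤ normalizer (U : Set G) → a ∈ normalizer (U : Set G) → U ≠ T →
    ∀ s ∈ R, ∀ u ∈ U, Commute s u
  abelianFix : ∀ U ≤ T, a ∈ normalizer (U : Set G) → (∀ x ∈ U, ∀ y ∈ U, Commute x y) →
    ∀ u ∈ U, Commute a u

namespace PrimeConfig

variable {a : G} {T R : Subgroup G} {p q r : ℕ}

omit [Finite G] in
theorem le_normalizer (h : PrimeConfig a T R p q r) (H : Subgroup G) :
    H ≤ normalizer (T : Set G) := by
  have := h.normal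
  rw [Subgroup.normalizer_eq_top]
  exact le_top

theorem coprimeR (h : PrimeConfig a T R p q r) : (Nat.card R).Coprime (Nat.card T) := by
  have := Fact.mk h.hq
  have := Fact.mk h.hr
  obtain ⟨k, hk⟩ := IsPGroup.iff_card.1 h.isPGroup
  obtain ⟨j, hj⟩ := IsPGroup.iff_card.1 h.isPGroupR
  rw [hk, hj]
  exact (((Nat.coprime_primes h.hr h.hq).2 h.hrq).pow_left j).pow_right k

theorem solvableT (h : PrimeConfig a T R p q r) : Group.IsSolvable T := by
  have := Fact.mk h.hq
  have := h.isPGroup.isNilpotent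
  infer_instance

theorem commutator_eq (h : PrimeConfig a T R p q r) : ⁅T, R⁆ = T := by
  have hle : ⁅T, R⁆ ≤ T := le_normalizer_iff_commutator_le_left.1 (h.le_normalizer R)
  by_contra hne
  have ha : a ∈ normalizer ((⁅T, R⁆ : Subgroup G) : Set G) := by
    rw [mem_normalizer_iff_map_conj_eq, map_commutator,
      mem_normalizer_iff_map_conj_eq.1 ((h.le_normalizer ⊤) (mem_top a)),
      mem_normalizer_iff_map_conj_eq.1 h.normalizes]
  have h2 : ⁅⁅T, R⁆, R⁆ = ⊥ := commutator_eq_bot_iff_le_centralizer.2 fun t ht =>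
    mem_centralizer_iff.2 fun s hs =>
      h.minimal _ hle (normalizer_commutator_ge_right T R) ha hne s hs t ht
  have h3 := Coprime.commutator_eq_bot_of_commutator_commutator (h.le_normalizer R) h.coprimeR
    (Or.inr h.solvableT) h2
  obtain ⟨s, hs, t, ht, hst⟩ := h.moved
  exact hst (commutatorElement_eq_one_iff_commute.1
    (Subgroup.mem_bot.1 (h3 ▸ commutator_mem_commutator ht hs))).symm

theorem fix_derived (h : PrimeConfig a T R p q r) : ∀ u ∈ ⁅T, T⁆, ∀ s ∈ R, Commute s u := by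
  have := Fact.mk h.hq
  have hT := h.normal
  intro u hu s hs
  have hn : (⁅T, T⁆).Normal := inferInstance
  refine h.minimal _ (le_normalizer_iff_commutator_le_left.1 (h.le_normalizer T))
    (by rw [Subgroup.normalizer_eq_top]; exact le_top) (by rw [Subgroup.normalizer_eq_top]; trivial)
    (fun e => ?_) s hs u hu
  have hsol := h.solvableT
  have : Nontrivial T := by
    obtain ⟨s, hs, t, ht, hst⟩ := h.moved
    exact ⟨⟨t, ht⟩, 1, fun e => hst (by rw [show t = 1 from congrArg Subtype.val e]; exact Commute.one_right s)⟩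
  refine (Group.IsSolvable.commutator_lt_top_of_nontrivial T).ne ?_
  refine Subgroup.map_injective T.subtype_injective ?_
  rw [Subgroup.map_subtype_commutator, e, ← MonoidHom.range_eq_map, Subgroup.range_subtype]

theorem classTwo (h : PrimeConfig a T R p q r) : ∀ u ∈ ⁅T, T⁆, ∀ t ∈ T, Commute t u := by
  have hT := h.normal
  set D := ⁅T, T⁆ with hD
  have hDn : D.Normal := inferInstance
  have hDR : ⁅D, R⁆ = ⊥ := commutator_eq_bot_iff_le_centralizer.2 fun u hu =>
    mem_centralizer_iff.2 fun s hs => h.fix_derived u hu s hs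
  have h1 : ⁅⁅R, D⁆, T⁆ = ⊥ := by rw [commutator_comm R D, hDR, commutator_bot_left]
  have h2 : ⁅⁅D, T⁆, R⁆ = ⊥ := commutator_eq_bot_iff_le_centralizer.2
    ((commutator_le_left D T).trans (commutator_eq_bot_iff_le_centralizer.1 hDR))
  have h3 := commutator_commutator_eq_bot_of_rotate (H₁ := T) (H₂ := R) (H₃ := D) h1 h2
  rw [h.commutator_eq, commutator_eq_bot_iff_le_centralizer] at h3
  exact fun u hu t ht => (mem_centralizer_iff.1 (h3 ht) u hu).symm

/-- The elements of `T` fixed by operators centralising the derived group commute with the moved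
part. -/
theorem commute_moved (h : PrimeConfig a T R p q r) {S : Subgroup G}
    (hS : ∀ g ∈ S, ∀ u ∈ ⁅T, T⁆, Commute g u) {c : G} (hc : c ∈ T) (hcS : ∀ g ∈ S, Commute g c) :
    ∀ m ∈ ⁅T, S⁆, Commute m c := by
  intro m hm
  refine mem_centralizer_singleton_iff.1 ((commutator_le.2 fun t ht g hg => ?_ :
    ⁅T, S⁆ ≤ centralizer {c}) hm)
  have hu : g * t * g⁻¹ ∈ T := h.normal.conj_mem t ht g
  set u := g * t * g⁻¹ with hu'
  have hct : ⁅c, u⁆ = ⁅c, t⁆ := by
    have hmem : ⁅c, t⁆ ∈ ⁅T, T⁆ := commutator_mem_commutator hc ht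
    conv_rhs => rw [← mul_inv_cancel_right ⁅c, t⁆ g, ← (hS g hg _ hmem).eq]
    have e : g * ⁅c, t⁆ * g⁻¹ = ⁅g * c * g⁻¹, u⁆ := by
      rw [hu', commutatorElement_def, commutatorElement_def]; group
    rw [e, (hcS g hg).eq, mul_inv_cancel_right]
  rw [mem_centralizer_singleton_iff]
  have e : c * (t * u⁻¹) * c⁻¹ = t * u⁻¹ := by
    calc c * (t * u⁻¹) * c⁻¹ = ⁅c, t⁆ * t * u⁻¹ * ⁅c, u⁆⁻¹ := by
          rw [commutatorElement_def, commutatorElement_def]; group
      _ = ⁅c, t⁆ * (t * u⁻¹) * ⁅c, t⁆⁻¹ := by rw [hct]; group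
      _ = _ := by
        rw [← (h.classTwo _ (commutator_mem_commutator hc ht) (t * u⁻¹) (mul_mem ht (inv_mem hu))).eq,
          mul_inv_cancel_right]
  rw [commutatorElement_def, show t * g * t⁻¹ * g⁻¹ = t * u⁻¹ by rw [hu']; group]
  exact (mul_inv_eq_iff_eq_mul.1 e).symm

/-- What `R` fixes is central. -/
theorem central_of_fixed (h : PrimeConfig a T R p q r) {c : G} (hc : c ∈ T)
    (hcR : ∀ s ∈ R, Commute s c) : ∀ t ∈ T, Commute t c := fun t ht =>
  h.commute_moved (fun g hg u hu => h.fix_derived u hu g hg) hc hcR t (h.commutator_eq.ge ht)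

theorem exists_moved_by_a (h : PrimeConfig a T R p q r) : ∃ t ∈ T, ¬ Commute a t := by
  by_contra hc
  push Not at hc
  obtain ⟨s, hs, t, ht, hst⟩ := h.moved
  refine hst (h.fixed t ht (hc t ht) (fun x hx => ?_) s hs)
  -- `[R, a]` centralises what `a` centralises
  have h1 : x⁻¹ * t * x ∈ T := by simpa using h.normal.conj_mem t ht x⁻¹
  have h2 : Commute (x * a * x⁻¹) t := by
    have := (hc _ h1).map (MulAut.conj x).toMonoidHom
    simpa [mul_assoc] using this
  rw [commutatorElement_def]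
  exact h2.mul_left (hc t ht).inv_left

theorem nonabelian (h : PrimeConfig a T R p q r) : ∃ t ∈ T, ∃ u ∈ T, ¬ Commute t u := by
  by_contra hc
  push Not at hc
  obtain ⟨t, ht, hta⟩ := h.exists_moved_by_a
  exact hta (h.abelianFix T le_rfl ((h.le_normalizer ⊤) (mem_top a)) hc t ht)

end PrimeConfig

/-- The centre of a subgroup, in the ambient group. -/
def centerIn (T : Subgroup G) : Subgroup G := (center T).map T.subtype

omit [Finite G] in
theorem mem_centerIn {T : Subgroup G} {u : G} :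
    u ∈ centerIn T ↔ u ∈ T ∧ ∀ t ∈ T, Commute t u := by
  constructor
  · rintro ⟨z, hz, rfl⟩
    exact ⟨z.2, fun t ht => congrArg Subtype.val (Subgroup.mem_center_iff.1 hz ⟨t, ht⟩)⟩
  · rintro ⟨hu, h⟩
    exact ⟨⟨u, hu⟩, Subgroup.mem_center_iff.2 fun t => Subtype.ext (h t t.2), rfl⟩

omit [Finite G] in
theorem centerIn_le (T : Subgroup G) : centerIn T ≤ T := Subgroup.map_subtype_le _

instance centerIn_normal (T : Subgroup G) [T.Normal] : (centerIn T).Normal :=
  inferInstanceAs (((center T).map T.subtype).Normal)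

namespace PrimeConfig

variable {a : G} {T R : Subgroup G} {p q r : ℕ}

theorem centerIn_ne (h : PrimeConfig a T R p q r) : centerIn T ≠ T := fun e => by
  obtain ⟨t, ht, u, hu, hne⟩ := h.nonabelian
  exact hne ((mem_centerIn.1 (e.ge hu)).2 t ht)

theorem fix_center (h : PrimeConfig a T R p q r) {z : G} (hz : z ∈ centerIn T) :
    Commute a z ∧ ∀ s ∈ R, Commute s z := by
  have := h.normal
  have hn : ∀ g : G, g ∈ normalizer (centerIn T : Set G) := fun g => by
    rw [Subgroup.normalizer_eq_top]; trivial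
  exact ⟨h.abelianFix _ (centerIn_le T) (hn a)
      (fun x hx y hy => (mem_centerIn.1 hy).2 x (centerIn_le T hx)) z hz,
    fun s hs => h.minimal _ (centerIn_le T) (fun g _ => hn g) (hn a) h.centerIn_ne s hs z hz⟩

theorem elemNormal_center [T.Normal] (h : PrimeConfig a T R p q r) :
    ElemNormal q (T.map (QuotientGroup.mk' (centerIn T))) := by
  have := Fact.mk h.hq
  refine ⟨Subgroup.Normal.map inferInstance _ (QuotientGroup.mk'_surjective _), ?_, ?_⟩
  · rintro _ ⟨x, hx, rfl⟩ _ ⟨y, hy, rfl⟩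
    rw [← map_mul, ← map_mul, QuotientGroup.mk'_apply, QuotientGroup.mk'_apply]
    refine QuotientGroup.eq.2 (mem_centerIn.2 ⟨mul_mem (inv_mem (mul_mem hx hy)) (mul_mem hy hx), fun t ht => ?_⟩)
    have := h.classTwo _ (commutator_mem_commutator (inv_mem hy) (inv_mem hx)) t ht
    convert this using 1
    rw [commutatorElement_def]; group
  · rintro _ ⟨x, hx, rfl⟩
    rw [← map_pow, QuotientGroup.mk'_apply, QuotientGroup.eq_one_iff]
    have hxq : x ^ q ∈ frattiniIn T := ⟨_, CfsgLib.StructC.pow_mem_frattini h.isPGroup ⟨x, hx⟩, by simp⟩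
    have hn : ∀ g : G, g ∈ normalizer (frattiniIn T : Set G) := fun g => by
      rw [Subgroup.normalizer_eq_top]; trivial
    have hne : T ≠ ⊥ := fun e => by
      obtain ⟨t, ht, u, hu, hne⟩ := h.nonabelian
      rw [e, Subgroup.mem_bot] at ht
      exact hne (ht ▸ Commute.one_left u)
    exact mem_centerIn.2 ⟨pow_mem hx q, h.central_of_fixed (pow_mem hx q) fun s hs =>
      h.minimal _ (frattiniIn_le T) (fun g _ => hn g) (hn a) (frattiniIn_ne hne) s hs _ hxq⟩

end PrimeConfig

end CfsgLib.FixedFree
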