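import Cfsg.Agent.Lib.FixedFree.PrimeAction
import Mathlib.GroupTheory.GroupAction.Quotient

/-!
# Fixed-point-free groups with subgroups of prime order: the irreducible case
-/

set_option autoImplicit false

namespace CfsgLib.FixedFree

open Module Subgroup CfsgLib.HallHigman
open scoped commutatorElement

universe u v w

variable {K : Type v} [Field K] {G : Type u} [Group G]

/-- `A` acts without fixed points on the module and on `Q`, `R`, and its proper nontrivial subgroups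
have prime order. -/
structure FpfHyp {V : Type w} [AddCommGroup V] [Module K V] (ρ : Representation K G V)
    (A Q R : Subgroup G) (q r : ℕ) : Prop where
  isPGroup : IsPGroup q Q
  isPGroupR : IsPGroup r R
  coprimeQ : (Nat.card A).Coprime q
  coprimeR : (Nat.card A).Coprime r
  cardNe : (Nat.card A : K) ≠ 0
  sub : ∀ B ≤ A, B ≠ ⊥ → B ≠ A → (Nat.card B).Prime
  normQ : A ≤ normalizer (Q : Set G)
  normR : A ≤ normalizer (R : Set G)
  normRQ : R ≤ normalizer (Q : Set G)
  noFixed : NoFixed ρ A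
  fixQ : Q ⊓ centralizer (A : Set G) = ⊥
  fixR : R ⊓ centralizer (A : Set G) = ⊥

/-- The elements fixing a subspace pointwise. -/
def fixer {V : Type w} [AddCommGroup V] [Module K V] (ρ : Representation K G V)
    (W : Submodule K V) : Subgroup G where
  carrier := {g | ∀ w ∈ W, ρ g w = w}
  one_mem' := fun w _ => by simp
  mul_mem' := fun {x y} hx hy w hw => by rw [rep_self_mul_apply, hy w hw, hx w hw]
  inv_mem' := fun {x} hx w hw => by
    conv_lhs => rw [← hx w hw]
    exact rep_inv_apply_self ρ x w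

theorem normalizes_fixGroup [Finite G] {a : G} {R : Subgroup G} :
    R ≤ normalizer (fixGroup a R : Set G) := by
  intro s hs
  refine mem_normalizer_of_conj_mem ?_
  suffices h : fixGroup a R ≤ (fixGroup a R).comap (MulAut.conj s).toMonoidHom from fun g hg => h hg
  refine fixGroup_le_iff.2 ⟨?_, fun x hx => ?_⟩
  · show s * a * s⁻¹ ∈ fixGroup a R
    have e : s * a * s⁻¹ = ⁅s, a⁆ * a := by rw [commutatorElement_def]; group
    rw [e]
    exact mul_mem (commutator_mem_fixGroup hs) (mem_fixGroup a R)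
  · show s * ⁅x, a⁆ * s⁻¹ ∈ fixGroup a R
    have e : s * ⁅x, a⁆ * s⁻¹ = ⁅s * x, a⁆ * ⁅s, a⁆⁻¹ := by
      rw [commutatorElement_def, commutatorElement_def, commutatorElement_def]; group
    rw [e]
    exact mul_mem (commutator_mem_fixGroup (mul_mem hs hx)) (inv_mem (commutator_mem_fixGroup hs))

variable [IsAlgClosed K] {V : Type w} [AddCommGroup V] [Module K V] [FiniteDimensional K V]
  [Finite G] {ρ : Representation K G V} {A Q R : Subgroup G} {q r : ℕ}

omit [IsAlgClosed K] [FiniteDimensional K V] in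
theorem FpfHyp.coprime_card (h : FpfHyp ρ A Q R q r) (hq : q.Prime) (hr : r.Prime) :
    (Nat.card A).Coprime (Nat.card Q) ∧ (Nat.card A).Coprime (Nat.card R) := by
  have := Fact.mk hq
  have := Fact.mk hr
  obtain ⟨k, hk⟩ := IsPGroup.iff_card.1 h.isPGroup
  obtain ⟨j, hj⟩ := IsPGroup.iff_card.1 h.isPGroupR
  exact ⟨hk ▸ h.coprimeQ.pow_right k, hj ▸ h.coprimeR.pow_right j⟩

/-- A normal `Ω₁`-piece of the centre of `Q` is centralised by `R`. -/
theorem FpfHyp.commute_central (h : FpfHyp ρ A Q R q r) (hinj : Function.Injective ρ)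
    (hq : q.Prime) (hr : r.Prime) (hrq : r ≠ q) (hqK : (q : K) ≠ 0)
    (hderiv : ∀ x ∈ R, ∀ y ∈ R, ∀ u ∈ Q, Commute ⁅x, y⁆ u) {Z : Subgroup G} [Z.Normal]
    (hZQ : Z ≤ Q) (hZc : ∀ x ∈ Z, ∀ y ∈ Z, Commute x y) :
    ∀ s ∈ R, ∀ z ∈ Z, Commute s z := by
  classical
  have := Fact.mk hq
  have := Fact.mk hr
  obtain ⟨hcQ, hcR⟩ := h.coprime_card hq hr
  have hn : ∀ H : Subgroup G, H ≤ normalizer (Z : Set G) := fun H => by
    rw [Subgroup.normalizer_eq_top]; exact le_top
  have hcZ : (Nat.card A).Coprime (Nat.card Z) := hcQ.coprime_dvd_right (card_dvd_of_le hZQ)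
  have hsolZ : Group.IsSolvable Z := by
    have := (h.isPGroup.to_le hZQ).isNilpotent
    infer_instance
  have hCZ : Z ⊓ centralizer (A : Set G) = ⊥ :=
    le_bot_iff.1 ((inf_le_inf_right _ hZQ).trans h.fixQ.le)
  have hZA : ⁅Z, A⁆ = Z := commutator_eq_of_fpf (hn A) hcZ hsolZ hCZ
  have hsolR : Group.IsSolvable R := by
    have := h.isPGroupR.isNilpotent
    infer_instance
  have hRA : ⁅R, A⁆ = R := commutator_eq_of_fpf h.normR hcR hsolR h.fixR
  have hRq : (Nat.card R).Coprime q := by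
    obtain ⟨j, hj⟩ := IsPGroup.iff_card.1 h.isPGroupR
    rw [hj]; exact ((Nat.coprime_primes hr hq).2 hrq).pow_left j
  intro s hs z hz
  have hc : ⁅s, z⁆ ∈ Z := mul_mem (conj_mem_of_mem_normalizer (hn R hs) hz) (inv_mem hz)
  refine commutatorElement_eq_one_iff_commute.1 (hinj ?_)
  rw [map_one]
  refine LinearMap.ext fun w => fix_of_weights ρ Z (M := ⊤) (fun _ _ _ _ => Submodule.mem_top)
    (fun x hx y hy w _ => by rw [(hZc x hx y hy).eq]) hc (orderOf_cast_ne_zero (h.isPGroup.to_le hZQ) hqK hc)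
    (fun v χ _ hv0 hv => ?_) w Submodule.mem_top
  set St := charStabilizer Z χ with hSt
  have hfixw : ∀ (x : G), (∀ c ∈ A, x⁻¹ * c * x ∈ St) → ∀ y ∈ Z, ρ y v = v := by
    intro x hx y hy
    have hxy : x * y * x⁻¹ ∈ ⁅Z, A⁆ := hZA.ge (conj_mem_of_mem_normalizer (hn ⊤ (mem_top x)) hy)
    have hle : ⁅Z, A⁆ ≤ fixer ρ (K ∙ ρ x v) := commutator_le.2 fun y' hy' c hc w hw => by
      obtain ⟨d, rfl⟩ := Submodule.mem_span_singleton.1 hw
      have h1 := fix_commutator hv (hx c hc)
        (inv_conj_mem_of_mem_normalizer (hn ⊤ (mem_top x)) hy' : x⁻¹ * y' * x ∈ Z)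
      rw [map_smul, ← rep_self_mul_apply]
      congr 1
      rw [show ⁅y', c⁆ * x = x * ⁅x⁻¹ * y' * x, x⁻¹ * c * x⁆ by
        rw [commutatorElement_def, commutatorElement_def]; group, rep_self_mul_apply, h1]
    have h2 := hle hxy _ (Submodule.mem_span_singleton_self _)
    rw [← rep_self_mul_apply, inv_mul_cancel_right, rep_self_mul_apply] at h2
    exact (Module.End.isUnit_iff _).1 ((Group.isUnit x).map ρ) |>.1 h2
  by_cases hAS : A ≤ St
  · exact hfixw 1 (fun c hc => by simpa using hAS hc) _ hc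
  let AH : Subgroup G :=
    { carrier := {c | c ∈ A ∧ ∃ x ∈ R, x * c ∈ St}
      one_mem' := ⟨one_mem A, 1, one_mem R, by simp [one_mem]⟩
      mul_mem' := by
        rintro c d ⟨hc, x, hx, hxc⟩ ⟨hd, y, hy, hyd⟩
        refine ⟨mul_mem hc hd, x * (c * y * c⁻¹), mul_mem hx (conj_mem_of_mem_normalizer (h.normR hc) hy), ?_⟩
        have := mul_mem hxc hyd
        convert this using 1
        group
      inv_mem' := by
        rintro c ⟨hc, x, hx, hxc⟩
        refine ⟨inv_mem hc, c⁻¹ * x⁻¹ * c, inv_conj_mem_of_mem_normalizer (h.normR hc) (inv_mem hx), ?_⟩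
        have := inv_mem hxc
        convert this using 1
        group }
  by_cases hAH : A ≤ AH
  · -- a fixed point in the orbit of the weight
    obtain ⟨e, ⟨x, hx, rfl⟩, hfix⟩ := Coprime.exists_fixed_point h.normR hcR (Or.inr hsolR)
      (α := G ⧸ St) {e | ∃ x ∈ R, (x : G ⧸ St) = e} ⟨_, 1, one_mem R, rfl⟩
      (by
        rintro c hc _ ⟨x, hx, rfl⟩
        obtain ⟨-, y, hy, hyc⟩ := hAH hc
        refine ⟨c * x * c⁻¹ * y⁻¹, mul_mem (conj_mem_of_mem_normalizer (h.normR hc) hx) (inv_mem hy), ?_⟩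
        show _ = ((c * x : G) : G ⧸ St)
        refine QuotientGroup.eq.2 ?_
        convert hyc using 1
        group)
      (by
        rintro g hg _ ⟨x, hx, rfl⟩
        exact ⟨g * x, mul_mem hg hx, rfl⟩)
      (by
        rintro _ ⟨x, hx, rfl⟩ _ ⟨y, hy, rfl⟩
        refine ⟨y * x⁻¹, mul_mem hy (inv_mem hx), ?_⟩
        show ((y * x⁻¹ * x : G) : G ⧸ St) = _
        rw [inv_mul_cancel_right])
    refine hfixw x (fun c hc => ?_) _ hc
    have h1 := QuotientGroup.eq.1 (hfix c hc).symm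
    change x⁻¹ * (c * x) ∈ St at h1
    rw [← mul_assoc] at h1
    exact h1
  -- otherwise one element fixes the whole orbit
  have hne : A ⊓ St ≠ ⊥ := stab_ne_bot h.noFixed (hn A) hv hv0
  have hle : A ⊓ St ≤ AH := fun c hc => ⟨hc.1, 1, one_mem R, by simpa using hc.2⟩
  obtain ⟨a, ha, ha1⟩ := (Subgroup.bot_or_exists_ne_one (A ⊓ St)).resolve_left hne
  have hAHA : AH ≤ A := fun c hc => hc.1
  have hprime : (Nat.card AH).Prime := h.sub AH hAHA (fun e => ha1 (mem_bot.1 (e ▸ hle ha)))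
    fun e => hAH e.ge
  have hza : zpowers a = AH := (eq_bot_or_eq_of_le_prime hprime (Subgroup.zpowers_le.2 (hle ha))).resolve_left
    fun e => ha1 (zpowers_eq_bot.1 e)
  have horb : ∀ x ∈ R, x⁻¹ * a * x ∈ St := by
    intro x hx
    let χx : G → K := fun y => χ (x⁻¹ * y * x)
    have hvx : ρ x v ∈ charSpace ρ Z χx := fun y hy => by
      rw [← rep_self_mul_apply, show y * x = x * (x⁻¹ * y * x) by group, rep_self_mul_apply,
        hv _ (inv_conj_mem_of_mem_normalizer (hn ⊤ (mem_top x)) hy), map_smul]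
    obtain ⟨c, hc, hc1⟩ := (Subgroup.bot_or_exists_ne_one _).resolve_left
      (stab_ne_bot h.noFixed (hn A) hvx fun e => hv0 (by rw [← rep_inv_apply_self ρ x v, e, map_zero]))
    have hcx : x⁻¹ * c * x ∈ St := by
      refine ⟨hn ⊤ (mem_top _), fun y hy => ?_⟩
      have h1 := hc.2.2 (x * y * x⁻¹) (conj_mem_of_mem_normalizer (hn ⊤ (mem_top x)) hy)
      simp only [χx] at h1
      convert h1 using 2 <;> group
    have hcAH : c ∈ AH := ⟨hc.1, x⁻¹ * (c * x * c⁻¹),
      mul_mem (inv_mem hx) (conj_mem_of_mem_normalizer (h.normR hc.1) hx), by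
        convert hcx using 1; group⟩
    have hzc : zpowers c = AH := (eq_bot_or_eq_of_le_prime hprime (Subgroup.zpowers_le.2 hcAH)).resolve_left
      fun e => hc1 (zpowers_eq_bot.1 e)
    obtain ⟨i, hi⟩ := mem_zpowers_iff.1 (hzc.ge (hle ha))
    have h2 := zpow_mem hcx i
    rwa [show (x⁻¹ * c * x) ^ i = x⁻¹ * c ^ i * x by
      simpa using (conj_zpow (i := i) (a := x⁻¹) (b := c)), hi] at h2
  have hL : fixGroup a R ≤ St := fixGroup_le_iff.2 ⟨ha.2, fun x hx => by
    have h1 := horb x⁻¹ (inv_mem hx)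
    rw [inv_inv] at h1
    rw [commutatorElement_def]
    exact mul_mem h1 (inv_mem ha.2)⟩
  have hL' : ⁅Z, fixGroup a R⁆ ≤ fixer ρ (K ∙ v) := commutator_le.2 fun y hy c hc w hw => by
    obtain ⟨d, rfl⟩ := Submodule.mem_span_singleton.1 hw
    rw [map_smul, fix_commutator hv (hL hc) hy]
  obtain ⟨n, hn', m, hm, rfl⟩ := Coprime.exists_mul_eq' (hn (fixGroup a R))
    ((Nat.Coprime.coprime_dvd_left (card_dvd_of_le (fixGroup_le_sup (h.normR ha.1))) (by
      obtain ⟨k, hk⟩ := IsPGroup.iff_card.1 (h.isPGroup.to_le hZQ)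
      rw [hk]
      refine Nat.Coprime.pow_right k ?_
      have hco : (Nat.card (zpowers a)).Coprime (Nat.card R) :=
        hcR.coprime_dvd_left (card_dvd_of_le (Subgroup.zpowers_le.2 ha.1))
      rw [Coprime.card_sup_of_inf_eq_bot (Subgroup.zpowers_le.2 (h.normR ha.1))
        (Coprime.inf_eq_bot_of_coprime hco)]
      exact hRq.mul_left (h.coprimeQ.coprime_dvd_left (card_dvd_of_le (Subgroup.zpowers_le.2 ha.1))))))
    (Or.inr hsolZ) hz
  obtain ⟨hma, hmc⟩ := mem_centralizer_fixGroup.1 hm.2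
  have hsm : Commute s m := centralize_of_fix ha.1 h.sub ha1 h.normR hRA h.coprimeQ hRq Z
    (h.isPGroup.to_le hZQ) hCZ (fun x hx y hy u hu => hderiv x hx y hy u (hZQ hu)) hm.1 hma hmc s hs
  have e1 : ⁅s, n * m⁆ = s * n * s⁻¹ * n⁻¹ := by
    rw [commutatorElement_def]
    calc s * (n * m) * s⁻¹ * (n * m)⁻¹ = s * n * ((m * s⁻¹) * m⁻¹) * n⁻¹ := by group
      _ = s * n * ((s⁻¹ * m) * m⁻¹) * n⁻¹ := by rw [hsm.inv_left.eq]
      _ = _ := by group
  rw [e1]
  have hsn : s * n * s⁻¹ ∈ ⁅Z, fixGroup a R⁆ := by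
    refine conj_mem_of_mem_normalizer ?_ hn'
    rw [mem_normalizer_iff_map_conj_eq, map_commutator,
      mem_normalizer_iff_map_conj_eq.1 (hn R hs), mem_normalizer_iff_map_conj_eq.1 (normalizes_fixGroup hs)]
  exact hL' (mul_mem hsn (inv_mem hn')) v (Submodule.mem_span_singleton_self v)

end CfsgLib.FixedFree
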