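import Cfsg.Agent.Lib.FixedFree.DerivedAbelian
import Mathlib.GroupTheory.Perm.Cycle.Type

/-!
# The configuration for `S₃`
-/

set_option autoImplicit false

namespace CfsgLib.FixedFree

open Module Subgroup CfsgLib.HallHigman
open scoped commutatorElement

universe u v w

theorem commutatorElement_pow_left_of_central {G : Type u} [Group G] {a b : G}
    (h : ∀ g : G, Commute g ⁅a, b⁆) (n : ℕ) : ⁅a ^ n, b⁆ = ⁅a, b⁆ ^ n := by
  induction n with
  | zero => simp
  | succ n ih =>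
    have e : ⁅a ^ (n + 1), b⁆ = a * ⁅a ^ n, b⁆ * a⁻¹ * ⁅a, b⁆ := by
      rw [pow_succ', commutatorElement_def, commutatorElement_def, commutatorElement_def]; group
    rw [e, ih, ((h a).pow_right n).eq, mul_inv_cancel_right, pow_succ]

/-- An element fixed by `A` modulo a coprime normal `N ≤ R` lies in `N`. -/
theorem mem_of_fixed_mod {G : Type u} [Group G] [Finite G] {A R N : Subgroup G} [R.Normal] [N.Normal]
    {r : ℕ} [Fact r.Prime] (hR : IsPGroup r R) (hcop : (Nat.card A).Coprime r)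
    (hfix : R ⊓ centralizer (A : Set G) = ⊥) (hN : N ≤ R) {g : G} (hg : g ∈ R)
    (h : ∀ c ∈ A, Commute (QuotientGroup.mk' N c) (QuotientGroup.mk' N g)) : g ∈ N := by
  obtain ⟨k, hk⟩ := IsPGroup.iff_card.1 hR
  obtain ⟨n, hn, hc⟩ := Coprime.exists_mem_centralizer_of_coset (A := A) (G := R) le_normalizer_of_normal
    le_normalizer_of_normal hN (hk ▸ hcop.pow_right k) (Or.inr (by
      have := (hR.to_le hN).isNilpotent
      infer_instance)) hg fun c hc => by
    rw [← QuotientGroup.eq_one_iff]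
    show QuotientGroup.mk' N (g⁻¹ * c * g * c⁻¹) = 1
    rw [map_mul, map_mul, map_mul, map_inv, map_inv, mul_assoc _ (QuotientGroup.mk' N c), (h c hc).eq]
    group
  have h1 : g * n ∈ R ⊓ centralizer (A : Set G) := ⟨mul_mem hg (hN hn), hc⟩
  rw [hfix, mem_bot] at h1
  rw [eq_inv_of_mul_eq_one_left h1]
  exact inv_mem hn

variable {G : Type u} [Group G] [Finite G] {A R : Subgroup G} {r : ℕ}

theorem mul_rotate_of_commute {M : Type*} [Monoid M] {a b c : M} (hab : Commute a b)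
    (hac : Commute a c) : b * c * a = a * b * c := by
  rw [mul_assoc, ← hac.eq, ← mul_assoc, ← hab.eq]

theorem mul_swap_of_commute {M : Type*} [Monoid M] {a b c : M} (hbc : Commute b c) :
    a * c * b = a * b * c := by
  rw [mul_assoc, ← hbc.eq, ← mul_assoc]

/-- The derived group of `R` is trivial modulo the commutators with an involution of `S₃`. -/
theorem derived_le_commutator_involution [R.Normal] [Fact r.Prime] (hR : IsPGroup r R)
    (hcop : (Nat.card A).Coprime r) (hfix : R ⊓ centralizer (A : Set G) = ⊥) (hr2 : r ≠ 2)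
    (hr3 : r ≠ 3) {s t : G} (ht2 : t * t = 1) (hs3 : s ^ 3 = 1) (hts : t * s * t⁻¹ = s⁻¹)
    (hgen : A ≤ closure {s, t}) (htA : t ∈ A) :
    ⁅R, R⁆ ≤ ⁅R, zpowers t⁆ := by
  classical
  have hRn : R.Normal := inferInstance
  set D := ⁅R, R⁆ with hD
  set Γ := ⁅D, R⁆ with hΓ
  have hDn : D.Normal := inferInstance
  have hΓn : Γ.Normal := inferInstance
  have hDR : D ≤ R := le_normalizer_iff_commutator_le_left.1 le_normalizer
  have hΓR : Γ ≤ R := (le_normalizer_iff_commutator_le_left.1 le_normalizer_of_normal : ⁅D, R⁆ ≤ D).trans hDR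
  have hfixmem : ∀ (N : Subgroup G) [N.Normal], N ≤ R → ∀ g ∈ R,
      Commute (QuotientGroup.mk' N s) (QuotientGroup.mk' N g) →
      Commute (QuotientGroup.mk' N t) (QuotientGroup.mk' N g) → g ∈ N := by
    intro N _ hN g hg h1 h2
    refine mem_of_fixed_mod hR hcop hfix hN hg fun c hc => ?_
    have hle : A ≤ (centralizer {QuotientGroup.mk' N g}).comap (QuotientGroup.mk' N) :=
      hgen.trans ((closure_le _).2 (by
        rintro x (rfl | rfl)
        · exact mem_centralizer_singleton_iff.2 h1.eq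
        · exact mem_centralizer_singleton_iff.2 h2.eq))
    exact mem_centralizer_singleton_iff.1 (hle hc)
  set J := ⁅R, zpowers t⁆ with hJ
  have htR : zpowers t ≤ normalizer (R : Set G) := le_normalizer_of_normal
  have hJR : J ≤ R := le_normalizer_iff_commutator_le_left.1 htR
  set N := J ⊔ Γ with hN
  have hNR : N ≤ R := sup_le hJR hΓR
  have hRJ : R ≤ normalizer (J : Set G) := normalizer_commutator_ge_left R (zpowers t)
  have hRN : (N.subgroupOf R).Normal := by
    refine normal_subgroupOf_of_le_normalizer fun x hx => mem_normalizer_iff_map_conj_eq.2 ?_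
    rw [hN, Subgroup.map_sup, mem_normalizer_iff_map_conj_eq.1 (hRJ hx),
      mem_normalizer_iff_map_conj_eq.1 ((le_normalizer_of_normal : R ≤ normalizer (Γ : Set G)) hx)]
  let h : R →* R ⧸ N.subgroupOf R := QuotientGroup.mk' _
  have hmem : ∀ {x : G} (hx : x ∈ R), x ∈ N → h ⟨x, hx⟩ = 1 := fun {x} hx hxN =>
    (QuotientGroup.eq_one_iff (⟨x, hx⟩ : R)).2 hxN
  -- the image has class two
  have hcentral : ∀ (c : R), (c : G) ∈ D → ∀ g, Commute g (h c) := by
    intro c hc g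
    obtain ⟨g, rfl⟩ := QuotientGroup.mk'_surjective _ g
    refine (commutatorElement_eq_one_iff_commute.1 ?_).symm
    rw [← map_commutatorElement]
    exact (QuotientGroup.eq_one_iff _).2 (mem_sup_right (commutator_mem_commutator hc g.2) : _)
  have hcj : ∀ (g x : G), x ∈ R → g * x * g⁻¹ ∈ R := fun g x hx => hRn.conj_mem x hx g
  -- what `t` fixes commutes modulo `N`
  have key : ∀ (x y : G) (hx : x ∈ R) (hy : y ∈ R), Commute t x → Commute t y →
      ⁅h ⟨x, hx⟩, h ⟨y, hy⟩⁆ = 1 := by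
    intro x y hx hy htx hty
    have hts1 : t * s = s⁻¹ * t := mul_inv_eq_iff_eq_mul.1 hts
    have hswap : ∀ z : G, Commute t z → t * (s * z * s⁻¹) * t⁻¹ = s⁻¹ * z * s := fun z hz => by
      calc t * (s * z * s⁻¹) * t⁻¹ = (t * s) * z * (t * s)⁻¹ := by group
        _ = s⁻¹ * (t * z * t⁻¹) * s := by rw [hts1]; group
        _ = s⁻¹ * z * s := by rw [hz.eq, mul_inv_cancel_right]
    have hswap' : ∀ z : G, Commute t z → t * (s⁻¹ * z * s) * t⁻¹ = s * z * s⁻¹ := fun z hz => by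
      rw [← hswap z hz]
      calc t * (t * (s * z * s⁻¹) * t⁻¹) * t⁻¹ = (t * t) * (s * z * s⁻¹) * (t * t)⁻¹ := by group
        _ = _ := by rw [ht2]; group
    have hs2 : ∀ z : G, s * (s * z * s⁻¹) * s⁻¹ = s⁻¹ * z * s := fun z => by
      have e : s * s = s⁻¹ := eq_inv_of_mul_eq_one_left (by rw [← hs3, pow_succ, pow_two])
      calc s * (s * z * s⁻¹) * s⁻¹ = (s * s) * z * (s * s)⁻¹ := by group
        _ = _ := by rw [e, inv_inv]
    have hs0 : ∀ z : G, s * (s⁻¹ * z * s) * s⁻¹ = z := fun z => by group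
    have hu : ∀ z : G, z ∈ R → s * z * s⁻¹ ∈ R := fun z hz => hcj s z hz
    have hv : ∀ z : G, z ∈ R → s⁻¹ * z * s ∈ R := fun z hz => by simpa using hcj s⁻¹ z hz
    have hMsame : ∀ (z : G) (hz : z ∈ R), Commute t z →
        h ⟨s⁻¹ * z * s, hv z hz⟩ = h ⟨s * z * s⁻¹, hu z hz⟩ := by
      intro z hz htz
      have h1 : t * (s * z * s⁻¹) * t⁻¹ * (s * z * s⁻¹)⁻¹ ∈ J := by
        have := inv_mem (commutator_mem_commutator (hu z hz) (mem_zpowers t) :
          ⁅s * z * s⁻¹, t⁆ ∈ J)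
        rwa [commutatorElement_inv, commutatorElement_def] at this
      rw [hswap z htz] at h1
      have h2 := hmem (mul_mem (hv z hz) (inv_mem (hu z hz))) (mem_sup_left h1)
      rw [show (⟨s⁻¹ * z * s * (s * z * s⁻¹)⁻¹, _⟩ : R) = ⟨s⁻¹ * z * s, hv z hz⟩ * ⟨s * z * s⁻¹, hu z hz⟩⁻¹
        from rfl, map_mul, map_inv, mul_inv_eq_one] at h2
      exact h2
    -- the orbit product of a fixed element is in the derived group
    have hsum : ∀ (z : G) (hz : z ∈ R), Commute t z →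
        z * (s * z * s⁻¹) * (s⁻¹ * z * s) ∈ D := by
      intro z hz htz
      set π := QuotientGroup.mk' D
      have hab : ∀ a ∈ R, ∀ b ∈ R, Commute (π a) (π b) := fun a ha b hb => by
        rw [← commutatorElement_eq_one_iff_commute, ← map_commutatorElement]
        exact (QuotientGroup.eq_one_iff _).2 (commutator_mem_commutator ha hb)
      refine hfixmem D hDR _ (mul_mem (mul_mem hz (hu z hz)) (hv z hz)) ?_ ?_
      · refine mul_inv_eq_iff_eq_mul.1 ?_
        rw [← map_inv, ← map_mul, ← map_mul, show s * (z * (s * z * s⁻¹) * (s⁻¹ * z * s)) * s⁻¹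
          = (s * z * s⁻¹) * (s * (s * z * s⁻¹) * s⁻¹) * (s * (s⁻¹ * z * s) * s⁻¹) by group, hs2, hs0,
          map_mul, map_mul, map_mul π (z * _), map_mul π z]
        exact mul_rotate_of_commute (hab _ hz _ (hu z hz)) (hab _ hz _ (hv z hz))
      · refine mul_inv_eq_iff_eq_mul.1 ?_
        rw [← map_inv, ← map_mul, ← map_mul, show t * (z * (s * z * s⁻¹) * (s⁻¹ * z * s)) * t⁻¹
          = (t * z * t⁻¹) * (t * (s * z * s⁻¹) * t⁻¹) * (t * (s⁻¹ * z * s) * t⁻¹) by group,
          hswap z htz, hswap' z htz, htz.eq, mul_inv_cancel_right,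
          map_mul, map_mul, map_mul π (z * _), map_mul π z]
        exact mul_swap_of_commute (hab _ (hu z hz) _ (hv z hz))
    -- squares
    have hsq : ∀ (z : G) (hz : z ∈ R), Commute t z →
        ∃ c : R ⧸ N.subgroupOf R, (∀ g, Commute g c) ∧ h ⟨s * z * s⁻¹, hu z hz⟩ ^ 2 = (h ⟨z, hz⟩)⁻¹ * c := by
      intro z hz htz
      refine ⟨_, hcentral ⟨_, mul_mem (mul_mem hz (hu z hz)) (hv z hz)⟩ (hsum z hz htz), ?_⟩
      rw [show (⟨z * (s * z * s⁻¹) * (s⁻¹ * z * s), mul_mem (mul_mem hz (hu z hz)) (hv z hz)⟩ : R)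
        = ⟨z, hz⟩ * ⟨s * z * s⁻¹, hu z hz⟩ * ⟨s⁻¹ * z * s, hv z hz⟩ from rfl, map_mul, map_mul,
        hMsame z hz htz, pow_two]
      group
    obtain ⟨c, hc, hxu⟩ := hsq x hx htx
    obtain ⟨d, hd, hyu⟩ := hsq y hy hty
    set X := h ⟨x, hx⟩
    set Y := h ⟨y, hy⟩
    set U := h ⟨s * x * s⁻¹, hu x hx⟩ with hU
    set U' := h ⟨s * y * s⁻¹, hu y hy⟩ with hU'
    have hcen2 : ∀ a b g : R ⧸ N.subgroupOf R, Commute g ⁅a, b⁆ := by
      intro a b g
      obtain ⟨a, rfl⟩ := QuotientGroup.mk'_surjective _ a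
      obtain ⟨b, rfl⟩ := QuotientGroup.mk'_surjective _ b
      rw [← map_commutatorElement]
      exact hcentral ⁅a, b⁆ (commutator_mem_commutator a.2 b.2) g
    have hpow4 : ⁅U ^ 2, U' ^ 2⁆ = ⁅U, U'⁆ ^ 4 := by
      rw [commutatorElement_pow_left_of_central (hcen2 U _), ← commutatorElement_inv,
        commutatorElement_pow_left_of_central (hcen2 U' _), ← inv_pow, commutatorElement_inv, ← pow_mul]
    have hXY : ⁅U ^ 2, U' ^ 2⁆ = ⁅X, Y⁆ := by
      rw [hxu, hyu]
      have e1 : ⁅X⁻¹ * c, Y⁻¹ * d⁆ = ⁅X⁻¹, Y⁻¹⁆ := by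
        calc ⁅X⁻¹ * c, Y⁻¹ * d⁆ = X⁻¹ * c * (Y⁻¹ * d) * (c⁻¹ * X) * (d⁻¹ * Y) := by
              rw [commutatorElement_def]; group
          _ = X⁻¹ * ((c * (Y⁻¹ * d)) * c⁻¹) * X * (d⁻¹ * Y) := by group
          _ = X⁻¹ * (Y⁻¹ * d) * X * (d⁻¹ * Y) := by rw [← (hc (Y⁻¹ * d)).eq, mul_inv_cancel_right]
          _ = X⁻¹ * Y⁻¹ * (d * X * d⁻¹) * Y := by group
          _ = X⁻¹ * Y⁻¹ * X * Y := by rw [← (hd X).eq, mul_inv_cancel_right]
          _ = ⁅X⁻¹, Y⁻¹⁆ := by rw [commutatorElement_def]; group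
      rw [e1]
      calc ⁅X⁻¹, Y⁻¹⁆ = (Y * X)⁻¹ * ⁅X, Y⁆ * (Y * X) := by
            rw [commutatorElement_def, commutatorElement_def]; group
        _ = ⁅X, Y⁆ := by rw [mul_assoc, ← (hcen2 X Y (Y * X)).eq, inv_mul_cancel_left]
    -- the orbit of the commutator
    have horb : ⁅x, y⁆ * ⁅s * x * s⁻¹, s * y * s⁻¹⁆ * ⁅s⁻¹ * x * s, s⁻¹ * y * s⁆ ∈ Γ := by
      set π := QuotientGroup.mk' Γ
      have hm0 : ⁅x, y⁆ ∈ D := commutator_mem_commutator hx hy
      have hm1 : ⁅s * x * s⁻¹, s * y * s⁻¹⁆ ∈ D := commutator_mem_commutator (hu x hx) (hu y hy)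
      have hm2 : ⁅s⁻¹ * x * s, s⁻¹ * y * s⁆ ∈ D := commutator_mem_commutator (hv x hx) (hv y hy)
      have hab : ∀ a ∈ D, ∀ b ∈ D, Commute (π a) (π b) := fun a ha b hb => by
        rw [← commutatorElement_eq_one_iff_commute, ← map_commutatorElement]
        exact (QuotientGroup.eq_one_iff _).2 (commutator_mem_commutator ha (hDR hb))
      have hconj : ∀ g a b : G, g * ⁅a, b⁆ * g⁻¹ = ⁅g * a * g⁻¹, g * b * g⁻¹⁆ := fun g a b => by
        rw [commutatorElement_def, commutatorElement_def]; group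
      refine hfixmem Γ hΓR _ (hDR (mul_mem (mul_mem hm0 hm1) hm2)) ?_ ?_
      · refine mul_inv_eq_iff_eq_mul.1 ?_
        rw [← map_inv, ← map_mul, ← map_mul, show s * (⁅x, y⁆ * ⁅s * x * s⁻¹, s * y * s⁻¹⁆ * ⁅s⁻¹ * x * s, s⁻¹ * y * s⁆) * s⁻¹
          = (s * ⁅x, y⁆ * s⁻¹) * (s * ⁅s * x * s⁻¹, s * y * s⁻¹⁆ * s⁻¹) * (s * ⁅s⁻¹ * x * s, s⁻¹ * y * s⁆ * s⁻¹) by group,
          hconj, hconj, hconj, hs2, hs2, hs0, hs0,
          map_mul, map_mul, map_mul π (⁅x, y⁆ * _), map_mul π ⁅x, y⁆]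
        exact mul_rotate_of_commute (hab _ hm0 _ hm1) (hab _ hm0 _ hm2)
      · refine mul_inv_eq_iff_eq_mul.1 ?_
        rw [← map_inv, ← map_mul, ← map_mul, show t * (⁅x, y⁆ * ⁅s * x * s⁻¹, s * y * s⁻¹⁆ * ⁅s⁻¹ * x * s, s⁻¹ * y * s⁆) * t⁻¹
          = (t * ⁅x, y⁆ * t⁻¹) * (t * ⁅s * x * s⁻¹, s * y * s⁻¹⁆ * t⁻¹) * (t * ⁅s⁻¹ * x * s, s⁻¹ * y * s⁆ * t⁻¹) by group,
          hconj, hconj, hconj, hswap x htx, hswap y hty, hswap' x htx, hswap' y hty,
          htx.eq, hty.eq, mul_inv_cancel_right, mul_inv_cancel_right,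
          map_mul, map_mul, map_mul π (⁅x, y⁆ * _), map_mul π ⁅x, y⁆]
        exact mul_swap_of_commute (hab _ hm1 _ hm2)
    have horb' : ⁅X, Y⁆ * ⁅U, U'⁆ * ⁅U, U'⁆ = 1 := by
      have h1 := hmem (x := ⁅x, y⁆ * ⁅s * x * s⁻¹, s * y * s⁻¹⁆ * ⁅s⁻¹ * x * s, s⁻¹ * y * s⁆)
        (hΓR horb) (mem_sup_right horb)
      have e : (⟨_, hΓR horb⟩ : R) = ⁅(⟨x, hx⟩ : R), (⟨y, hy⟩ : R)⁆ *
          ⁅(⟨s * x * s⁻¹, hu x hx⟩ : R), (⟨s * y * s⁻¹, hu y hy⟩ : R)⁆ *
          ⁅(⟨s⁻¹ * x * s, hv x hx⟩ : R), (⟨s⁻¹ * y * s, hv y hy⟩ : R)⁆ := rfl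
      rw [e, map_mul, map_mul, map_commutatorElement, map_commutatorElement, map_commutatorElement,
        hMsame x hx htx, hMsame y hy hty] at h1
      exact h1
    rw [← hXY, hpow4, ← pow_succ, ← pow_succ] at horb'
    have h6 : orderOf ⁅U, U'⁆ ∣ 6 := orderOf_dvd_of_pow_eq_one horb'
    obtain ⟨k, hk⟩ := IsPGroup.iff_orderOf.1 (hR.to_quotient (N.subgroupOf R)) ⁅U, U'⁆
    have hco : (r ^ k).Coprime 6 := by
      refine Nat.Coprime.pow_left k ((Fact.out : r.Prime).coprime_iff_not_dvd.2 fun hd => ?_)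
      have hr6 := Nat.le_of_dvd (by norm_num) hd
      have hrp : r.Prime := Fact.out
      have hr1 := (Fact.out : r.Prime).two_le
      interval_cases r <;> first | omega | (norm_num at hd; done) | (norm_num at hrp; done)
    have hone : ⁅U, U'⁆ = 1 :=
      orderOf_eq_one_iff.1 (Nat.eq_one_of_dvd_coprimes hco (dvd_of_eq hk) h6)
    rw [← hXY, hpow4, hone, one_pow]
  -- so `R / N` is abelian
  have hgenR : ∀ z ∈ R, ∃ c, ∃ hc : c ∈ R, Commute t c ∧ ∀ hz : z ∈ R, h ⟨z, hz⟩ = h ⟨c, hc⟩ := by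
    intro z hz
    obtain ⟨k, hk⟩ := IsPGroup.iff_card.1 hR
    obtain ⟨n, hn, c, hc, rfl⟩ := Coprime.exists_mul_eq' htR
      (hk ▸ (hcop.coprime_dvd_left (card_dvd_of_le (Subgroup.zpowers_le.2 htA))).pow_right k)
      (Or.inr (by have := hR.isNilpotent; infer_instance)) hz
    refine ⟨c, hc.1, mem_centralizer_iff.1 hc.2 t (mem_zpowers t), fun hz' => ?_⟩
    rw [show (⟨n * c, hz'⟩ : R) = ⟨n, hJR hn⟩ * ⟨c, hc.1⟩ from rfl, map_mul, hmem (hJR hn) (mem_sup_left hn),
      one_mul]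
  have hDN : D ≤ N := commutator_le.2 fun x hx y hy => by
    obtain ⟨c, hc, htc, ec⟩ := hgenR x hx
    obtain ⟨d, hd, htd, ed⟩ := hgenR y hy
    have h1 : h ⁅(⟨x, hx⟩ : R), (⟨y, hy⟩ : R)⁆ = 1 := by
      rw [map_commutatorElement, ec hx, ed hy, key c d hc hd htc htd]
    exact (QuotientGroup.eq_one_iff (⁅(⟨x, hx⟩ : R), (⟨y, hy⟩ : R)⁆)).1 h1
  -- nilpotency
  have : (J.subgroupOf R).Normal := normal_subgroupOf_of_le_normalizer hRJ
  let h0 : R →* R ⧸ J.subgroupOf R := QuotientGroup.mk' _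
  have hlcs : (⊤ : Subgroup (R ⧸ J.subgroupOf R)).lowerCentralSeries 1 = ⊥ := by
    have htop : (⊤ : Subgroup R).map h0 = ⊤ := Subgroup.map_top_of_surjective _ (QuotientGroup.mk'_surjective _)
    have hsucc : (⊤ : Subgroup (R ⧸ J.subgroupOf R)).lowerCentralSeries 1
        ≤ (⊤ : Subgroup (R ⧸ J.subgroupOf R)).lowerCentralSeries 2 := by
      rw [← htop, ← map_lowerCentralSeries, ← map_lowerCentralSeries]
      rintro _ ⟨g, hg, rfl⟩
      have hgD : (g : G) ∈ D := by
        have h1 : (g : G) ∈ ((⊤ : Subgroup R).lowerCentralSeries 1).map R.subtype := ⟨g, hg, rfl⟩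
        rwa [top_subtype_lowerCentralSeries] at h1
      obtain ⟨j, hj, γ, hγ, e⟩ := (Coprime.mem_sup_of_le_normalizer'
        (show J ≤ normalizer (Γ : Set G) from le_normalizer_of_normal)).1 (by rw [sup_comm]; exact hDN hgD)
      have hγ' : γ ∈ R.lowerCentralSeries 2 := hγ
      rw [← top_subtype_lowerCentralSeries] at hγ'
      obtain ⟨γ', hγ'mem, rfl⟩ := hγ'
      refine ⟨γ', hγ'mem, QuotientGroup.eq.2 ?_⟩
      have hj' : j = (g : G) * (γ' : G)⁻¹ := by rw [← e]; exact (mul_inv_cancel_right j _).symm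
      show ((γ'⁻¹ * g : R) : G) ∈ J
      have h2 := conj_mem_of_mem_normalizer (inv_mem (hRJ γ'.2) : (γ' : G)⁻¹ ∈ normalizer (J : Set G)) hj
      rw [hj'] at h2
      simpa [mul_assoc] using h2
    have hnil : Group.IsNilpotent (R ⧸ J.subgroupOf R) := (hR.to_quotient _).isNilpotent
    obtain ⟨n, hn⟩ := (isNilpotent_iff_lowerCentralSeries (⊤ : Subgroup (R ⧸ J.subgroupOf R))).1
      (Group.isNilpotent_congr Subgroup.topEquiv |>.2 hnil)
    have hconst : ∀ k, (⊤ : Subgroup (R ⧸ J.subgroupOf R)).lowerCentralSeries 1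
        ≤ (⊤ : Subgroup (R ⧸ J.subgroupOf R)).lowerCentralSeries (k + 1) := by
      intro k
      induction k with
      | zero => exact le_rfl
      | succ k ih => exact hsucc.trans (commutator_mono ih le_rfl)
    exact le_bot_iff.1 ((hconst n).trans ((Subgroup.lowerCentralSeries_antitone _ (Nat.le_succ n)).trans hn.le))
  refine commutator_le.2 fun x hx y hy => ?_
  have h1 : h0 ⁅(⟨x, hx⟩ : R), (⟨y, hy⟩ : R)⁆ = 1 := by
    rw [← mem_bot, ← hlcs, map_commutatorElement]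
    exact commutator_mem_commutator (mem_top _) (mem_top _)
  exact (QuotientGroup.eq_one_iff (⁅(⟨x, hx⟩ : R), (⟨y, hy⟩ : R)⁆)).1 h1

variable {K : Type v} [Field K] [IsAlgClosed K] {V : Type w} [AddCommGroup V] [Module K V]
  [FiniteDimensional K V] [Nontrivial V] {ρ : Representation K G V}

/-- The `S₃` case. -/
theorem DerivedConfig.commute_of_six (h : DerivedConfig ρ A R r) [Fact r.Prime] (hr2 : r ≠ 2)
    (hr3 : r ≠ 3) (hrK : (r : K) ≠ 0) (hA : Nat.card A ∣ 6)
    (hconj : Nat.card A = 6 → ∀ a ∈ A, a * a = 1 → a ≠ 1 → ∀ b ∈ A, b ^ 3 = 1 → b ≠ 1 →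
      a * b * a⁻¹ = b⁻¹) : ∀ x ∈ R, ∀ y ∈ R, Commute x y := by
  by_cases hR : R = ⊥
  · intro x hx y _
    rw [hR, mem_bot] at hx
    rw [hx]; exact Commute.one_left y
  obtain ⟨a, ha, hp, hza, W, hWb, hWR, hWa, hfix⟩ := h.exists_weight_space hR
  have := h.normal
  have hd : orderOf a ∣ Nat.card A := Subgroup.orderOf_dvd_natCard A ha
  have hlt : orderOf a < Nat.card A := lt_of_le_of_ne (Nat.le_of_dvd Nat.card_pos hd) fun e =>
    hza (eq_of_le_of_card_ge (Subgroup.zpowers_le.2 ha) (by rw [Nat.card_zpowers, e]))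
  have h6 : Nat.card A = 6 := by
    have := hp.two_le
    have := Nat.le_of_dvd (by norm_num) hA
    generalize Nat.card A = n at *
    interval_cases n <;> first | rfl | omega | (interval_cases hoa : orderOf a <;> omega)
  have hpa : orderOf a = 2 ∨ orderOf a = 3 := by
    rw [h6] at hd hlt
    have := hp.two_le
    interval_cases hoa : orderOf a <;> first | omega | norm_num at hp
  have := Fact.mk Nat.prime_two
  have := Fact.mk Nat.prime_three
  obtain ⟨t, ht⟩ := exists_prime_orderOf_dvd_card' (G := A) 2 (by rw [h6]; norm_num)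
  obtain ⟨s, hs⟩ := exists_prime_orderOf_dvd_card' (G := A) 3 (by rw [h6]; norm_num)
  rw [← Subgroup.orderOf_coe] at ht hs
  have gen : ∀ b c : G, b ∈ A → c ∈ A → orderOf b = 3 → orderOf c = 2 → A ≤ closure {b, c} := by
    intro b c hb hc hb3 hc2
    have hle : closure {b, c} ≤ A := (closure_le _).2 (by rintro x (rfl | rfl) <;> assumption)
    refine (eq_of_le_of_card_ge hle ?_).ge
    rw [h6]
    have h2 : 2 ∣ Nat.card (closure ({b, c} : Set G)) :=
      hc2 ▸ Subgroup.orderOf_dvd_natCard _ (subset_closure (by simp))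
    have h3 : 3 ∣ Nat.card (closure ({b, c} : Set G)) :=
      hb3 ▸ Subgroup.orderOf_dvd_natCard _ (subset_closure (by simp))
    exact Nat.le_of_dvd Nat.card_pos (Nat.Coprime.mul_dvd_of_dvd_of_dvd (m := 2) (n := 3) (by norm_num) h2 h3)
  have rel : ∀ b c : G, b ∈ A → c ∈ A → orderOf b = 3 → orderOf c = 2 → c * b * c⁻¹ = b⁻¹ :=
    fun b c hb hc hb3 hc2 => hconj h6 c hc (by rw [← pow_two, ← hc2, pow_orderOf_eq_one])
      (fun e => by rw [e, orderOf_one] at hc2; omega) b hb (by rw [← hb3, pow_orderOf_eq_one])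
      (fun e => by rw [e, orderOf_one] at hb3; omega)
  obtain ⟨w, hw, hw0⟩ := Submodule.exists_mem_ne_zero_of_ne_bot hWb
  rcases hpa with ha2 | ha3
  · have haa : a * a = 1 := by rw [← pow_two, ← ha2, pow_orderOf_eq_one]
    have hle := derived_le_commutator_involution h.isPGroup h.coprime h.fixR hr2 hr3 haa
      (by rw [← hs, pow_orderOf_eq_one] : (s : G) ^ 3 = 1) (rel _ _ s.2 ha hs ha2)
      (gen _ _ s.2 ha hs ha2) ha
    have hb := h.eq_bot_of_fix (N := ⁅R, R⁆) hw0 fun n hn =>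
      commutator_le_fixer haa hWR hWa hfix (hle hn) w hw
    exact fun x hx y hy =>
      commutatorElement_eq_one_iff_commute.1 (mem_bot.1 (hb ▸ commutator_mem_commutator hx hy))
  · -- the element of order three is central on `W` by Theorem B
    set S := R ⊔ zpowers a
    have hWS := invariant_of_closure ρ R a W hWR hWa
    have hRS : R ≤ S := le_sup_left
    have haS : a ∈ S := mem_sup_right (mem_zpowers a)
    have : Nontrivial W := Submodule.nontrivial_iff_ne_bot.2 hWb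
    set σ := restrictRep ρ S W hWS
    have ha13 : (⟨a, haS⟩ : S) ^ 3 = 1 := Subtype.ext (by
      show a ^ 3 = 1
      rw [← ha3, pow_orderOf_eq_one])
    have hσfix : NoFixed σ (zpowers (⟨a, haS⟩ : S)) := fun v hv =>
      Subtype.ext (hfix v v.2 (congrArg Subtype.val (hv _ (mem_zpowers _))))
    have hdeg := deg_lt_of_noFixed (by norm_num) ha13 hσfix
    have hcomm : ∀ g : S, g ∈ R.subgroupOf S → σ ((⟨a, haS⟩ : S) * g) = σ (g * ⟨a, haS⟩) := by
      by_contra hcon
      push Not at hcon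
      obtain ⟨g, hg, hne⟩ := hcon
      rcases boundHolds (p := 3) Nat.prime_three (Fact.out : r.Prime) (Ne.symm hr3) hrK _ σ rfl
        (R.subgroupOf S) ⟨a, haS⟩ 1 (h.isPGroup.of_equiv (subgroupOfEquivOfLe hRS).symm)
        (mem_normalizer_of_conj_mem fun x hx =>
          (h.normal.conj_mem _ hx a : a * (x : G) * a⁻¹ ∈ R))
        (by rw [pow_one, ha13, map_one]) le_rfl ⟨g, hg, by simpa using hne⟩ with h1 | ⟨i, j, hi, hi1, hj, hij, -, -⟩
      · rw [pow_one] at h1; omega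
      · obtain rfl : i = 1 := by omega
        rw [pow_one] at hij
        rcases (Nat.dvd_prime_pow (Fact.out : r.Prime)).1 (dvd_pow_self r (by omega : j ≠ 0)) with ⟨-, -, -⟩
        have hrj : r ≤ r ^ j := Nat.le_self_pow (by omega) r
        have := (Fact.out : r.Prime).two_le
        omega
    have hle : ⁅R, zpowers a⁆ ≤ fixer ρ W := commutator_le.2 fun x hx g hg v hv => by
      obtain ⟨i, rfl⟩ := mem_zpowers_iff.1 hg
      have h1 : Commute (σ ⟨a, haS⟩) (σ ⟨x, hRS hx⟩) := by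
        show σ _ * σ _ = σ _ * σ _
        rw [← map_mul, ← map_mul]
        exact hcomm ⟨x, hRS hx⟩ hx
      obtain ⟨j, hj⟩ := mem_powers_iff_mem_zpowers.2 (zpow_mem (mem_zpowers (⟨a, haS⟩ : S)) i)
      change (⟨a, haS⟩ : S) ^ j = (⟨a, haS⟩ : S) ^ i at hj
      have hσc : ∀ X Y : S, σ (X * Y) = σ (Y * X) → σ ⁅X, Y⁆ = 1 := fun X Y e => by
        rw [commutatorElement_def, mul_assoc (X * Y), map_mul, e, ← map_mul]
        simp [mul_assoc]
      have h2 : σ ⁅(⟨x, hRS hx⟩ : S), (⟨a, haS⟩ : S) ^ i⁆ = 1 := by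
        rw [← hj]
        refine hσc _ _ ?_
        rw [map_mul, map_mul, map_pow]
        exact (h1.pow_left j).eq.symm
      exact congrArg Subtype.val (LinearMap.congr_fun h2 ⟨v, hv⟩)
    have hAza : A ≤ normalizer (zpowers a : Set G) := fun c hc => by
      refine (gen a t ha t.2 ha3 ht).trans ((closure_le _).2 ?_) hc
      rintro x (rfl | rfl)
      · exact le_normalizer (mem_zpowers _)
      · rw [SetLike.mem_coe, mem_normalizer_iff_map_conj_eq, MonoidHom.map_zpowers]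
        show zpowers ((t : G) * a * (t : G)⁻¹) = zpowers a
        rw [rel a _ ha t.2 ha3 ht, zpowers_inv]
    have hn : (⁅R, zpowers a⁆ : Subgroup G).Normal := by
      rw [← Subgroup.normalizer_eq_top_iff, eq_top_iff, ← h.sup_eq]
      refine sup_le (normalizer_commutator_ge_left R _) fun c hc => ?_
      rw [mem_normalizer_iff_map_conj_eq, map_commutator, mem_normalizer_iff_map_conj_eq.1 (hAza hc),
        mem_normalizer_iff_map_conj_eq.1 ((le_normalizer_of_normal : A ≤ normalizer (R : Set G)) hc)]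
    have hb := h.eq_bot_of_fix hw0 fun n hn => hle hn w hw
    refine commute_of_involution (t := (t : G)) (fun x hx => h.normal.conj_mem x hx t)
      (fun x _ => by
        rw [← pow_two, ← ht, pow_orderOf_eq_one]; exact Commute.one_left x) fun x hx hc => ?_
    have hax : Commute a x := (commutatorElement_eq_one_iff_commute.1
      (mem_bot.1 (hb ▸ commutator_mem_commutator hx (mem_zpowers a)))).symm
    have hmem : x ∈ R ⊓ centralizer (A : Set G) := ⟨hx, mem_centralizer_iff.2 fun c hc' => by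
      have : A ≤ centralizer {x} := (gen a t ha t.2 ha3 ht).trans ((closure_le _).2 (by
        rintro y (rfl | rfl)
        · exact mem_centralizer_singleton_iff.2 hax.eq
        · exact mem_centralizer_singleton_iff.2 hc.eq))
      exact mem_centralizer_singleton_iff.1 (this hc')⟩
    rw [h.fixR, mem_bot] at hmem
    exact hmem

end CfsgLib.FixedFree
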