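import Cfsg.Agent.Lib.FixedFree.PrimeCommute

/-!
# An element of prime order without fixed points

If `a` of prime order fixes nothing on a module, normalises a `q`-group `T` and an `r`-group `R`
acting on `T` through an abelian group, and `R` centralises what `a` and `[R, a]` centralise in `T`,
then the actions of `R` and `T` commute.
-/

set_option autoImplicit false

namespace CfsgLib.FixedFree

open Module Subgroup CfsgLib.HallHigman
open scoped commutatorElement

universe u v w

theorem orderOf_cast_ne_zero {K : Type v} [Field K] {G : Type u} [Group G] {T : Subgroup G} {q : ℕ}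
    [Fact q.Prime] (hT : IsPGroup q T) (hqK : (q : K) ≠ 0) {z : G} (hz : z ∈ T) :
    (orderOf z : K) ≠ 0 := by
  obtain ⟨k, hk⟩ := IsPGroup.iff_orderOf.1 hT ⟨z, hz⟩
  rw [Subgroup.orderOf_mk] at hk
  rw [hk, Nat.cast_pow]
  exact pow_ne_zero _ hqK

variable {K : Type v} [Field K] {G : Type u} [Group G] [Finite G]

/-- The subspaces invariant under two subgroups and an element are invariant under their join. -/
theorem invariant_sup {V : Type w} [AddCommGroup V] [Module K V] (ρ : Representation K G V)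
    (T R : Subgroup G) (a : G) {W : Submodule K V} (hT : ∀ g ∈ T, ∀ w ∈ W, ρ g w ∈ W)
    (hR : ∀ g ∈ R, ∀ w ∈ W, ρ g w ∈ W) (ha : ∀ w ∈ W, ρ a w ∈ W) :
    ∀ g ∈ T ⊔ R ⊔ zpowers a, ∀ w ∈ W, ρ g w ∈ W := by
  have hinv : ∀ (g : G) (n : ℕ), (∀ w ∈ W, ρ g w ∈ W) → ∀ w ∈ W, ρ (g ^ n) w ∈ W := by
    intro g n hg
    induction n with
    | zero => intro w hw; simpa using hw
    | succ n ih => intro w hw; rw [pow_succ', rep_self_mul_apply]; exact hg _ (ih w hw)
  let M : Subgroup G :=
    { carrier := {g | ∀ w ∈ W, ρ g w ∈ W}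
      one_mem' := fun w hw => by simpa using hw
      mul_mem' := fun {x y} hx hy w hw => by rw [rep_self_mul_apply]; exact hx _ (hy w hw)
      inv_mem' := fun {x} hx => by
        rw [show x⁻¹ = x ^ (orderOf x - 1) from inv_eq_of_mul_eq_one_right (by
          rw [← pow_succ', Nat.sub_add_cancel (orderOf_pos x), pow_orderOf_eq_one])]
        exact hinv x _ hx }
  exact fun g hg => (sup_le (sup_le (fun x hx => hT x hx) (fun x hx => hR x hx))
    (Subgroup.zpowers_le.2 ha) : T ⊔ R ⊔ zpowers a ≤ M) hg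

/-- The hypotheses of the prime-order lemma. -/
structure PrimeHyp {V : Type w} [AddCommGroup V] [Module K V] (ρ : Representation K G V) (a : G)
    (T R : Subgroup G) (p q r : ℕ) : Prop where
  pow_eq : a ^ p = 1
  noFixed : NoFixed ρ (zpowers a)
  isPGroup : IsPGroup q T
  isPGroupR : IsPGroup r R
  normalizesT : a ∈ normalizer (T : Set G)
  normalizesR : a ∈ normalizer (R : Set G)
  le_normalizer : R ≤ normalizer (T : Set G)
  derived : ∀ x ∈ R, ∀ y ∈ R, ∀ t ∈ T, ρ (⁅x, y⁆ * t) = ρ (t * ⁅x, y⁆)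
  fixed : ∀ t ∈ T, Commute a t → (∀ s ∈ R, Commute ⁅s, a⁆ t) → ∀ s ∈ R, Commute s t

variable [IsAlgClosed K]

theorem commute_of_injective {p q r : ℕ} (hp : p.Prime) (hq : q.Prime) (hr : r.Prime) (hpq : p ≠ q)
    (hrq : r ≠ q) (hpr : p ≠ r) (hpK : (p : K) ≠ 0) (hqK : (q : K) ≠ 0) {V : Type w} [AddCommGroup V]
    [Module K V] [FiniteDimensional K V]
    (ih : ∀ m < finrank K V, ∀ {G : Type u} [Group G] [Finite G] {V : Type w} [AddCommGroup V]
      [Module K V] [FiniteDimensional K V] (ρ : Representation K G V) (a : G) (T R : Subgroup G),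
      finrank K V = m → PrimeHyp ρ a T R p q r → ∀ s ∈ R, ∀ t ∈ T, ρ (s * t) = ρ (t * s))
    (ρ : Representation K G V) (hinj : Function.Injective ρ) {a : G} {T R : Subgroup G}
    (h : PrimeHyp ρ a T R p q r) : ∀ s ∈ R, ∀ t ∈ T, Commute s t := by
  classical
  have := Fact.mk hq
  by_contra hcon
  push Not at hcon
  obtain ⟨s₀, hs₀, t₀, ht₀, hst₀⟩ := hcon
  obtain ⟨T₁, ⟨hT₁le, haT₁, hRT₁, hmov⟩, hmin⟩ := wellFounded_lt.has_min
    {U : Subgroup G | U ≤ T ∧ a ∈ normalizer (U : Set G) ∧ R ≤ normalizer (U : Set G) ∧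
      ∃ s ∈ R, ∃ t ∈ U, ¬ Commute s t} ⟨T, le_rfl, h.normalizesT, h.le_normalizer, s₀, hs₀, t₀, ht₀, hst₀⟩
  have hT₁ : IsPGroup q T₁ := h.isPGroup.to_le hT₁le
  set S := T₁ ⊔ R ⊔ zpowers a with hS
  have hTS : T₁ ≤ S := le_sup_left.trans le_sup_left
  have hRS : R ≤ S := le_sup_right.trans le_sup_left
  have haS : a ∈ S := mem_sup_right (mem_zpowers a)
  have hzS : zpowers a ≤ S := le_sup_right
  set T' := T₁.subgroupOf S
  set R' := R.subgroupOf S
  set a' : S := ⟨a, haS⟩
  have hderiv : ∀ x ∈ R, ∀ y ∈ R, ∀ t ∈ T, Commute ⁅x, y⁆ t := fun x hx y hy t ht =>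
    hinj (h.derived x hx y hy t ht)
  have hfix' : ∀ t ∈ T', Commute a' t → (∀ s ∈ R', Commute ⁅s, a'⁆ t) → ∀ s ∈ R', Commute s t :=
    fun t ht h1 h2 s hs => Subtype.ext (h.fixed t (hT₁le ht) (congrArg Subtype.val h1)
      (fun x hx => congrArg Subtype.val (h2 ⟨x, hRS hx⟩ hx)) s hs)
  have hzp : zpowers a' = (zpowers a).subgroupOf S := by
    ext x
    simp only [mem_subgroupOf, mem_zpowers_iff, a']
    exact ⟨fun ⟨i, hi⟩ => ⟨i, congrArg Subtype.val hi⟩, fun ⟨i, hi⟩ => ⟨i, Subtype.ext hi⟩⟩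
  have haT' : a' ∈ normalizer (T' : Set S) := mem_normalizer_of_conj_mem fun g hg =>
    (conj_mem_of_mem_normalizer haT₁ hg : a * (g : G) * a⁻¹ ∈ T₁)
  have haR' : a' ∈ normalizer (R' : Set S) := mem_normalizer_of_conj_mem fun g hg =>
    (conj_mem_of_mem_normalizer h.normalizesR hg : a * (g : G) * a⁻¹ ∈ R)
  have hRT' : R' ≤ normalizer (T' : Set S) := fun x hx => mem_normalizer_of_conj_mem fun g hg =>
    (conj_mem_of_mem_normalizer (hRT₁ hx) hg : (x : G) * g * (x : G)⁻¹ ∈ T₁)
  have hpg : IsPGroup q T' := hT₁.of_equiv (subgroupOfEquivOfLe hTS).symm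
  have hpgR : IsPGroup r R' := h.isPGroupR.of_equiv (subgroupOfEquivOfLe hRS).symm
  by_cases hirr : ∀ W : Submodule K V, (∀ g ∈ T₁, ∀ w ∈ W, ρ g w ∈ W) → (∀ g ∈ R, ∀ w ∈ W, ρ g w ∈ W) →
      (∀ w ∈ W, ρ a w ∈ W) → W = ⊥ ∨ W = ⊤
  · have hnt : Nontrivial V := by
      by_contra hT
      rw [not_nontrivial_iff_subsingleton] at hT
      obtain ⟨s, hs, t, ht, hst⟩ := hmov
      exact hst (hinj (LinearMap.ext fun _ => Subsingleton.elim _ _))
    let σ : Representation K S V := ρ.comp S.subtype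
    have hσinj : Function.Injective σ := fun x y e => Subtype.ext (hinj e)
    have hTn : T'.Normal := normal_subgroupOf_of_le_normalizer
      (sup_le (sup_le le_normalizer hRT₁) (Subgroup.zpowers_le.2 haT₁))
    have hfixσ : NoFixed σ (zpowers a') := fun v hv => h.noFixed v fun g hg =>
      hv ⟨g, hzS hg⟩ (hzp ▸ mem_subgroupOf.2 hg)
    have hconf : PrimeConfig a' T' R' p q r :=
      { hp := hp, hq := hq, hr := hr, hpq := hpq, hrq := hrq, hpr := hpr
        pow_eq := Subtype.ext h.pow_eq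
        normal := hTn
        isPGroup := hpg
        isPGroupR := hpgR
        normalizes := haR'
        derived := fun x hx y hy t ht => Subtype.ext (hderiv x hx y hy t (hT₁le ht))
        fixed := hfix'
        moved := by
          obtain ⟨s, hs, t, ht, hst⟩ := hmov
          exact ⟨⟨s, hRS hs⟩, hs, ⟨t, hTS ht⟩, ht, fun e => hst (congrArg Subtype.val e)⟩
        minimal := fun U hU hRU haU hne s hs u hu => by
          by_contra hsu
          refine hmin (U.map S.subtype) ⟨?_, ?_, ?_, ?_⟩ (lt_of_le_of_ne ?_ fun e => hne ?_)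
          · rintro _ ⟨y, hy, rfl⟩; exact hT₁le (hU hy)
          · refine mem_normalizer_of_conj_mem ?_
            rintro _ ⟨y, hy, rfl⟩
            exact ⟨a' * y * a'⁻¹, conj_mem_of_mem_normalizer haU hy, rfl⟩
          · intro x hx
            refine mem_normalizer_of_conj_mem ?_
            rintro _ ⟨y, hy, rfl⟩
            exact ⟨⟨x, hRS hx⟩ * y * (⟨x, hRS hx⟩ : S)⁻¹,
              conj_mem_of_mem_normalizer (hRU (show (⟨x, hRS hx⟩ : S) ∈ R' from hx)) hy, rfl⟩
          · exact ⟨s, hs, u, ⟨u, hu, rfl⟩, fun e => hsu (Subtype.ext e)⟩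
          · rintro _ ⟨y, hy, rfl⟩; exact hU hy
          · exact Subgroup.map_injective S.subtype_injective
              (e.trans (by rw [subgroupOf_map_subtype, inf_eq_left.2 hTS]))
        abelianFix := fun U hU haU hc u hu => by
          by_cases ha1 : a' = 1
          · rw [ha1]; exact Commute.one_left u
          have := Fact.mk hp
          exact hσinj (commute_of_noFixed σ hp (orderOf_eq_prime (Subtype.ext h.pow_eq) ha1) hfixσ haU
            (fun x hx y hy => congrArg σ (hc x hx y hy).eq)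
            (fun z hz => orderOf_cast_ne_zero (hpg.to_le hU) hqK hz) hu) }
    refine PrimeRep.false (ρ := σ) (a := a') (T := T') (R := R') (p := p) (q := q) (r := r)
      ⟨hconf, hσinj, hfixσ, fun W h1 h2 h3 => hirr W (fun g hg w hw => h1 ⟨g, hTS hg⟩ hg w hw)
        (fun g hg w hw => h2 ⟨g, hRS hg⟩ hg w hw) h3⟩
  · push Not at hirr
    obtain ⟨W, hW1, hW2, hW3, hWb, hWt⟩ := hirr
    have hWS := invariant_sup ρ T₁ R a hW1 hW2 hW3
    have hcard : (Nat.card (zpowers a) : K) ≠ 0 := by
      rw [Nat.card_zpowers]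
      rcases hp.eq_one_or_self_of_dvd _ (orderOf_dvd_of_pow_eq_one h.pow_eq) with e | e <;> rw [e]
      · simp
      · exact hpK
    have hyp : ∀ {W' : Type w} [AddCommGroup W'] [Module K W'] (σ : Representation K S W'),
        NoFixed σ ((zpowers a).subgroupOf S) → PrimeHyp σ a' T' R' p q r :=
      fun {W'} _ _ σ hσ =>
      { pow_eq := Subtype.ext h.pow_eq
        noFixed := hzp ▸ hσ
        isPGroup := hpg
        isPGroupR := hpgR
        normalizesT := haT'
        normalizesR := haR'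
        le_normalizer := hRT'
        derived := fun x hx y hy t ht => congrArg σ (Subtype.ext (hderiv x hx y hy t (hT₁le ht)).eq)
        fixed := hfix' }
    have h1 := ih _ (Submodule.finrank_lt hWt) (restrictRep ρ S W hWS) a' T' R' rfl
      (hyp _ (h.noFixed.restrict hzS hWS))
    have h2 := ih _ (by
        have h3 := W.finrank_quotient_add_finrank
        have h4 : 0 < finrank K W := by
          have : Nontrivial W := Submodule.nontrivial_iff_ne_bot.2 hWb
          exact Module.finrank_pos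
        omega) (quotientRep ρ S W hWS) a' T' R' rfl (hyp _ (h.noFixed.quotient hcard hzS hWS))
    obtain ⟨s, hs, t, ht, hst⟩ := hmov
    refine hst ?_
    have hmem : ⁅s, t⁆ ∈ T₁ := mul_mem (conj_mem_of_mem_normalizer (hRT₁ hs) ht) (inv_mem ht)
    have hσ : ∀ {W' : Type w} [AddCommGroup W'] [Module K W'] (σ : Representation K S W') (x y : S),
        σ (x * y) = σ (y * x) → σ ⁅x, y⁆ = 1 := by
      intro W' _ _ σ x y e
      rw [commutatorElement_def, mul_assoc (x * y), map_mul, e, ← map_mul]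
      simp [mul_assoc]
    have e1 := hσ _ _ _ (h1 ⟨s, hRS hs⟩ hs ⟨t, hTS ht⟩ ht)
    have e2 := hσ _ _ _ (h2 ⟨s, hRS hs⟩ hs ⟨t, hTS ht⟩ ht)
    refine commutatorElement_eq_one_iff_commute.1 (hinj ?_)
    rw [map_one]
    refine eq_one_of_unipotent (m := orderOf ⁅s, t⁆) (W := W)
      (by rw [← map_pow, pow_orderOf_eq_one, map_one]) (orderOf_cast_ne_zero hT₁ hqK hmem)
      (fun w hw => congrArg Subtype.val (LinearMap.congr_fun e1 ⟨w, hw⟩)) fun v => ?_
    rw [← Submodule.Quotient.mk_eq_zero, Submodule.Quotient.mk_sub]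
    exact sub_eq_zero.2 (LinearMap.congr_fun e2 (Submodule.Quotient.mk v))

/-- The prime-order lemma. -/
theorem commute_of_prime {p q r : ℕ} (hp : p.Prime) (hq : q.Prime) (hr : r.Prime) (hpq : p ≠ q)
    (hrq : r ≠ q) (hpr : p ≠ r) (hpK : (p : K) ≠ 0) (hqK : (q : K) ≠ 0) :
    ∀ d : ℕ, ∀ {G : Type u} [Group G] [Finite G] {V : Type w} [AddCommGroup V] [Module K V]
      [FiniteDimensional K V] (ρ : Representation K G V) (a : G) (T R : Subgroup G),
      finrank K V = d → PrimeHyp ρ a T R p q r → ∀ s ∈ R, ∀ t ∈ T, ρ (s * t) = ρ (t * s) := by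
  intro d
  induction d using Nat.strong_induction_on with
  | _ d ih =>
  intro G _ _ V _ _ _ ρ a T R hd h s hs t ht
  subst hd
  have := Fact.mk hq
  let π := QuotientGroup.mk' ρ.ker
  let ρ' : Representation K (G ⧸ ρ.ker) V := QuotientGroup.lift ρ.ker ρ le_rfl
  have hρ' : ∀ g, ρ' (π g) = ρ g := fun g => QuotientGroup.lift_mk' _ _ g
  have hinj : Function.Injective ρ' := by
    intro x y hxy
    obtain ⟨x, rfl⟩ := QuotientGroup.mk'_surjective ρ.ker x
    obtain ⟨y, rfl⟩ := QuotientGroup.mk'_surjective ρ.ker y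
    rw [hρ', hρ'] at hxy
    exact QuotientGroup.eq.2 (MonoidHom.mem_ker.2 (by
      rw [map_mul, ← hxy, ← map_mul, inv_mul_cancel, map_one]))
  have hn : ∀ (g : G) (H : Subgroup G), g ∈ normalizer (H : Set G) →
      π g ∈ normalizer (H.map π : Set (G ⧸ ρ.ker)) := fun g H hg => mem_normalizer_of_conj_mem (by
    rintro _ ⟨x, hx, rfl⟩
    exact ⟨g * x * g⁻¹, conj_mem_of_mem_normalizer hg hx, by simp⟩)
  have hyp : PrimeHyp ρ' (π a) (T.map π) (R.map π) p q r :=
    { pow_eq := by rw [← map_pow, h.pow_eq, map_one]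
      noFixed := by rw [← MonoidHom.map_zpowers]; exact h.noFixed.map hρ'
      isPGroup := h.isPGroup.map π
      isPGroupR := h.isPGroupR.map π
      normalizesT := hn a T h.normalizesT
      normalizesR := hn a R h.normalizesR
      le_normalizer := by rintro _ ⟨x, hx, rfl⟩; exact hn x T (h.le_normalizer hx)
      derived := by
        rintro _ ⟨x, hx, rfl⟩ _ ⟨y, hy, rfl⟩ _ ⟨u, hu, rfl⟩
        rw [← map_commutatorElement, ← map_mul, ← map_mul, hρ', hρ']
        exact h.derived x hx y hy u hu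
      fixed := by
        intro u hu h1 h2
        have hL : fixGroup a R ≤ normalizer (T : Set G) := fixGroup_le_iff.2 ⟨h.normalizesT, fun x hx =>
          mul_mem (mul_mem (mul_mem (h.le_normalizer hx) h.normalizesT) (inv_mem (h.le_normalizer hx)))
            (inv_mem h.normalizesT)⟩
        obtain ⟨k, hk⟩ := IsPGroup.iff_card.1 h.isPGroup
        have hmem : u ∈ T.map π ⊓ centralizer ((fixGroup a R).map π : Set (G ⧸ ρ.ker)) := by
          refine ⟨hu, ?_⟩
          show u ∈ centralizer ((fixGroup a R).map π : Set (G ⧸ ρ.ker))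
          rw [← Subgroup.zpowers_le, Subgroup.le_centralizer_iff, map_le_iff_le_comap, fixGroup_le_iff]
          have key : ∀ g, Commute (π g) u → g ∈ comap π (centralizer (zpowers u : Set (G ⧸ ρ.ker))) :=
            fun g hg => mem_centralizer_iff.2 fun y hy => by
              obtain ⟨i, rfl⟩ := mem_zpowers_iff.1 hy
              exact (hg.zpow_right i).eq.symm
          exact ⟨key a h1, fun x hx => key _ (by
            rw [map_commutatorElement]; exact h2 _ (mem_map_of_mem π hx))⟩
        rw [← Coprime.map_inf_centralizer π hL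
          (hk ▸ (coprime_fixGroup hp hq hr hpq hrq hpr h.pow_eq h.isPGroupR h.normalizesR).pow_right k)
          (Or.inr (by have := h.isPGroup.isNilpotent; infer_instance))] at hmem
        obtain ⟨v, ⟨hv, hvc⟩, rfl⟩ := hmem
        obtain ⟨h3, h4⟩ := mem_centralizer_fixGroup.1 hvc
        rintro _ ⟨x, hx, rfl⟩
        exact (h.fixed v hv h3 h4 x hx).map π }
  have hc := commute_of_injective hp hq hr hpq hrq hpr hpK hqK
    (fun m hm {G} _ _ {V} _ _ _ ρ a T R hd h => ih m hm ρ a T R hd h) ρ' hinj hyp (π s)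
    (mem_map_of_mem π hs) (π t) (mem_map_of_mem π ht)
  rw [← hρ', ← hρ', map_mul π, map_mul π, hc.eq]

end CfsgLib.FixedFree
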