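import Cfsg.Agent.Lib.FixedFree.PrimeMoved

/-!
# No minimal configuration exists
-/

set_option autoImplicit false

namespace CfsgLib.FixedFree

open Module Polynomial CfsgLib.HallHigman
open scoped commutatorElement

universe u v w

theorem mem_of_pow_mem_coprime {G : Type u} [Group G] {U : Subgroup G} {g : G} {m n : ℕ}
    (h : m.Coprime n) (hm : g ^ m ∈ U) (hn : g ^ n ∈ U) : g ∈ U := by
  have e : g = (g ^ m) ^ Nat.gcdA m n * (g ^ n) ^ Nat.gcdB m n := by
    rw [← zpow_natCast, ← zpow_natCast, ← zpow_mul, ← zpow_mul, ← zpow_add, ← Nat.gcd_eq_gcd_ab,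
      Nat.Coprime.gcd_eq_one h]
    simp
  rw [e]
  exact mul_mem (zpow_mem hm _) (zpow_mem hn _)

variable {K : Type v} [Field K] [IsAlgClosed K] {V : Type w} [AddCommGroup V] [Module K V]
  [FiniteDimensional K V] [Nontrivial V] {G : Type u} [Group G]
  [Finite G] {ρ : Representation K G V} {a : G} {T R : Subgroup G} {p q r : ℕ}

/-- There is no minimal configuration. -/
theorem PrimeRep.false (h : PrimeRep ρ a T R p q r) : False := by
  classical
  have hc := h.config
  have := hc.normal
  have := Fact.mk hc.hq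
  have := Fact.mk hc.hr
  -- what `a` fixes in `T` is central
  have hCa : ∀ u ∈ T, Commute a u → u ∈ centerIn T := fun u hu hau => central_of_fixGroup hc hu
    (mem_centralizer_fixGroup.2 ⟨hau, fun s hs => h.commute_commutator hs u hu⟩)
  have hord : Nat.card (Subgroup.zpowers a) ∣ p := by
    rw [Nat.card_zpowers]; exact orderOf_dvd_of_pow_eq_one hc.pow_eq
  have hfixa : NoFixed (cenRep hc) (Subgroup.zpowers a) :=
    eq_zero_of_fixed hc (((Nat.coprime_primes hc.hp hc.hq).2 hc.hpq).coprime_dvd_left hord)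
      fun u hu hcu => hCa u hu (Subgroup.mem_centralizer_iff.1 hcu a (Subgroup.mem_zpowers a))
  -- a part of `R` commuting with `a` moves `T`
  obtain ⟨s, hs, t, ht, hst⟩ := hc.moved
  obtain ⟨c, hcR, hca, hct⟩ : ∃ c ∈ R, Commute a c ∧ ¬ Commute c t := by
    obtain ⟨k, hk⟩ := IsPGroup.iff_card.1 hc.isPGroupR
    obtain ⟨n, hn, c, hcc, rfl⟩ := Coprime.exists_mul_eq' (Subgroup.zpowers_le.2 hc.normalizes)
      (hk ▸ (((Nat.coprime_primes hc.hp hc.hr).2 hc.hpr).pow_right k).coprime_dvd_left hord)
      (Or.inr (by have := hc.isPGroupR.isNilpotent; infer_instance)) hs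
    refine ⟨c, hcc.1, Subgroup.mem_centralizer_iff.1 hcc.2 a (Subgroup.mem_zpowers a), fun e => hst ?_⟩
    refine (?_ : Commute n t).mul_left e
    let C : Subgroup G := Subgroup.centralizer (T : Set G)
    have hCn : ∀ g : G, g ∈ Subgroup.normalizer (C : Set G) := fun g => by
      have : (Subgroup.centralizer (T : Set G)).Normal := inferInstance
      rw [Subgroup.normalizer_eq_top]; trivial
    have hle : ⁅R, Subgroup.zpowers a⁆ ≤ C := Subgroup.commutator_le.2 fun x hx g hg => by
      obtain ⟨i, rfl⟩ := mem_powers_iff_mem_zpowers.2 hg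
      induction i with
      | zero => simp
      | succ i ih =>
        have e2 : ⁅x, a ^ (i + 1)⁆ = ⁅x, a⁆ * (a * ⁅x, a ^ i⁆ * a⁻¹) := by
          rw [pow_succ', commutatorElement_def, commutatorElement_def, commutatorElement_def]; group
        show ⁅x, a ^ (i + 1)⁆ ∈ C
        rw [e2]
        exact mul_mem (Subgroup.mem_centralizer_iff.2 fun u hu => (h.commute_commutator hx u hu).eq.symm)
          (conj_mem_of_mem_normalizer (hCn a) (ih (pow_mem (Subgroup.mem_zpowers a) i)))
    exact (Subgroup.mem_centralizer_iff.1 (hle hn) t ht).symm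
  -- of order `r` modulo the centraliser
  obtain ⟨k, hk⟩ := IsPGroup.iff_orderOf.1 hc.isPGroupR ⟨c, hcR⟩
  rw [Subgroup.orderOf_mk] at hk
  have hex : ∃ j, ∀ u ∈ T, Commute (c ^ r ^ j) u :=
    ⟨k, fun u _ => by rw [← hk, pow_orderOf_eq_one]; exact Commute.one_left u⟩
  obtain ⟨j, hj⟩ : ∃ j, Nat.find hex = j + 1 := by
    refine ⟨Nat.find hex - 1, (Nat.succ_pred_eq_of_ne_zero fun e => hct ?_).symm⟩
    have := Nat.find_spec hex t ht
    rwa [e, pow_zero, pow_one] at this
  set r₀ := c ^ r ^ j with hr₀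
  have hr₀R : r₀ ∈ R := pow_mem hcR _
  have har : Commute a r₀ := hca.pow_right _
  have hr₀r : ∀ u ∈ T, Commute (r₀ ^ r) u := by
    have := Nat.find_spec hex
    rw [hj, pow_succ, pow_mul] at this
    exact this
  have hr₀mov : ¬ ∀ u ∈ T, Commute r₀ u := fun e => Nat.find_min hex (by omega) e
  -- what `r₀` fixes is central
  have hCr : ∀ u ∈ T, Commute r₀ u → u ∈ centerIn T := by
    let U : Subgroup G :=
      { carrier := {u | u ∈ T ∧ Commute r₀ u}
        one_mem' := ⟨one_mem T, Commute.one_right _⟩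
        mul_mem' := fun {x y} hx hy => ⟨mul_mem hx.1 hy.1, hx.2.mul_right hy.2⟩
        inv_mem' := fun {x} hx => ⟨inv_mem hx.1, hx.2.inv_right⟩ }
    intro u hu hru
    refine mem_centerIn.2 ⟨hu, hc.central_of_fixed hu fun x hx =>
      hc.minimal U (fun y hy => hy.1) (fun x hx => mem_normalizer_of_conj_mem fun y hy => ?_)
        (mem_normalizer_of_conj_mem fun y hy => ?_) (fun e => hr₀mov fun y hy => (e.ge hy).2) x hx u ⟨hu, hru⟩⟩
    · refine ⟨hc.normal.conj_mem y hy.1 x, ?_⟩
      have h1 : Commute ⁅r₀⁻¹, x⁻¹⁆ y := hc.derived _ (inv_mem hr₀R) _ (inv_mem hx) y hy.1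
      have h2 : Commute (r₀ * ⁅r₀⁻¹, x⁻¹⁆) y := hy.2.mul_left h1
      rw [show r₀ * ⁅r₀⁻¹, x⁻¹⁆ = x⁻¹ * r₀ * x by rw [commutatorElement_def]; group] at h2
      simpa [mul_assoc] using h2.map (MulAut.conj x).toMonoidHom
    · refine ⟨hc.normal.conj_mem y hy.1 a, ?_⟩
      have h2 := hy.2.map (MulAut.conj a).toMonoidHom
      simp only [MulEquiv.coe_toMonoidHom, MulAut.conj_apply, har.eq, mul_inv_cancel_right] at h2
      exact h2
  have hordr : Nat.card (Subgroup.zpowers r₀) ∣ Nat.card R :=
    Subgroup.card_dvd_of_le (Subgroup.zpowers_le.2 hr₀R)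
  have hfixr : NoFixed (cenRep hc) (Subgroup.zpowers r₀) := by
    obtain ⟨k', hk'⟩ := IsPGroup.iff_card.1 hc.isPGroupR
    exact eq_zero_of_fixed hc ((((Nat.coprime_primes hc.hr hc.hq).2 hc.hrq).pow_left k').coprime_dvd_left
      (hk' ▸ hordr)) fun u hu hcu => hCr u hu (Subgroup.mem_centralizer_iff.1 hcu r₀ (Subgroup.mem_zpowers r₀))
  -- the two periods
  have hQ : ScalarQ ρ T q := h.scalarQ le_rfl (fun _ hz hzc => mem_centerIn.2 ⟨hz, hzc⟩) fun hle =>
    hc.centerIn_ne (le_antisymm (centerIn_le T) hle)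
  have hTn : ∀ g : G, g ∈ Subgroup.normalizer (T : Set G) := fun g => hc.le_normalizer ⊤ (Subgroup.mem_top g)
  -- the fixed cosets
  have hfix : ∀ (u : T) (g : G), (∀ t ∈ T, Commute t ((u : G)⁻¹ * (g * u * g⁻¹))) →
      cenRep hc g (cenVec hc u u.2) = cenVec hc u u.2 := by
    intro u g hg
    rw [cenRep_fix_iff, commutatorElement_def]
    have h2 := (centerIn_normal T).conj_mem _
      (mem_centerIn.2 ⟨mul_mem (inv_mem u.2) (hc.normal.conj_mem _ u.2 g), hg⟩ : (u : G)⁻¹ * (g * u * g⁻¹) ∈ centerIn T)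
      (u : G)
    convert h2 using 1
    group
  have hcentral : ∀ (u : T) (g : G), NoFixed (cenRep hc) (Subgroup.zpowers g) →
      cenRep hc g (cenVec hc u u.2) = cenVec hc u u.2 → u ∈ Subgroup.center T := by
    intro u g hg hgu
    have h0 : cenVec hc u u.2 = 0 := hg _ fun y hy => by
      obtain ⟨i, rfl⟩ := mem_powers_iff_mem_zpowers.2 hy
      induction i with
      | zero => simp
      | succ i ih =>
        show cenRep hc (g ^ (i + 1)) _ = _
        rw [pow_succ', rep_self_mul_apply, ih (pow_mem (Subgroup.mem_zpowers g) i), hgu]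
    exact Subgroup.mem_center_iff.2 fun t => Subtype.ext ((mem_centerIn.1 ((cenVec_eq_zero hc u.2).1 h0)).2 t t.2)
  obtain ⟨b, -, hpb, hcard⟩ := hQ.deg_bound (hTn a) hc.hp.one_lt
    (fun s _ => by rw [hc.pow_eq]; exact Commute.one_left s)
    (fun u i hi hip hu => by
      refine hcentral u a hfixa ?_
      let U : Subgroup G :=
        { carrier := {g | cenRep hc g (cenVec hc u u.2) = cenVec hc u u.2}
          one_mem' := by simp
          mul_mem' := fun {x y} hx hy => by
            show cenRep hc (x * y) _ = _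
            rw [rep_self_mul_apply, show cenRep hc y _ = _ from hy, show cenRep hc x _ = _ from hx]
          inv_mem' := fun {x} hx => by
            show cenRep hc x⁻¹ _ = _
            conv_lhs => rw [← show cenRep hc x _ = cenVec hc u u.2 from hx]
            exact rep_inv_apply_self _ x _ }
      exact mem_of_pow_mem_coprime (U := U) (Nat.coprime_of_lt_prime hi.ne' hip hc.hp)
        (by rw [hc.pow_eq]; exact one_mem U) (hfix u _ hu))
    (fun W hW _ _ => h.deg_restrict_lt W hW)
  set x := a * r₀ with hx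
  obtain ⟨m, hm⟩ := IsPGroup.iff_orderOf.1 hc.isPGroupR ⟨r₀, hr₀R⟩
  rw [Subgroup.orderOf_mk] at hm
  have hxpow : ∀ i, x ^ i = a ^ i * r₀ ^ i := har.mul_pow
  obtain ⟨b', -, hPb, hcard'⟩ := hQ.deg_bound (hTn x) (P := p * r)
    (one_lt_mul hc.hp.one_lt.le hc.hr.one_lt)
    (fun s hs => by
      rw [hxpow, pow_mul, hc.pow_eq, one_pow, one_mul, mul_comm, pow_mul]
      exact (hr₀r s hs).pow_left p)
    (fun u i hi hiP hu => by
      let U : Subgroup G :=
        { carrier := {g | cenRep hc g (cenVec hc u u.2) = cenVec hc u u.2}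
          one_mem' := by simp
          mul_mem' := fun {x y} hx hy => by
            show cenRep hc (x * y) _ = _
            rw [rep_self_mul_apply, show cenRep hc y _ = _ from hy, show cenRep hc x _ = _ from hx]
          inv_mem' := fun {x} hx => by
            show cenRep hc x⁻¹ _ = _
            conv_lhs => rw [← show cenRep hc x _ = cenVec hc u u.2 from hx]
            exact rep_inv_apply_self _ x _ }
      have hU : x ^ i ∈ U := hfix u _ hu
      have hrU : r₀ ^ r ∈ U := by
        show cenRep hc (r₀ ^ r) _ = _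
        rw [cenRep_eq_one_of_centralizes hc hr₀r, Module.End.one_apply]
      by_cases hpi : p ∣ i
      · refine hcentral u r₀ hfixr ?_
        have hri : ¬ r ∣ i := fun hri => absurd (Nat.le_of_dvd hi
          (((Nat.coprime_primes hc.hp hc.hr).2 hc.hpr).mul_dvd_of_dvd_of_dvd hpi hri)) (not_le.2 hiP)
        refine mem_of_pow_mem_coprime (U := U) ((hc.hr.coprime_iff_not_dvd).2 hri) hrU ?_
        obtain ⟨l, rfl⟩ := hpi
        rwa [hxpow, pow_mul, hc.pow_eq, one_pow, one_mul] at hU
      · refine hcentral u a hfixa ?_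
        refine mem_of_pow_mem_coprime (U := U) (m := p) (n := i * r) ?_ (by rw [hc.pow_eq]; exact one_mem U) ?_
        · exact Nat.Coprime.mul_right ((hc.hp.coprime_iff_not_dvd).2 hpi)
            ((Nat.coprime_primes hc.hp hc.hr).2 hc.hpr)
        · have h1 : a ^ (i * r) = (x ^ i) ^ r * ((r₀ ^ r) ^ i)⁻¹ := by
            rw [← pow_mul, ← pow_mul, hxpow, mul_comm r i, mul_inv_cancel_right]
          rw [h1]
          exact mul_mem (pow_mem hU r) (inv_mem (pow_mem hrU i)))
    (fun W hW d hd => by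
      have hpowW : ∀ i : ℕ, ∀ w ∈ W, ρ (x ^ i) w ∈ W := by
        intro i
        induction i with
        | zero => intro w hw; simpa using hw
        | succ i ih => intro w hw; rw [pow_succ', rep_self_mul_apply]; exact hW _ (ih w hw)
      have hco : p.Coprime (r ^ m) := ((Nat.coprime_primes hc.hp hc.hr).2 hc.hpr).pow_right m
      have haW : ∀ w ∈ W, ρ a w ∈ W := by
        obtain ⟨l, hl⟩ := exists_pow_eq_self_of_coprime (n := r ^ m) (x := a)
          (hco.symm.coprime_dvd_right (orderOf_dvd_of_pow_eq_one hc.pow_eq))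
        intro w hw
        rw [← hl, show a ^ (r ^ m) = x ^ (r ^ m) by rw [hxpow, ← hm, pow_orderOf_eq_one, mul_one], ← pow_mul]
        exact hpowW _ w hw
      have hrW : ∀ w ∈ W, ρ r₀ w ∈ W := by
        obtain ⟨l, hl⟩ := exists_pow_eq_self_of_coprime (n := p) (x := r₀) (hm ▸ hco)
        intro w hw
        rw [← hl, show r₀ ^ p = x ^ p by rw [hxpow, hc.pow_eq, one_mul], ← pow_mul]
        exact hpowW _ w hw
      obtain ⟨l, hl⟩ := exists_pow_eq_self_of_coprime (n := p) (x := r₀ ^ r)
        ((hm ▸ hco : p.Coprime (orderOf r₀)).coprime_dvd_right (orderOf_pow_dvd r))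
      have hscal : ∀ w ∈ W, ρ (r₀ ^ r) w = d ^ l • w := by
        have hl' : r₀ ^ r = (x ^ (p * r)) ^ l := by
          rw [hxpow, pow_mul a, hc.pow_eq, one_pow, one_mul, mul_comm p r, pow_mul r₀ r p, hl]
        rw [hl']
        intro w hw
        clear hl hl'
        induction l with
        | zero => simp
        | succ l ih => rw [pow_succ', rep_self_mul_apply, ih, map_smul, hd w hw, smul_smul, pow_succ]
      set fa := (ρ a).restrict haW
      set fr := (ρ r₀).restrict hrW
      have hmul : (ρ x).restrict hW = fa * fr := LinearMap.ext fun w => Subtype.ext (by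
        show ρ (a * r₀) (w : V) = ρ a (ρ r₀ w)
        rw [rep_self_mul_apply])
      have hcomm : Commute fa fr := LinearMap.ext fun w => Subtype.ext (by
        show ρ a (ρ r₀ (w : V)) = ρ r₀ (ρ a w)
        rw [← rep_self_mul_apply, har.eq, rep_self_mul_apply])
      have hfr : deg fr ≤ r := by
        have h0 : aeval fr (X ^ r - C (d ^ l) : K[X]) = 0 := LinearMap.ext fun w => Subtype.ext (by
          rw [aeval_restrict_apply]
          rw [map_sub, map_pow, aeval_X, aeval_C, LinearMap.sub_apply, ← map_pow, hscal w w.2]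
          rw [Module.algebraMap_end_apply, sub_self]; rfl)
        exact (deg_le_of_aeval_eq_zero (X_pow_sub_C_ne_zero hc.hr.pos _) h0).trans (natDegree_X_pow_sub_C).le
      rw [hmul]
      exact lt_of_le_of_lt ((deg_mul_le hcomm).trans (Nat.mul_le_mul_left _ hfr))
        (Nat.mul_lt_mul_of_pos_right (h.deg_restrict_lt W haW) hc.hr.pos))
  rw [hcard, ← pow_add, ← pow_add] at hcard'
  have := Nat.pow_right_injective hc.hq.two_le hcard'
  have hbb : b' = b := by omega
  rw [hbb, ← hpb] at hPb
  have := hc.hr.one_lt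
  have := hc.hp.pos
  nlinarith

end CfsgLib.FixedFree
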