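import Cfsg.Agent.Lib.FixedFree.PrimeScalar

/-!
# The case where `[R, a]` moves `T`
-/

set_option autoImplicit false

namespace CfsgLib.FixedFree

open Module Subgroup CfsgLib.HallHigman
open scoped commutatorElement TensorProduct

universe u v w

/-- The elements preserving a subspace and acting trivially modulo it. -/
theorem sum_mem_of_trivial_mod {K : Type v} [Field K] {V : Type w} [AddCommGroup V] [Module K V]
    {G : Type u} [Group G] {ρ : Representation K G V} {A : Subgroup G} [Finite A] (hA : NoFixed ρ A)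
    (hAK : (Nat.card A : K) ≠ 0) {E : Submodule K V} (h : ∀ g ∈ A, ∀ w : V, ρ g w - w ∈ E) :
    E = ⊤ := by
  have : Fintype A := Fintype.ofFinite A
  refine eq_top_iff.2 fun w _ => ?_
  have h1 : ∑ c : A, (ρ (c : G) w - w) ∈ E := Submodule.sum_mem E fun c _ => h c c.2 w
  rw [Finset.sum_sub_distrib, hA.sum_eq_zero, zero_sub, Submodule.neg_mem_iff, Finset.sum_const,
    Finset.card_univ, ← Nat.card_eq_fintype_card, ← Nat.cast_smul_eq_nsmul K] at h1
  exact (E.smul_mem_iff hAK).1 h1

theorem pow_add_one_ne {q b : ℕ} (hq : 2 ≤ q) (hb : 1 ≤ b) : 2 * b ≤ q ^ b := by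
  refine le_trans ?_ (Nat.pow_le_pow_left hq b)
  clear hb hq
  induction b with
  | zero => simp
  | succ b ih =>
    rcases Nat.eq_zero_or_pos b with rfl | hb
    · simp
    · rw [pow_succ]; omega

variable {K : Type v} [Field K] [IsAlgClosed K] {V : Type w} [AddCommGroup V] [Module K V]
  [FiniteDimensional K V] [Nontrivial V] {G : Type u} [Group G]
  [Finite G] {ρ : Representation K G V} {a : G} {T R : Subgroup G} {p q r : ℕ}

/-- In a minimal configuration `[R, a]` centralises `T`. -/
theorem PrimeRep.commute_commutator (h : PrimeRep ρ a T R p q r) {s : G} (hs : s ∈ R) :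
    ∀ t ∈ T, Commute ⁅s, a⁆ t := by
  classical
  have hc := h.config
  have := hc.normal
  have := Fact.mk hc.hq
  obtain ⟨b, hb, hpb, hcardM, hcen⟩ := h.exists_bound
  set z := ⁅s, a⁆ with hz
  have hzR : z ∈ R := by
    rw [hz, commutatorElement_def, show s * a * s⁻¹ * a⁻¹ = s * (a * s⁻¹ * a⁻¹) by group]
    exact mul_mem hs (conj_mem_of_mem_normalizer hc.normalizes (inv_mem hs))
  let F := AlgebraicClosure (ZMod q)
  set σ := extend F (cenRep hc) with hσ
  set L := fixGroup a R with hL
  have hLK : (Nat.card L : F) ≠ 0 := natCast_ne_zero_of_coprime F hc.hq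
    (coprime_fixGroup hc.hp hc.hq hc.hr hc.hpq hc.hrq hc.hpr hc.pow_eq hc.isPGroupR hc.normalizes)
  have hσfix : NoFixed σ L := (noFixed_fixGroup hc).extend hLK
  have hRK : ∀ x ∈ R, (orderOf x : F) ≠ 0 := fun x hx => natCast_ne_zero_of_coprime F hc.hq (by
    have := Fact.mk hc.hr
    obtain ⟨k, hk⟩ := IsPGroup.iff_card.1 hc.isPGroupR
    exact (((Nat.coprime_primes hc.hr hc.hq).2 hc.hrq).pow_left k).coprime_dvd_left
      (hk ▸ Subgroup.orderOf_dvd_natCard R hx))
  have hRc : ∀ x ∈ R, ∀ y ∈ R, σ (x * y) = σ (y * x) := fun x hx y hy =>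
    (extend_eq_iff F _ _ _).2 (cenRep_comm hc hx hy)
  by_contra hcon
  push Not at hcon
  obtain ⟨t, ht, hzt⟩ := hcon
  -- a weight moved by `z`
  obtain ⟨v, χ, hv0, hvχ, hzv⟩ : ∃ (v : F ⊗[ZMod q] hc.elemNormal_center.Space) (χ : G → F),
      v ≠ 0 ∧ v ∈ charSpace σ R χ ∧ σ z v ≠ v := by
    by_contra hno
    push Not at hno
    have h1 := fix_of_weights σ R (M := ⊤) (fun _ _ _ _ => Submodule.mem_top)
      (fun x hx y hy w _ => by rw [hRc x hx y hy]) hzR (hRK z hzR)
      (fun v χ _ hv0 hv => hno v χ hv0 hv) ((1 : F) ⊗ₜ[ZMod q] cenVec hc t ht) Submodule.mem_top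
    rw [hσ, extend_tmul] at h1
    obtain ⟨c, hcc, hzc⟩ := exists_commute_of_fixed hc (S := zpowers z)
      (by
        have := Fact.mk hc.hr
        obtain ⟨k, hk⟩ := IsPGroup.iff_card.1 hc.isPGroupR
        exact (((Nat.coprime_primes hc.hr hc.hq).2 hc.hrq).pow_left k).coprime_dvd_left
          (hk ▸ Subgroup.card_dvd_of_le (Subgroup.zpowers_le.2 hzR)))
      ht (fun g hg => by
        obtain ⟨i, rfl⟩ := mem_powers_iff_mem_zpowers.2 hg
        induction i with
        | zero => simp
        | succ i ih =>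
          show cenRep hc (z ^ (i + 1)) _ = _
          rw [pow_succ', rep_self_mul_apply, ih (pow_mem (mem_zpowers z) i), one_tmul_injective (k := ZMod q) F h1])
    refine hzt ?_
    have h2 : Commute z (t * c) := mem_centralizer_iff.1 hzc z (mem_zpowers z)
    have h3 := h2.mul_right ((hc.fix_center hcc).2 z hzR).inv_right
    rwa [mul_inv_cancel_right] at h3
  -- the orbit of the weight is free
  have hnot : ∀ i, 0 < i → i < p → a ^ i ∉ charStabilizer R χ := by
    intro i hi hip hst
    have h2 := Subgroup.zpowers_le.2 hst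
      (pow_mem_zpowers_of_pos_lt (n := 1) hc.hp (by rw [pow_one]; exact hc.pow_eq) hi (by rw [pow_one]; exact hip))
    exact hzv (fix_commutator hvχ (by simpa using h2) hs)
  set f := σ a with hf
  let e : Fin p → F ⊗[ZMod q] hc.elemNormal_center.Space := fun i => (f ^ (i : ℕ)) v
  have hli : LinearIndependent F e := Fintype.linearIndependent_iff.2 fun g hg i => by
    have h2 := charSpace_translates σ R hc.normalizes χ hnot (W := F ∙ v)
      ((Submodule.span_singleton_le_iff_mem _ _).2 hvχ)
      (fun j => ⟨g j • v, Submodule.smul_mem _ _ (Submodule.mem_span_singleton_self v)⟩)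
      (by rw [← hg]; exact Finset.sum_congr rfl fun j _ => map_smul (f ^ (j : ℕ)) (g j) v) i
    exact (smul_eq_zero.1 (congrArg Subtype.val h2)).resolve_right hv0
  set E := Submodule.span F (Set.range e) with hE
  have hEp : finrank F E = p := by rw [hE, finrank_span_eq_card hli, Fintype.card_fin]
  have hfp : f ^ p = 1 := by rw [hf, ← map_pow, hc.pow_eq, map_one]
  have hpowE : ∀ i : ℕ, (f ^ i) v ∈ E := by
    intro i
    rw [← Nat.mod_add_div i p, pow_add, pow_mul, hfp, one_pow, mul_one]
    exact Submodule.subset_span ⟨⟨i % p, Nat.mod_lt _ hc.hp.pos⟩, rfl⟩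
  have hEa : ∀ w ∈ E, σ a w ∈ E := by
    intro w hw
    induction hw using Submodule.span_induction with
    | mem x hx =>
      obtain ⟨i, rfl⟩ := hx
      show f ((f ^ (i : ℕ)) v) ∈ E
      rw [← Module.End.mul_apply, ← pow_succ']
      exact hpowE _
    | zero => simp
    | add x y _ _ hx hy => rw [map_add]; exact E.add_mem hx hy
    | smul c x _ hx => rw [map_smul]; exact E.smul_mem c hx
  have hER : ∀ x ∈ R, ∀ w ∈ E, σ x w ∈ E := by
    intro x hx w hw
    induction hw using Submodule.span_induction with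
    | mem y hy =>
      obtain ⟨i, rfl⟩ := hy
      show σ x ((f ^ (i : ℕ)) v) ∈ E
      rw [hf, ← map_pow, ← rep_self_mul_apply,
        show x * a ^ (i : ℕ) = a ^ (i : ℕ) * ((a ^ (i : ℕ))⁻¹ * x * a ^ (i : ℕ)) by group,
        rep_self_mul_apply, hvχ _ (inv_conj_mem_of_mem_normalizer (pow_mem hc.normalizes _) hx), map_smul,
        map_pow]
      exact E.smul_mem _ (hpowE _)
    | zero => simp
    | add y y' _ _ hy hy' => rw [map_add]; exact E.add_mem hy hy'
    | smul c y _ hy => rw [map_smul]; exact E.smul_mem c hy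
  -- the rank of `f - 1`
  set I := LinearMap.range (f - 1) with hI
  set J := E.map (f - 1) with hJ
  have hJI : J ≤ I := LinearMap.map_le_range
  have hJE : J ≤ E := by
    rintro _ ⟨w, hw, rfl⟩
    exact E.sub_mem (hEa w hw) hw
  have hEJ : E ≤ J ⊔ (F ∙ v) := by
    rw [hE, Submodule.span_le]
    rintro _ ⟨i, rfl⟩
    show (f ^ (i : ℕ)) v ∈ J ⊔ (F ∙ v)
    induction (i : ℕ) with
    | zero => exact Submodule.mem_sup_right (by simp)
    | succ n ih =>
      have h2 : (f ^ (n + 1)) v = (f - 1) ((f ^ n) v) + (f ^ n) v := by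
        rw [pow_succ', Module.End.mul_apply, LinearMap.sub_apply, Module.End.one_apply, sub_add_cancel]
      rw [h2]
      exact Submodule.add_mem _ (Submodule.mem_sup_left (Submodule.mem_map_of_mem (hpowE n))) ih
  have hJp : p ≤ finrank F J + 1 := by
    refine (le_of_eq hEp.symm).trans ((Submodule.finrank_mono hEJ).trans ((Submodule.finrank_add_le_finrank_add_finrank _ _).trans ?_))
    exact Nat.add_le_add_left (by rw [finrank_span_singleton hv0]) _
  have hIb : finrank F I ≤ 2 * b := by
    have e1 : f - 1 = LinearMap.baseChange F (cenRep hc a - 1) := by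
      rw [LinearMap.baseChange_sub]
      exact congrArg (f - ·) LinearMap.baseChange_id.symm
    rw [hI, e1]
    refine (finrank_range_baseChange_le _).trans ((Nat.pow_le_pow_iff_right hc.hq.one_lt).1 ?_)
    rw [two_mul, pow_add, ← hcardM]
    have e2 : q ^ finrank (ZMod q) (LinearMap.range (cenRep hc a - 1))
        = Nat.card (LinearMap.range (cenRep hc a - 1)) := by
      rw [Module.natCard_eq_pow_finrank (K := ZMod q) (V := LinearMap.range (cenRep hc a - 1)), Nat.card_zmod]
    rw [e2]
    set M := ⁅T, zpowers a⁆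
    have hMT : M ≤ T := le_normalizer_iff_commutator_le_left.1 (hc.le_normalizer _)
    let ψ : M → LinearMap.range (cenRep hc a - 1) → Prop := fun m x => cenVec hc m (hMT m.2) = x
    have hsurj : ∀ x : LinearMap.range (cenRep hc a - 1), ∃ m : M, ψ m x := by
      rintro ⟨_, w, rfl⟩
      obtain ⟨u, hu, rfl⟩ := exists_cenVec hc w
      refine ⟨⟨⁅a, u⁆, by
        show ⁅a, u⁆ ∈ ⁅T, zpowers a⁆
        rw [commutator_comm]
        exact commutator_mem_commutator (mem_zpowers a) hu⟩, ?_⟩
      show cenVec hc ⁅a, u⁆ _ = (cenRep hc a - 1) (cenVec hc u hu)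
      rw [LinearMap.sub_apply, Module.End.one_apply, cenRep_apply, eq_sub_iff_add_eq, cenVec, cenVec,
        cenVec, ← CfsgLib.PLength.ElemNormal.vec_mul]
      congr 1
      refine Subtype.ext ?_
      show QuotientGroup.mk' (centerIn T) ⁅a, u⁆ * QuotientGroup.mk' (centerIn T) u = _
      rw [← map_mul, commutatorElement_def, inv_mul_cancel_right]
    choose g hg using hsurj
    refine Nat.card_le_card_of_injective (fun x => ((g x : M) : M ⧸ center M)) fun x y hxy => Subtype.ext ?_
    rw [← hg x, ← hg y, cenVec, cenVec]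
    refine congrArg hc.elemNormal_center.vec (Subtype.ext (QuotientGroup.eq.2 ?_))
    exact hcen _ ((g x)⁻¹ * g y).2 fun u hu =>
      congrArg Subtype.val (Subgroup.mem_center_iff.1 (QuotientGroup.eq.1 hxy) ⟨u, hu⟩)
  have hqb : 2 * b ≤ q ^ b := pow_add_one_ne hc.hq.two_le hb
  have hJI' : J = I := Submodule.eq_of_le_of_finrank_le hJI (by omega)
  have hp2 : p = 2 * b + 1 := by
    have := Submodule.finrank_mono hJI
    omega
  -- so everything is the orbit
  have hfE : ∀ w, f w - w ∈ E := fun w => hJE (hJI'.ge ⟨w, rfl⟩)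
  let U : Subgroup G :=
    { carrier := {g | (∀ w ∈ E, σ g w ∈ E) ∧ ∀ w, σ g w - w ∈ E}
      one_mem' := ⟨fun w hw => by simpa using hw, fun w => by simp⟩
      mul_mem' := fun {x y} hx hy => ⟨fun w hw => by rw [rep_self_mul_apply]; exact hx.1 _ (hy.1 w hw),
        fun w => by
          rw [rep_self_mul_apply, ← sub_add_sub_cancel (σ x (σ y w)) (σ y w) w]
          exact E.add_mem (hx.2 _) (hy.2 _)⟩
      inv_mem' := fun {x} hx => by
        have h2 : ∀ w, σ x⁻¹ w - w ∈ E := fun w => by
          have h3 := hx.2 (σ x⁻¹ w)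
          rw [rep_self_apply_inv] at h3
          rw [← neg_sub]
          exact E.neg_mem h3
        exact ⟨fun w hw => by
          have h3 := E.add_mem (h2 w) hw
          rwa [sub_add_cancel] at h3, h2⟩ }
  have haU : a ∈ U := ⟨hEa, hfE⟩
  have hLU : L ≤ U := fixGroup_le_iff.2 ⟨haU, fun x hx => by
    have h2 : x * a * x⁻¹ ∈ U := by
      refine ⟨fun w hw => ?_, fun w => ?_⟩
      · rw [rep_self_mul_apply, rep_self_mul_apply]
        exact hER x hx _ (hEa _ (hER _ (inv_mem hx) w hw))
      · rw [rep_self_mul_apply, rep_self_mul_apply]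
        conv => arg 2; arg 2; rw [← rep_self_apply_inv σ x w]
        rw [← map_sub]
        exact hER x hx _ (hfE _)
    rw [commutatorElement_def]
    exact mul_mem h2 (inv_mem haU)⟩
  have htop := sum_mem_of_trivial_mod hσfix hLK fun g hg w => (hLU hg).2 w
  have hdim : finrank (ZMod q) hc.elemNormal_center.Space = p := by
    rw [← Module.finrank_baseChange (R := F), ← finrank_top, ← htop, hEp]
  obtain ⟨d, hd⟩ := h.exists_square
  rw [← card_space hc, card_space_eq_pow hc, hdim] at hd
  obtain ⟨j, -, hj⟩ := (Nat.dvd_prime_pow hc.hq).1 (hd ▸ dvd_mul_right d d : d ∣ q ^ p)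
  rw [hj, ← pow_add] at hd
  have := Nat.pow_right_injective hc.hq.two_le hd
  omega

end CfsgLib.FixedFree
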