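import Cfsg.Agent.Lib.FixedFree.CriticalPart
import Cfsg.Agent.Lib.FixedFree.ClassTwo
import Cfsg.Agent.Lib.FixedFree.FreeOrbit
import Mathlib.GroupTheory.Subgroup.Centralizer
import Mathlib.GroupTheory.Index

/-!
# An element of odd prime-power order without fixed points

The irreducible configuration behind the theorem of Shult and Gross: a minimal moved `q`-group on
which `x` fixes nothing cannot act faithfully and irreducibly with `x` fixing no vector.
-/

set_option autoImplicit false

namespace CfsgLib.FixedFree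

open Module Subgroup CfsgLib.HallHigman
open scoped commutatorElement

universe u v w

section Order

variable {G : Type w} [Group G] [Finite G]

/-- Modulo the centre of a minimal moved subgroup the powers of `x` act freely. -/
theorem orderOf_dvd_center_quotient {p q n : ℕ} (hp : p.Prime) [Fact q.Prime] {Q : Subgroup G} {x : G}
    (h : MinMoved Q x (x ^ p ^ (n - 1))) (hQ : IsPGroup q Q) (hord : orderOf x = p ^ n) :
    p ^ n ∣ Nat.card (Q ⧸ center Q) - 1 := by
  let ν : zpowers x →* MulAut Q :=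
    Q.normalizerMonoidHom.comp (inclusion (zpowers_le.2 h.normalizes))
  let φ : zpowers x →* MulAut (Q ⧸ center Q) :=
    { toFun := fun c => QuotientGroup.congr (center Q) (center Q) (ν c)
        (Subgroup.characteristic_iff_map_eq.1 inferInstance (ν c))
      map_one' := by
        refine MulEquiv.ext fun y => ?_
        induction y using QuotientGroup.induction_on with
        | _ g => simp
      map_mul' := fun a b => by
        refine MulEquiv.ext fun y => ?_
        induction y using QuotientGroup.induction_on with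
        | _ g =>
          show ((ν (a * b) g : Q) : Q ⧸ center Q) = ((ν a (ν b g) : Q) : Q ⧸ center Q)
          rw [map_mul, MulAut.mul_apply] }
  have hdvd := card_dvd_of_free φ fun c hc y hy => by
    induction y using QuotientGroup.induction_on with
    | _ g =>
      have hg : ((ν c g)⁻¹ * g : Q) ∈ center Q := QuotientGroup.eq.1 hy
      obtain ⟨i, hi⟩ := mem_powers_iff_mem_zpowers.2 c.2
      have hi' : (c : G) = x ^ (i % p ^ n) := by rw [← hord, pow_mod_orderOf]; exact hi.symm
      have hpos : 0 < i % p ^ n := by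
        by_contra h0
        rw [Nat.le_zero.1 (not_lt.1 h0), pow_zero] at hi'
        exact hc (Subtype.ext hi')
      refine (QuotientGroup.eq_one_iff g).2 (mem_center_iff.2 fun k => Subtype.ext ?_)
      refine h.mem_center_of_fixed_coset hQ (y := (c : G)) c.2 ?_ g.2 ?_ k k.2
      · rw [hi']
        exact pow_mem_zpowers_of_pos_lt hp (hord ▸ pow_orderOf_eq_one x) hpos
          (Nat.mod_lt _ (pow_pos hp.pos _))
      · intro t ht
        have hg' : ((g : Q)⁻¹ * ν c g) ∈ center Q := by
          have := inv_mem hg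
          rwa [mul_inv_rev, inv_inv] at this
        exact congrArg Subtype.val (mem_center_iff.1 hg' ⟨t, ht⟩)
  rwa [Nat.card_zpowers, hord] at hdvd

end Order

variable {K : Type u} [Field K] [IsAlgClosed K] {V : Type v} [AddCommGroup V] [Module K V]
  [FiniteDimensional K V] {G : Type w} [Group G] [Finite G]

/-- The data of an element `x` of period `p ^ n` fixing nothing on `Q` and on `V`. -/
structure PrimePowerHyp (ρ : Representation K G V) (Q : Subgroup G) (x : G) (p q n : ℕ) : Prop where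
  isPGroup : IsPGroup q Q
  normalizes : x ∈ normalizer (Q : Set G)
  pow_eq : x ^ p ^ n = 1
  one_le : 1 ≤ n
  noFixed : NoFixed ρ (zpowers x)
  fixQ : ∀ g ∈ Q, x * g = g * x → g = 1

/-- The configuration is impossible. -/
theorem false_of_irreducible [Nontrivial V] {ρ : Representation K G V} {Q : Subgroup G} {x : G}
    {p q n : ℕ} (hp : p.Prime) (hp2 : p ≠ 2) (hq : q.Prime) (hqK : (q : K) ≠ 0)
    (hinj : Function.Injective ρ) (H : PrimePowerHyp ρ Q x p q n) (h : MinMoved Q x (x ^ p ^ (n - 1)))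
    (hirr : ∀ W : Submodule K V, (∀ g ∈ Q, ∀ w ∈ W, ρ g w ∈ W) → (∀ w ∈ W, ρ x w ∈ W) →
      W = ⊥ ∨ W = ⊤) : False := by
  classical
  have := Fact.mk hq
  obtain ⟨hQ, hxQ, hxP, hn, hfix, hC⟩ := H
  set x₀ := x ^ p ^ (n - 1) with hx₀
  -- the order of `x`
  have hord : orderOf x = p ^ n := by
    have := Fact.mk hp
    conv_rhs => rw [← Nat.sub_add_cancel hn]
    refine orderOf_eq_prime_pow (fun e => ?_) (by rw [Nat.sub_add_cancel hn]; exact hxP)
    obtain ⟨g, hg, hne⟩ := h.moved
    exact hne (by rw [hx₀, e, one_mul, mul_one])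
  by_cases hab : ∀ g ∈ Q, ∀ g' ∈ Q, g * g' = g' * g
  · have := le_deg_of_abelian ρ hinj hp h hxP hirr hab
    have := deg_lt_of_noFixed (pow_pos hp.pos n) hxP hfix
    omega
  -- a weight of the centre
  set Z := centerIn Q with hZ
  have hZQ : Z ≤ Q := centerIn_le Q
  have hZc : ∀ z ∈ Z, ∀ g ∈ Q, g * z = z * g := fun z hz g hg => (mem_centerIn.1 hz).2 g hg
  have hxZ : x ∈ normalizer (Z : Set G) := mem_normalizer_of_conj_mem fun z hz =>
    mem_centerIn.2 ⟨conj_mem_of_mem_normalizer hxQ (hZQ hz), fun g hg => by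
      show g * _ = _ * g
      have := hZc z hz _ (inv_conj_mem_of_mem_normalizer hxQ hg)
      calc g * (x * z * x⁻¹) = x * ((x⁻¹ * g * x) * z) * x⁻¹ := by group
        _ = x * (z * (x⁻¹ * g * x)) * x⁻¹ := by rw [this]
        _ = x * z * x⁻¹ * g := by group⟩
  have hZne : Z ≠ Q := fun e => hab fun g hg g' hg' => hZc g' (e.symm ▸ hg') g hg
  have hZfix := h.minimal Z hZQ hxZ hZne
  have hDZ : ∀ u ∈ Q, ∀ t ∈ Q, ⁅u, t⁆ ∈ Z := fun u hu t ht =>
    have hd := h.derived_central hQ _ (commutator_mem_commutator hu ht)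
    mem_centerIn.2 ⟨hd.1, hd.2⟩
  obtain ⟨v₀, χ, hv₀, hχ⟩ := exists_common_eigvec ρ Z fun a ha b hb => hZc b hb a (hZQ ha)
  set W := charSpace ρ Z χ with hW
  have hWb : W ≠ ⊥ := (Submodule.ne_bot_iff _).2 ⟨v₀, hχ, hv₀⟩
  have hst : x₀ ∈ charStabilizer Z χ := ⟨pow_mem hxZ _, fun z hz => by
    rw [mul_assoc, ← hZfix z hz, inv_mul_cancel_left]⟩
  have hex : ∃ m, x ^ p ^ m ∈ charStabilizer Z χ := ⟨n - 1, hst⟩
  set m := Nat.find hex
  have hm : m ≤ n - 1 := Nat.find_min' hex hst
  set o := p ^ m with ho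
  have ho0 : 0 < o := pow_pos hp.pos m
  set a := x ^ o with ha
  have hast : a ∈ charStabilizer Z χ := Nat.find_spec hex
  have hnot : ∀ i, 0 < i → i < o → x ^ i ∉ charStabilizer Z χ := by
    intro i hi hio hsti
    have hiP : i < p ^ n := lt_of_lt_of_le hio (Nat.pow_le_pow_right hp.pos (by omega))
    obtain ⟨e, -, hei, hmem⟩ := exists_pow_prime_mem_zpowers hp hxP hi hiP
    have hme : m ≤ e := Nat.find_min' hex (zpowers_le.2 hsti hmem)
    have : o ≤ p ^ e := Nat.pow_le_pow_right hp.pos hme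
    omega
  set P := p ^ (n - m) with hP
  have hP1 : 1 < P := Nat.one_lt_pow (by omega) hp.one_lt
  have haP : a ^ P = 1 := by
    rw [ha, ho, hP, ← pow_mul, ← pow_add, show m + (n - m) = n by omega, hxP]
  have hax₀ : a ^ p ^ (n - m - 1) = x₀ := by
    rw [ha, ho, hx₀, ← pow_mul, ← pow_add]; congr 2; omega
  have haQ : a ∈ normalizer (Q : Set G) := pow_mem hxQ o
  have hx₀Q : x₀ ∈ normalizer (Q : Set G) := pow_mem hxQ _
  have hWQ : ∀ g ∈ Q, ∀ w ∈ W, ρ g w ∈ W := fun g hg w hw z hz => by
    rw [← rep_self_mul_apply, ← hZc z hz g hg, rep_self_mul_apply, hw z hz, map_smul]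
  have hWa : ∀ w ∈ W, ρ a w ∈ W := fun w hw => charSpace_map_mem hast hw
  -- `a` fixes nothing in `W`
  have hWfix : ∀ w ∈ W, ρ a w = w → w = 0 := by
    intro w hw haw
    have hsum : ρ x (∑ i ∈ Finset.range o, (ρ x ^ i) w) = ∑ i ∈ Finset.range o, (ρ x ^ i) w := by
      have h1 := Finset.sum_range_succ' (fun i => (ρ x ^ i) w) o
      rw [Finset.sum_range_succ, ← map_pow, ← ha, haw, pow_zero, Module.End.one_apply] at h1
      rw [map_sum, Finset.sum_congr rfl (fun i _ => show ρ x ((ρ x ^ i) w) = (ρ x ^ (i + 1)) w by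
        rw [pow_succ', Module.End.mul_apply])]
      exact add_right_cancel h1.symm
    have h0 := hfix _ fun g hg => by
      obtain ⟨i, rfl⟩ := mem_powers_iff_mem_zpowers.2 hg
      induction i with
      | zero => simp
      | succ i ih =>
        show ρ (x ^ (i + 1)) _ = _
        rw [pow_succ', rep_self_mul_apply, ih (pow_mem (mem_zpowers x) i), hsum]
    rw [Finset.sum_range] at h0
    exact congrArg Subtype.val
      (charSpace_translates ρ Z hxZ χ hnot (le_of_eq hW) (fun _ => ⟨w, hw⟩) h0 ⟨0, ho0⟩)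
  -- the radical of the pairing on `W`
  let C₀ : Subgroup G :=
    { carrier := {u | u ∈ Q ∧ ∀ t ∈ Q, ∀ w ∈ W, ρ ⁅u, t⁆ w = w}
      one_mem' := ⟨one_mem Q, fun t _ w _ => by simp⟩
      mul_mem' := fun {u v} hu hv => ⟨mul_mem hu.1 hv.1, fun t ht w hw => by
        have e : ⁅u * v, t⁆ = ⁅v, t⁆ * ⁅u, t⁆ := by
          have h1 := hZc _ (hDZ v hv.1 t ht) u hu.1
          calc ⁅u * v, t⁆ = u * ⁅v, t⁆ * u⁻¹ * ⁅u, t⁆ := by simp only [commutatorElement_def]; group
            _ = ⁅v, t⁆ * ⁅u, t⁆ := by rw [h1, mul_inv_cancel_right]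
        rw [e, rep_self_mul_apply, hu.2 t ht w hw, hv.2 t ht w hw]⟩
      inv_mem' := fun {u} hu => ⟨inv_mem hu.1, fun t ht w hw => by
        have e : ⁅u⁻¹, t⁆ = ⁅u, t⁆⁻¹ := by
          have h1 := hZc _ (inv_mem (hDZ u hu.1 t ht)) u⁻¹ (inv_mem hu.1)
          calc ⁅u⁻¹, t⁆ = u⁻¹ * ⁅u, t⁆⁻¹ * u := by simp only [commutatorElement_def]; group
            _ = ⁅u, t⁆⁻¹ := by rw [h1, inv_mul_cancel_right]
        rw [e]
        conv_lhs => rw [← hu.2 t ht w hw]
        exact rep_inv_apply_self ρ _ w⟩ }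
  have hC₀Q : C₀ ≤ Q := fun u hu => hu.1
  have hZC₀ : Z ≤ C₀ := fun z hz => ⟨hZQ hz, fun t ht w _ => by
    rw [commutatorElement_eq_one_iff_mul_comm.2 (hZc z hz t ht).symm, map_one, Module.End.one_apply]⟩
  have haC₀ : a ∈ normalizer (C₀ : Set G) := mem_normalizer_of_conj_mem fun u hu =>
    ⟨conj_mem_of_mem_normalizer haQ hu.1, fun t ht w hw => by
      have e : ⁅a * u * a⁻¹, t⁆ = a * ⁅u, a⁻¹ * t * a⁆ * a⁻¹ := by
        simp only [commutatorElement_def]; group
      rw [e, rep_self_mul_apply, rep_self_mul_apply,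
        hu.2 _ (inv_conj_mem_of_mem_normalizer haQ ht) _ (charSpace_map_mem (inv_mem hast) hw),
        rep_self_apply_inv]⟩
  have hx₀C₀ : x₀ ∈ normalizer (C₀ : Set G) := hax₀ ▸ pow_mem haC₀ _
  -- it acts by scalars
  have hscal : ∀ u ∈ C₀, ∃ c : K, ∀ w ∈ W, ρ u w = c • w := by
    have hC₀comm : ∀ b ∈ C₀, ∀ c ∈ C₀, ∀ w ∈ W, ρ (b * c) w = ρ (c * b) w := fun b hb c hc w hw => by
      rw [show b * c = ⁅b, c⁆ * (c * b) by simp only [commutatorElement_def]; group, rep_self_mul_apply,
        hb.2 c hc.1 _ (by rw [rep_self_mul_apply]; exact hWQ _ hc.1 _ (hWQ _ hb.1 w hw))]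
    have hcomm : ∀ u ∈ C₀, ∀ w ∈ W, ρ ⁅u, x₀⁆ w = w := by
      intro u hu
      have hmem : ⁅u, x₀⁆ ∈ C₀ := by
        rw [commutatorElement_def, show u * x₀ * u⁻¹ * x₀⁻¹ = u * (x₀ * u⁻¹ * x₀⁻¹) by group]
        exact mul_mem hu (conj_mem_of_mem_normalizer hx₀C₀ (inv_mem hu))
      refine fix_of_weights ρ C₀ (fun z hz w hw => hWQ z hz.1 w hw) hC₀comm hmem ?_ fun v ψ hvW hv0 hvψ => ?_
      · obtain ⟨k, hk⟩ := IsPGroup.iff_orderOf.1 hQ (⟨_, hC₀Q hmem⟩ : Q)
        rw [Subgroup.orderOf_mk] at hk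
        rw [hk, Nat.cast_pow]
        exact pow_ne_zero _ hqK
      · refine fix_commutator hvψ ?_ hu
        by_contra hst'
        have hnot' : ∀ i, 0 < i → i < P → a ^ i ∉ charStabilizer C₀ ψ := fun i hi hiP hsti => by
          refine hst' (hax₀ ▸ zpowers_le.2 hsti ?_)
          exact pow_mem_zpowers_of_pos_lt hp (hP ▸ haP) hi hiP
        have hs : ∑ i ∈ Finset.range P, (ρ a ^ i) v = 0 := by
          refine hWfix _ (Submodule.sum_mem _ fun i _ => ?_) ?_
          · clear * - hWa hvW
            induction i with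
            | zero => simpa using hvW
            | succ i ih => rw [pow_succ', Module.End.mul_apply]; exact hWa _ ih
          · have h1 := Finset.sum_range_succ' (fun i => (ρ a ^ i) v) P
            rw [Finset.sum_range_succ, ← map_pow, haP, map_one, pow_zero, Module.End.one_apply] at h1
            rw [map_sum, Finset.sum_congr rfl (fun i _ => show ρ a ((ρ a ^ i) v) = (ρ a ^ (i + 1)) v by
              rw [pow_succ', Module.End.mul_apply])]
            exact add_right_cancel h1.symm
        rw [Finset.sum_range] at hs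
        exact hv0 (congrArg Subtype.val (charSpace_translates ρ C₀ haC₀ ψ hnot'
          (W := K ∙ v) ((Submodule.span_singleton_le_iff_mem _ _).2 hvψ)
          (fun _ => ⟨v, Submodule.mem_span_singleton_self v⟩) hs ⟨0, by omega⟩))
    intro u hu
    have hcop : (Nat.card (zpowers x₀)).Coprime (Nat.card C₀) :=
      h.coprime.coprime_dvd_right (card_dvd_of_le hC₀Q)
    have hsol : Group.IsSolvable (zpowers x₀) := by
      open scoped IsMulCommutative in exact inferInstance
    obtain ⟨k, hk, c, hc, rfl⟩ := Coprime.exists_mul_eq' (zpowers_le.2 hx₀C₀) hcop (Or.inl hsol) hu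
    have hcQ := hC₀Q hc.1
    have hcZ : c ∈ Z := by
      refine mem_centerIn.2 ⟨hcQ, h.mem_center_of_fixed_coset hQ h.mem_zpowers (mem_zpowers x₀) hcQ
        fun g _ => ?_⟩
      rw [mem_centralizer_iff.1 hc.2 x₀ (mem_zpowers x₀), mul_inv_cancel_right, inv_mul_cancel,
        one_mul, mul_one]
    have hkW : ∀ w ∈ W, ρ k w = w := by
      let M : Subgroup G :=
        { carrier := {g | ∀ w ∈ W, ρ g w = w}
          one_mem' := fun w _ => by simp
          mul_mem' := fun {b c} hb hc w hw => by rw [rep_self_mul_apply, hc w hw, hb w hw]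
          inv_mem' := fun {b} hb w hw => by
            conv_lhs => rw [← hb w hw]
            exact rep_inv_apply_self ρ b w }
      refine (commutator_le.2 fun b hb g hg => ?_ : ⁅C₀, zpowers x₀⁆ ≤ M) hk
      obtain ⟨l, rfl⟩ := mem_powers_iff_mem_zpowers.2 hg
      clear hg hk hu
      induction l generalizing b with
      | zero => simp
      | succ l ih =>
        show ⁅b, x₀ ^ (l + 1)⁆ ∈ M
        rw [show ⁅b, x₀ ^ (l + 1)⁆ = ⁅b, x₀⁆ * (x₀ * ⁅b, x₀ ^ l⁆ * x₀⁻¹) by
          simp only [commutatorElement_def, pow_succ']; group]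
        refine mul_mem (fun w hw => hcomm b hb w hw) fun w hw => ?_
        rw [rep_self_mul_apply, rep_self_mul_apply, ih b hb _ (charSpace_map_mem (inv_mem hst) hw),
          rep_self_apply_inv]
    exact ⟨χ c, fun w hw => by
      rw [rep_self_mul_apply, (hw : w ∈ charSpace ρ Z χ) c hcZ, map_smul, hkW w hw]⟩
  -- the image on `W`
  set S := Q ⊔ zpowers a
  have hQS : Q ≤ S := le_sup_left
  have haS : a ∈ S := mem_sup_right (mem_zpowers a)
  have hWS := invariant_of_closure ρ Q a W hWQ hWa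
  set σ₀ := restrictRep ρ S W hWS
  set π := QuotientGroup.mk' σ₀.ker
  let σ : Representation K (S ⧸ σ₀.ker) W := QuotientGroup.lift σ₀.ker σ₀ le_rfl
  have hσ : ∀ t, σ (π t) = σ₀ t := fun t => QuotientGroup.lift_mk' _ _ t
  have hσinj : Function.Injective σ := by
    intro b c hbc
    obtain ⟨b, rfl⟩ := QuotientGroup.mk'_surjective σ₀.ker b
    obtain ⟨c, rfl⟩ := QuotientGroup.mk'_surjective σ₀.ker c
    rw [hσ, hσ] at hbc
    exact QuotientGroup.eq.2 (MonoidHom.mem_ker.2 (by
      rw [map_mul, ← hbc, ← map_mul, inv_mul_cancel, map_one]))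
  let f : Q →* S ⧸ σ₀.ker := π.comp (inclusion hQS)
  have hfS : ∀ (u : Q) (w : W), (σ (f u) w : V) = ρ (u : G) w := fun u w => by
    show (σ (π _) w : V) = _
    rw [hσ]; rfl
  have hf1 : ∀ u : Q, f u = 1 ↔ ∀ w ∈ W, ρ (u : G) w = w := fun u =>
    ⟨fun e w hw => by rw [← hfS u ⟨w, hw⟩, e, map_one]; rfl,
      fun e => hσinj (LinearMap.ext fun w => Subtype.ext (by rw [hfS, e _ w.2, map_one]; rfl))⟩
  set Q' := f.range
  have hcen : ∀ u : Q, f.rangeRestrict u ∈ center Q' ↔ (u : G) ∈ C₀ := by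
    intro u
    rw [mem_center_iff]
    refine ⟨fun e => ⟨u.2, fun t ht => (hf1 ⁅u, ⟨t, ht⟩⁆).1 ?_⟩, fun hu g => ?_⟩
    · rw [map_commutatorElement, commutatorElement_eq_one_iff_mul_comm]
      exact congrArg Subtype.val (e (f.rangeRestrict ⟨t, ht⟩)).symm
    · obtain ⟨g, rfl⟩ := f.rangeRestrict_surjective g
      refine Subtype.ext (Eq.symm ?_)
      show f u * f g = f g * f u
      rw [← commutatorElement_eq_one_iff_mul_comm, ← map_commutatorElement, hf1]
      exact hu.2 g g.2
  have hWn : Nontrivial W := Submodule.nontrivial_iff_ne_bot.2 hWb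
  have hSQ : ScalarQ σ Q' q :=
    { isPGroup := hQ.of_surjective f.rangeRestrict f.rangeRestrict_surjective
      classTwo := fun b c => by
        obtain ⟨b, rfl⟩ := f.rangeRestrict_surjective b
        obtain ⟨c, rfl⟩ := f.rangeRestrict_surjective c
        rw [← map_commutatorElement, hcen]
        exact hZC₀ (hDZ b b.2 c c.2)
      scalar := fun z hz => by
        obtain ⟨u, rfl⟩ := f.rangeRestrict_surjective z
        obtain ⟨c, hc⟩ := hscal u ((hcen u).1 hz)
        exact ⟨c, LinearMap.ext fun w => Subtype.ext (by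
          show (σ (f u) w : V) = _
          rw [hfS, hc _ w.2]; rfl)⟩
      faithful := fun s hs => Subtype.ext (hσinj (by rw [hs, OneMemClass.coe_one, map_one]))
      nonabelian := fun e => by
        obtain ⟨v, hv, hv0⟩ := Submodule.exists_mem_ne_zero_of_ne_bot hWb
        refine hv0 (eq_zero_of_fixed ρ hinj h hirr fun g hg => ?_)
        let M : Subgroup G :=
          { carrier := {g | ∀ w ∈ W, ρ g w = w}
            one_mem' := fun w _ => by simp
            mul_mem' := fun {b c} hb hc w hw => by rw [rep_self_mul_apply, hc w hw, hb w hw]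
            inv_mem' := fun {b} hb w hw => by
              conv_lhs => rw [← hb w hw]
              exact rep_inv_apply_self ρ b w }
        refine (commutator_le.2 fun b hb l hl => ?_ : ⁅Q, zpowers x₀⁆ ≤ M) (h.commutator_eq.symm ▸ hg) v hv
        obtain ⟨c, hc⟩ := hscal b ((hcen ⟨b, hb⟩).1 (e ▸ mem_top _))
        intro w hw
        have hlinv : ρ l⁻¹ w ∈ W := charSpace_map_mem (inv_mem (zpowers_le.2 hst hl)) hw
        show ρ (b * l * b⁻¹ * l⁻¹) w = w
        have hb' : ρ b⁻¹ (ρ l⁻¹ w) ∈ W := hWQ _ (inv_mem hb) _ hlinv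
        rw [rep_self_mul_apply, rep_self_mul_apply, rep_self_mul_apply,
          hc _ (charSpace_map_mem (zpowers_le.2 hst hl) hb'), ← map_smul, ← hc _ hb',
          rep_self_apply_inv, rep_self_apply_inv] }
  set y := π ⟨a, haS⟩ with hy
  have hyconj : ∀ (u : Q) (i : ℕ), y ^ i * f u * (y ^ i)⁻¹
      = f ⟨a ^ i * u * (a ^ i)⁻¹, conj_mem_of_mem_normalizer (pow_mem haQ i) u.2⟩ := fun u i => by
    show (π _) ^ i * π _ * ((π _) ^ i)⁻¹ = π _
    rw [← map_pow, ← map_inv, ← map_mul, ← map_mul]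
    exact congrArg π (Subtype.ext (by simp))
  have hyQ : y ∈ normalizer (Q' : Set (S ⧸ σ₀.ker)) := mem_normalizer_of_conj_mem fun g hg => by
    obtain ⟨u, rfl⟩ := hg
    have := hyconj u 1
    rw [pow_one] at this
    exact ⟨_, this.symm⟩
  have hyP : y ^ P = 1 := by
    rw [hy, ← map_pow]
    convert map_one π
    exact Subtype.ext (by simpa using haP)
  have hyfix : NoFixed σ (zpowers y) := fun w hw => Subtype.ext (hWfix w w.2 (by
    conv_rhs => rw [← show σ y w = w from hw y (mem_zpowers y)]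
    rw [hy, hσ]; rfl))
  obtain ⟨b, hb, hPb, hcard⟩ := hSQ.deg_bound hyQ hP1 (fun s _ => by rw [hyP]; exact Commute.one_left s)
    (by
      intro s i hi hiP hs
      obtain ⟨u, rfl⟩ := f.rangeRestrict_surjective s
      rw [hcen]
      set v : Q := u⁻¹ * ⟨a ^ i * u * (a ^ i)⁻¹, conj_mem_of_mem_normalizer (pow_mem haQ i) u.2⟩ with hv
      have hvC : (v : G) ∈ C₀ := by
        refine (hcen v).1 (mem_center_iff.2 fun g => Subtype.ext ?_)
        show (g : S ⧸ σ₀.ker) * f v = f v * g
        have h1 := hs g g.2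
        show Commute (g : S ⧸ σ₀.ker) (f v)
        rw [hv, map_mul, map_inv, ← hyconj]
        exact h1
      -- so `x₀` fixes the coset
      have hpow : ∀ k : ℕ, (u : G)⁻¹ * ((a ^ i) ^ k * u * ((a ^ i) ^ k)⁻¹) ∈ C₀ := by
        intro k
        induction k with
        | zero => simp
        | succ k ih =>
          have hvC' : (u : G)⁻¹ * (a ^ i * u * (a ^ i)⁻¹) ∈ C₀ := hvC
          have h2 := mul_mem hvC' (conj_mem_of_mem_normalizer (pow_mem haC₀ i) ih)
          convert h2 using 1
          rw [pow_succ']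
          group
      have hxi : x₀ ∈ zpowers (a ^ i) := hax₀ ▸ pow_mem_zpowers_of_pos_lt hp (hP ▸ haP) hi hiP
      have hall : ∀ g ∈ zpowers x₀, (u : G)⁻¹ * g * u * g⁻¹ ∈ C₀ := fun g hg => by
        obtain ⟨k, rfl⟩ := mem_powers_iff_mem_zpowers.2 (zpowers_le.2 hxi hg)
        have := hpow k
        simpa [mul_assoc] using this
      obtain ⟨c, hc, huc⟩ := Coprime.exists_mem_centralizer_of_coset h.zpowers_le
        (zpowers_le.2 hx₀C₀) hC₀Q h.coprime
        (Or.inl (by open scoped IsMulCommutative in exact inferInstance)) u.2 hall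
      have hucQ : (u : G) * c ∈ Q := mul_mem u.2 (hC₀Q hc)
      have hucZ : (u : G) * c ∈ Z := mem_centerIn.2 ⟨hucQ, h.mem_center_of_fixed_coset hQ h.mem_zpowers
        (mem_zpowers x₀) hucQ fun g _ => by
          rw [mem_centralizer_iff.1 huc x₀ (mem_zpowers x₀), mul_inv_cancel_right, inv_mul_cancel,
            one_mul, mul_one]⟩
      simpa using mul_mem (hZC₀ hucZ) (inv_mem hc))
    (fun W' hW' _ _ => lt_of_le_of_lt (deg_restrict_le hW')
      (deg_lt_of_noFixed (by omega) hyP hyfix))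
  -- the index of the radical
  have hindex : C₀.relIndex Q = q ^ b * q ^ b := by
    rw [← hcard, ← Subgroup.index_eq_card, ← Subgroup.index_comap_of_surjective _ f.rangeRestrict_surjective,
      Subgroup.relIndex]
    congr 1
    ext u
    exact ((hcen u).symm)
  -- the elements in all the other translates
  have hcount : ∃ u ∈ Q, (∀ i, 0 < i → i < o → x ^ i * u * (x ^ i)⁻¹ ∈ C₀) ∧ u ∉ C₀ := by
    by_contra hcon
    push Not at hcon
    let C : Fin (o - 1) → Subgroup G := fun j =>
      C₀.map (MulAut.conj (x ^ ((j : ℕ) + 1))⁻¹).toMonoidHom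
    set N := Q ⊓ ⨅ j, C j
    have hN : ∀ u ∈ N, ∀ i, 0 < i → i < o → x ^ i * u * (x ^ i)⁻¹ ∈ C₀ := fun u hu i hi hio => by
      obtain ⟨v, hv, e⟩ := (Subgroup.mem_iInf.1 hu.2 ⟨i - 1, by omega⟩ : u ∈ C ⟨i - 1, by omega⟩)
      rw [show i - 1 + 1 = i by omega] at e
      rw [← e]
      simp only [MulEquiv.coe_toMonoidHom, MulAut.conj_apply, inv_inv, mul_assoc, mul_inv_cancel_left,
        mul_inv_cancel, mul_one]
      exact hv
    have hall : ∀ u ∈ N, ∀ i : ℕ, x ^ i * u * (x ^ i)⁻¹ ∈ C₀ := by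
      intro u hu i
      have hr : x ^ (i % o) * u * (x ^ (i % o))⁻¹ ∈ C₀ := by
        rcases Nat.eq_zero_or_pos (i % o) with e | e
        · simpa [e] using hcon u hu.1 (hN u hu)
        · exact hN u hu _ e (Nat.mod_lt _ ho0)
      have := conj_mem_of_mem_normalizer (pow_mem haC₀ (i / o)) hr
      convert this using 1
      conv_lhs => rw [← Nat.div_add_mod i o, pow_add, pow_mul, ← ha]
      group
    let U : Submodule K V :=
      { carrier := {v | ∀ u ∈ Q, (∀ i : ℕ, x ^ i * u * (x ^ i)⁻¹ ∈ C₀) → ∀ t ∈ Q, ρ ⁅u, t⁆ v = v}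
        zero_mem' := fun _ _ _ _ _ => map_zero _
        add_mem' := fun {b c} hb hc u hu hu' t ht => by rw [map_add, hb u hu hu' t ht, hc u hu hu' t ht]
        smul_mem' := fun k {b} hb u hu hu' t ht => by rw [map_smul, hb u hu hu' t ht] }
    have hU : U = ⊤ := (hirr U (fun g hg v hv u hu hu' t ht => by
        rw [← rep_self_mul_apply, ← hZc _ (hDZ u hu t ht) g hg, rep_self_mul_apply, hv u hu hu' t ht])
      (fun v hv u hu hu' t ht => by
        have e : ⁅u, t⁆ * x = x * ⁅x⁻¹ * u * x, x⁻¹ * t * x⁆ := by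
          simp only [commutatorElement_def]; group
        rw [← rep_self_mul_apply, e, rep_self_mul_apply,
          hv _ (inv_conj_mem_of_mem_normalizer hxQ hu) (fun i => ?_) _ (inv_conj_mem_of_mem_normalizer hxQ ht)]
        have hinv : x⁻¹ = x ^ (p ^ n - 1) := inv_eq_of_mul_eq_one_right (by
          rw [← pow_succ', Nat.sub_add_cancel (Nat.one_le_pow _ _ hp.pos), hxP])
        convert hu' (i + (p ^ n - 1)) using 1
        rw [pow_add, ← hinv]
        group)).resolve_left fun e => hWb (le_bot_iff.1 (e ▸ fun w hw u hu hu' t ht => by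
          have := hu' 0
          exact (by simpa using this : u ∈ C₀).2 t ht w hw))
    have hNZ : N.subgroupOf Q ≤ center Q := fun u hu => mem_center_iff.2 fun t => Subtype.ext
      (commutatorElement_eq_one_iff_mul_comm.1 (hinj (LinearMap.ext fun v => by
        rw [map_one, Module.End.one_apply]
        exact (hU ▸ Submodule.mem_top : v ∈ U) u u.2 (hall u hu) t t.2))).symm
    have h1 : Nat.card (Q ⧸ center Q) ≤ ∏ j, (C j).relIndex Q := by
      rw [← Subgroup.index_eq_card]
      refine (Nat.le_of_dvd (Nat.pos_of_ne_zero ?_) (Subgroup.index_dvd_of_le hNZ)).trans ?_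
      · exact Subgroup.index_ne_zero_of_finite
      · show N.relIndex Q ≤ _
        rw [Subgroup.inf_relIndex_left]
        exact Subgroup.relIndex_iInf_le C
    have h2 : ∀ j, (C j).relIndex Q = q ^ b * q ^ b := fun j => by
      rw [← hindex]
      conv_lhs => rw [← mem_normalizer_iff_map_conj_eq.1 (inv_mem (pow_mem hxQ ((j : ℕ) + 1)))]
      exact relIndex_map_map_of_injective _ _ (MulAut.conj _).injective
    rw [Finset.prod_congr rfl (fun j _ => h2 j), Finset.prod_const, Finset.card_univ, Fintype.card_fin] at h1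
    obtain ⟨d, hd⟩ := IsPGroup.iff_card.1 (hQ.to_quotient (center Q))
    have hd0 : d ≠ 0 := fun e => hZne (le_antisymm hZQ fun g hg => by
      rw [e, pow_zero, ← Subgroup.index_eq_card, Subgroup.index_eq_one] at hd
      exact mem_centerIn.2 ⟨hg, fun t ht => (congrArg Subtype.val
        (mem_center_iff.1 (hd ▸ mem_top _ : (⟨g, hg⟩ : Q) ∈ center Q) ⟨t, ht⟩) : t * g = g * t)⟩)
    rw [hd, ← pow_add, ← pow_mul, Nat.pow_le_pow_iff_right hq.one_lt] at h1
    have h3 := orderOf_dvd_center_quotient hp h hQ hord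
    rw [hd] at h3
    have h4 := two_mul_mul_dvd_of_dvd_pow_sub_one hp hp2 hq.two_le hb (show 1 ≤ n - m by omega) hPb
      (by rwa [Nat.sub_add_cancel (show m ≤ n by omega)] : p ^ (n - m + m) ∣ q ^ d - 1)
    have h5 := Nat.le_of_dvd (Nat.pos_of_ne_zero hd0) h4
    have h6 : (b + b) * (o - 1) < 2 * b * o := by
      rw [two_mul]; exact Nat.mul_lt_mul_of_pos_left (by omega) (by omega)
    exact absurd (h5.trans h1) (not_le.2 h6)
  -- an element fixed by `x`
  obtain ⟨u, huQ, hu, huC⟩ := hcount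
  obtain ⟨t, ht, w, hw, hne⟩ : ∃ t ∈ Q, ∃ w ∈ W, ρ ⁅u, t⁆ w ≠ w := by
    by_contra hcon
    push Not at hcon
    exact huC ⟨huQ, hcon⟩
  set c := ⁅u, t⁆ with hc
  have hcZ : c ∈ Z := hDZ u huQ t ht
  -- `a` centralises the centre
  have haZ : ∀ z ∈ Z, Commute a z := by
    intro z hz
    have hxa : x * a = a * x := ((Commute.refl x).pow_right o).eq
    let U : Submodule K V :=
      { carrier := {v | ∀ z ∈ Z, ρ (a * z) v = ρ (z * a) v}
        zero_mem' := fun _ _ => by simp
        add_mem' := fun {b c} hb hc z hz => by rw [map_add, map_add, hb z hz, hc z hz]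
        smul_mem' := fun k {b} hb z hz => by rw [map_smul, map_smul, hb z hz] }
    have hWU : W ≤ U := fun v hv z hz => by
      have hav : ρ a v ∈ W := hWa v hv
      rw [rep_self_mul_apply, rep_self_mul_apply, hv z hz, map_smul, hav z hz]
    have hU : U = ⊤ := (hirr U (fun g hg v hv z hz => by
        have hag : a * g * a⁻¹ ∈ Q := conj_mem_of_mem_normalizer haQ hg
        rw [← rep_self_mul_apply, ← rep_self_mul_apply,
          show a * z * g = (a * g * a⁻¹) * (a * z) by
            rw [mul_assoc a z g, ← hZc z hz g hg]; group,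
          show z * a * g = (a * g * a⁻¹) * (z * a) by
            rw [← mul_assoc, hZc z hz _ hag]; group,
          rep_self_mul_apply, rep_self_mul_apply ρ _ (z * a), hv z hz])
      (fun v hv z hz => by
        rw [← rep_self_mul_apply, ← rep_self_mul_apply,
          show a * z * x = x * (a * (x⁻¹ * z * x)) by
            rw [← mul_assoc x a, hxa, mul_assoc a x, mul_assoc x⁻¹, mul_inv_cancel_left, mul_assoc],
          show z * a * x = x * ((x⁻¹ * z * x) * a) by
            rw [mul_assoc z a x, ← hxa, mul_assoc (x⁻¹ * z), mul_assoc x⁻¹, mul_inv_cancel_left],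
          rep_self_mul_apply, rep_self_mul_apply ρ x, hv _ (inv_conj_mem_of_mem_normalizer hxZ hz)]
        )).resolve_left fun e => hWb (le_bot_iff.1 (e ▸ hWU))
    exact hinj (LinearMap.ext fun v => (hU ▸ Submodule.mem_top : v ∈ U) z hz)
  let z : ℕ → G := fun k => Nat.rec 1 (fun _ g => c * (x * g * x⁻¹)) k
  have hz1 : ∀ k, z (k + 1) = c * (x * z k * x⁻¹) := fun k => rfl
  have hz2 : ∀ k, z (k + 1) = z k * (x ^ k * c * (x ^ k)⁻¹) := by
    intro k
    induction k with
    | zero => simp [z]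
    | succ k ih =>
      rw [hz1 (k + 1)]
      conv_lhs => rw [ih]
      rw [show c * (x * (z k * (x ^ k * c * (x ^ k)⁻¹)) * x⁻¹)
          = c * (x * z k * x⁻¹) * (x ^ (k + 1) * c * (x ^ (k + 1))⁻¹) by rw [pow_succ']; group,
        ← hz1]
  have hzZ : ∀ k, z k ∈ Z := by
    intro k
    induction k with
    | zero => exact one_mem Z
    | succ k ih => rw [hz1]; exact mul_mem hcZ (conj_mem_of_mem_normalizer hxZ ih)
  have hzw : ∀ k, 1 ≤ k → k ≤ o → ρ (z k) w = ρ c w := by
    intro k hk
    induction k, hk using Nat.le_induction with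
    | base =>
      intro _
      show ρ (c * (x * 1 * x⁻¹)) w = _
      simp
    | succ k hk ih =>
      intro hko
      rw [hz2, rep_self_mul_apply]
      have hk' : x ^ k * u * (x ^ k)⁻¹ ∈ C₀ := hu k hk (by omega)
      rw [show x ^ k * c * (x ^ k)⁻¹ = ⁅x ^ k * u * (x ^ k)⁻¹, x ^ k * t * (x ^ k)⁻¹⁆ by
          rw [hc]; simp only [commutatorElement_def]; group,
        hk'.2 _ (conj_mem_of_mem_normalizer (pow_mem hxQ k) ht) w hw]
      exact ih (by omega)
  have hzfix : x * z o = z o * x := by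
    refine mul_inv_eq_iff_eq_mul.1 (mul_left_cancel (a := c) ?_)
    rw [← hz1, hz2, ← ha, (haZ c hcZ).eq, mul_inv_cancel_right]
    exact hZc c hcZ _ (hZQ (hzZ o))
  refine hne ?_
  rw [← hzw o ho0 le_rfl, hC _ (hZQ (hzZ o)) hzfix, map_one, Module.End.one_apply]

end CfsgLib.FixedFree
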