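import Cfsg.Agent.Lib.FixedFree.PrimePowerRep
import Cfsg.Agent.Lib.FixedFree.Semidirect
import Cfsg.Agent.Lib.FixedFree.AbelianFitting

/-!
# The power of period `p` of a fixed-point-free `p ^ n`-element is trivial modulo the Fitting subgroup
-/

set_option autoImplicit false

namespace CfsgLib.FixedFree

open Subgroup CfsgLib.HallHigman
open scoped commutatorElement

universe u

variable {X : Type u} [Group X] [Finite X]

/-- The action on the other cores. -/
theorem FpfAction.commute_core_primePower {G : Subgroup X} {x : X} {p n : ℕ} (hp : p.Prime) (hp2 : p ≠ 2)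
    (hn : 1 ≤ n) (hord : orderOf x = p ^ n) (h : FpfAction (zpowers x) G) {q r : ℕ} [hq : Fact q.Prime]
    [hr : Fact r.Prime] (hrq : r ≠ q) {Q : Subgroup X} (hQG : Q ≤ G) (hQ : IsPGroup q Q)
    (hxQ : x ∈ normalizer (Q : Set X)) {s : X} (hs : s ∈ Q) :
    ∀ u ∈ pCoreIn r G, Commute ⁅x ^ p ^ (n - 1), s⁆ u := by
  have := h.normal
  by_cases hPb : pCoreIn r G = ⊥
  · intro u hu
    rw [hPb, mem_bot] at hu
    rw [hu]; exact Commute.one_right _
  by_cases hQb : Q = ⊥
  · intro u _
    rw [hQb, mem_bot] at hs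
    rw [hs, commutatorElement_one_right]; exact Commute.one_left u
  have hne : ∀ {l : ℕ} [Fact l.Prime] {H : Subgroup X}, H ≤ G → IsPGroup l H → H ≠ ⊥ → p ≠ l :=
    fun {l} hl' {H} hH hl hne e => by
      obtain ⟨k, hk⟩ := IsPGroup.iff_card.1 hl
      have hk0 : k ≠ 0 := fun e => hne (card_eq_one.1 (by rw [hk, e, pow_zero]))
      have h1 := h.coprime_le hH
      rw [Nat.card_zpowers, hord, hk, ← e] at h1
      exact hp.ne_one (Nat.eq_one_of_dvd_coprimes h1 (dvd_pow_self p (by omega)) (dvd_pow_self p hk0))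
  have hP : IsPGroup r (pCoreIn r G) := pCoreIn_isPGroup r G
  have hpr : p ≠ r := hne (pCoreIn_le r G) hP hPb
  have hpq : p ≠ q := hne hQG hQ hQb
  have hrA : (Nat.card (zpowers x)).Coprime r := by
    rw [Nat.card_zpowers, hord]
    exact ((Nat.coprime_primes hp hr.out).2 hpr).pow_left n
  let K := AlgebraicClosure (ZMod r)
  have hpK : (p : K) ≠ 0 :=
    natCast_ne_zero_of_coprime K hr.out ((Nat.coprime_primes hp hr.out).2 hpr)
  have hqK : (q : K) ≠ 0 :=
    natCast_ne_zero_of_coprime K hr.out ((Nat.coprime_primes hq.out hr.out).2 hrq.symm)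
  have hfixQ : ∀ g ∈ Q, x * g = g * x → g = 1 := fun g hg hc => by
    have h1 : g ∈ Q ⊓ centralizer (zpowers x : Set X) := ⟨hg, mem_centralizer_iff.2 fun y hy => by
      obtain ⟨i, rfl⟩ := mem_zpowers_iff.1 hy
      exact (Commute.zpow_left (show Commute x g from hc) i).eq⟩
    rwa [h.fix_le hQG, mem_bot] at h1
  have hc := commute_of_primePower hp hp2 hq.out hpq hqK hpK _ (extend K (modRep hP)) Q x n rfl
    ⟨hQ, hxQ, hord ▸ pow_orderOf_eq_one x, hn,
      (noFixed_modRep hP hrA (h.fix_le (pCoreIn_le r G))).extend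
        (natCast_ne_zero_of_coprime K hr.out hrA), hfixQ⟩ s hs
  set c := ⁅x ^ p ^ (n - 1), s⁆
  have hmem : c ∈ Q := mul_mem (conj_mem_of_mem_normalizer (pow_mem hxQ _) hs) (inv_mem hs)
  have hfix : modRep hP c = 1 := by
    rw [← map_one (modRep hP)]
    refine (extend_eq_iff K _ _ _).1 ?_
    rw [map_one]
    exact map_commutator_eq_one _ hc
  have hbot := commutator_eq_bot_of_le_frattiniIn (S := zpowers c) hP
    (by rw [Subgroup.normalizer_eq_top]; exact le_top)
    (by
      obtain ⟨k, hk⟩ := IsPGroup.iff_card.1 hQ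
      exact (((Nat.coprime_primes hq.out hr.out).2 hrq.symm).pow_left k).coprime_dvd_left
        (hk ▸ card_dvd_of_le (Subgroup.zpowers_le.2 hmem)))
    (fun g hg u hu => by
      obtain ⟨i, rfl⟩ := mem_powers_iff_mem_zpowers.2 hg
      refine (modRep_fix_iff hP _ hu).1 ?_
      show modRep hP (c ^ i) _ = _
      rw [map_pow, hfix, one_pow, Module.End.one_apply])
  intro u hu
  exact (commutatorElement_eq_one_iff_commute.1
    (mem_bot.1 (hbot ▸ commutator_mem_commutator hu (mem_zpowers c)))).symm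

/-- The power of period `p` centralises `G / F(G)`. -/
theorem FpfAction.commutator_mem_fitting_primePower {G : Subgroup X} {x : X} {p n : ℕ} (hp : p.Prime)
    (hp2 : p ≠ 2) (hn : 1 ≤ n) (hord : orderOf x = p ^ n) (h : FpfAction (zpowers x) G) [hGn : G.Normal] :
    ∀ g ∈ G, ⁅g, x ^ p ^ (n - 1)⁆ ∈ fittingIn G := by
  set x₀ := x ^ p ^ (n - 1)
  set F := fittingIn G
  set mk := QuotientGroup.mk' F
  set Gb := G.map mk
  have : Gb.Normal := Subgroup.Normal.map inferInstance _ (QuotientGroup.mk'_surjective _)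
  have : Group.IsSolvable Gb := Coprime.isSolvable_map mk h.solvable
  have hFG : F ≤ G := fittingIn_le G
  have hcores : ∀ q : Nat.Primes, ∀ t ∈ pCoreIn (q : ℕ) Gb, Commute (mk x₀) t := by
    intro q t ht
    have := Fact.mk q.2
    set T := (pCoreIn (q : ℕ) Gb).comap mk with hT
    have hTG : T ≤ G := fun y hy => by
      obtain ⟨g, hg, hgy⟩ := pCoreIn_le (q : ℕ) Gb hy
      have h1 := hFG (QuotientGroup.eq.1 hgy)
      exact (Subgroup.mul_mem_cancel_left G (inv_mem hg)).1 h1
    have hFT : F ≤ T := fun y hy => by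
      show mk y ∈ pCoreIn (q : ℕ) Gb
      rw [show mk y = 1 from (QuotientGroup.eq_one_iff y).2 hy]; exact one_mem _
    have hTn : T.Normal := inferInstance
    have hTpow : ∀ y ∈ T, ∃ k : ℕ, y ^ (q : ℕ) ^ k ∈ F := fun y hy => by
      obtain ⟨k, hk⟩ := pCoreIn_isPGroup (q : ℕ) Gb ⟨mk y, hy⟩
      refine ⟨k, (QuotientGroup.eq_one_iff _).1 ?_⟩
      show mk (y ^ (q : ℕ) ^ k) = 1
      rw [map_pow]; exact congrArg Subtype.val hk
    obtain ⟨SQ, hSQ⟩ := Coprime.exists_invariant_sylow
      (show zpowers x ≤ normalizer (T : Set X) by rw [Subgroup.normalizer_eq_top]; exact le_top)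
      (h.coprime_le hTG) (Or.inr (Coprime.isSolvable_of_le h.solvable hTG)) (q : ℕ)
    set Q := (SQ : Subgroup T).map T.subtype
    have hQT : Q ≤ T := Subgroup.map_subtype_le _
    have hsup : Q ⊔ F = T := sylow_sup_eq hFT (by rw [Subgroup.normalizer_eq_top]; exact le_top) hTpow SQ
    obtain ⟨y, hy⟩ := QuotientGroup.mk'_surjective F t
    have hyT : y ∈ T := by
      show mk y ∈ pCoreIn (q : ℕ) Gb
      rw [show mk y = t from hy]; exact ht
    obtain ⟨s, hs, f, hf, hsf⟩ := Subgroup.mem_sup_of_normal_right.1 (hsup.ge hyT)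
    have hxQ := hSQ (mem_zpowers x)
    have hcT : ⁅x₀, s⁆ ∈ T :=
      hQT (mul_mem (conj_mem_of_mem_normalizer (pow_mem hxQ _) hs) (inv_mem hs))
    have hcF : ⁅x₀, s⁆ ∈ F := mem_fittingIn_of_centralizes hTG hTpow hcT fun r hr hrq => by
      have := Fact.mk hr
      exact h.commute_core_primePower hp hp2 hn hord hrq (hQT.trans hTG) (SQ.2.map _) hxQ hs
    have hts : t = mk s := by
      rw [← hy, ← hsf, map_mul, show mk f = 1 from (QuotientGroup.eq_one_iff f).2 hf, mul_one]
    rw [hts, ← commutatorElement_eq_one_iff_commute, ← map_commutatorElement]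
    exact (QuotientGroup.eq_one_iff _).2 hcF
  -- it centralises the Fitting subgroup of the quotient, hence the quotient
  set B := zpowers (mk x₀)
  have hBF : ⁅fittingIn Gb, B⁆ = ⊥ := by
    refine commutator_eq_bot_iff_le_centralizer.2 ?_
    show (Cfsg.fittingSubgroup Gb).map Gb.subtype ≤ _
    rw [Solvable.fittingSubgroup_eq_iSup_pCore, Subgroup.map_iSup]
    refine iSup_le fun q t ht => mem_centralizer_iff.2 fun b hb => ?_
    obtain ⟨i, rfl⟩ := mem_zpowers_iff.1 hb
    exact ((hcores q t ht).zpow_left i).eq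
  have hBn : B ≤ normalizer (Gb : Set (X ⧸ F)) := by rw [Subgroup.normalizer_eq_top]; exact le_top
  have h1 : ⁅⁅Gb, B⁆, fittingIn Gb⁆ = ⊥ := by
    refine commutator_commutator_eq_bot_of_rotate ?_ ?_
    · rw [commutator_comm B, hBF, commutator_bot_left]
    · exact le_bot_iff.1 ((commutator_mono (le_normalizer_iff_commutator_le_left.1
        (by rw [Subgroup.normalizer_eq_top]; exact le_top)) le_rfl).trans hBF.le)
  have h2 : ⁅Gb, B⁆ ≤ fittingIn Gb := fun g hg => by
    have hgG : g ∈ Gb := le_normalizer_iff_commutator_le_left.1 hBn hg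
    refine ⟨⟨g, hgG⟩, Solvable.centralizer_fittingSubgroup_le (mem_centralizer_iff.2 fun u hu => Subtype.ext ?_), rfl⟩
    exact mem_centralizer_iff.1 (commutator_eq_bot_iff_le_centralizer.1 h1 hg) u ⟨u, hu, rfl⟩
  have hcop : (Nat.card B).Coprime (Nat.card Gb) := by
    refine Nat.Coprime.coprime_dvd_right (Subgroup.card_map_dvd G mk) (h.coprime.coprime_dvd_left ?_)
    rw [show B = (zpowers x₀).map mk from (MonoidHom.map_zpowers mk x₀).symm]
    exact (Subgroup.card_map_dvd _ mk).trans
      (card_dvd_of_le (zpowers_le.2 (pow_mem (mem_zpowers x) _)))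
  have h3 := Coprime.commutator_eq_bot_of_commutator_commutator hBn hcop
    (Or.inr inferInstance) (le_bot_iff.1 ((commutator_mono h2 le_rfl).trans hBF.le))
  intro g hg
  refine (QuotientGroup.eq_one_iff _).1 ?_
  show mk ⁅g, x₀⁆ = 1
  rw [map_commutatorElement]
  exact mem_bot.1 (h3 ▸ commutator_mem_commutator (mem_map_of_mem mk hg) (mem_zpowers _))

end CfsgLib.FixedFree
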