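import Cfsg.Agent.Lib.FixedFree.CenterRep

/-!
# The critical bound in the prime-order configuration
-/

set_option autoImplicit false

namespace CfsgLib.FixedFree

open Module Subgroup CfsgLib.HallHigman
open scoped commutatorElement

universe u v w

variable {K : Type v} [Field K] {V : Type w} [AddCommGroup V] [Module K V] {G : Type u} [Group G]
  [Finite G] {ρ : Representation K G V} {a : G} {T R : Subgroup G} {p q r : ℕ}

/-- The configuration with an irreducible faithful representation where `a` fixes nothing. -/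
structure PrimeRep (ρ : Representation K G V) (a : G) (T R : Subgroup G) (p q r : ℕ) : Prop where
  config : PrimeConfig a T R p q r
  injective : Function.Injective ρ
  noFixed : NoFixed ρ (zpowers a)
  irreducible : ∀ W : Submodule K V, (∀ g ∈ T, ∀ w ∈ W, ρ g w ∈ W) → (∀ g ∈ R, ∀ w ∈ W, ρ g w ∈ W) →
    (∀ w ∈ W, ρ a w ∈ W) → W = ⊥ ∨ W = ⊤

variable [IsAlgClosed K] [FiniteDimensional K V] [Nontrivial V]

theorem PrimeRep.scalar (h : PrimeRep ρ a T R p q r) {z : G} (hz : z ∈ centerIn T) :
    ∃ c : K, ρ z = c • (1 : Module.End K V) := by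
  obtain ⟨c, hc⟩ := Module.End.exists_eigenvalue (ρ z)
  refine ⟨c, LinearMap.ext fun w => ?_⟩
  have hinv : ∀ g, Commute g z → ∀ w ∈ Module.End.eigenspace (ρ z) c,
      ρ g w ∈ Module.End.eigenspace (ρ z) c := fun g hg w hw => by
    rw [Module.End.mem_eigenspace_iff] at hw ⊢
    rw [← rep_self_mul_apply, ← hg.eq, rep_self_mul_apply, hw, map_smul]
  obtain ⟨h1, h2⟩ := h.config.fix_center hz
  have htop := (h.irreducible _ (fun g hg => hinv g ((mem_centerIn.1 hz).2 g hg))
    (fun g hg => hinv g (h2 g hg)) (hinv a h1)).resolve_left hc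
  exact Module.End.mem_eigenspace_iff.1 (htop ▸ Submodule.mem_top)

/-- A non-abelian part of `T` whose central elements are central in `T` is critical. -/
theorem PrimeRep.scalarQ (h : PrimeRep ρ a T R p q r) {U : Subgroup G} (hU : U ≤ T)
    (hcen : ∀ z ∈ U, (∀ u ∈ U, Commute u z) → z ∈ centerIn T) (hna : ¬ U ≤ centerIn T) :
    ScalarQ ρ U q where
  isPGroup := h.config.isPGroup.to_le hU
  classTwo g g' := Subgroup.mem_center_iff.2 fun t => Subtype.ext
    (h.config.classTwo _ (commutator_mem_commutator (hU g.2) (hU g'.2)) t (hU t.2))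
  scalar z hz := h.scalar (hcen z z.2 fun u hu =>
    congrArg Subtype.val (Subgroup.mem_center_iff.1 hz ⟨u, hu⟩))
  faithful s hs := Subtype.ext (h.injective (by rw [hs, OneMemClass.coe_one, map_one]))
  nonabelian e := hna fun z hz => hcen z hz fun u hu =>
    congrArg Subtype.val (Subgroup.mem_center_iff.1 (e ▸ Subgroup.mem_top _ : (⟨z, hz⟩ : U) ∈ center U) ⟨u, hu⟩)

theorem PrimeRep.deg_restrict_lt (h : PrimeRep ρ a T R p q r) (W : Submodule K V)
    (hW : ∀ w ∈ W, ρ a w ∈ W) : deg ((ρ a).restrict hW) < p :=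
  lt_of_le_of_lt (deg_restrict_le hW) (deg_lt_of_noFixed h.config.hp.pos h.config.pow_eq h.noFixed)

/-- The part of `T` moved by `a` is critical: `p = q ^ b + 1` and it has order `q ^ (2b)` modulo its
centre. -/
theorem PrimeRep.exists_bound (h : PrimeRep ρ a T R p q r) :
    ∃ b : ℕ, 1 ≤ b ∧ p = q ^ b + 1 ∧
      Nat.card (↥⁅T, zpowers a⁆ ⧸ center ↥⁅T, zpowers a⁆) = q ^ b * q ^ b ∧
      ∀ z ∈ ⁅T, zpowers a⁆, (∀ u ∈ ⁅T, zpowers a⁆, Commute u z) → z ∈ centerIn T := by
  have hc := h.config
  have := hc.normal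
  have := Fact.mk hc.hq
  set M := ⁅T, zpowers a⁆ with hM
  have hMT : M ≤ T := le_normalizer_iff_commutator_le_left.1 (hc.le_normalizer _)
  have hA : (Nat.card (zpowers a)).Coprime (Nat.card T) := by
    obtain ⟨k, hk⟩ := IsPGroup.iff_card.1 hc.isPGroup
    rw [hk, Nat.card_zpowers]
    exact (((Nat.coprime_primes hc.hp hc.hq).2 hc.hpq).pow_right k).coprime_dvd_left
      (orderOf_dvd_of_pow_eq_one hc.pow_eq)
  have hsol := hc.solvableT
  have hfixD : ∀ g ∈ zpowers a, ∀ u ∈ ⁅T, T⁆, Commute g u := by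
    intro g hg u hu
    obtain ⟨i, rfl⟩ := mem_zpowers_iff.1 hg
    exact ((hc.fix_center (mem_centerIn.2 ⟨le_normalizer_iff_commutator_le_left.1 (hc.le_normalizer T) hu,
      hc.classTwo u hu⟩)).1).zpow_left i
  -- what `a` fixes centralises `M`
  have hCM : ∀ c ∈ T, Commute a c → ∀ m ∈ M, Commute m c := fun c hcT hac =>
    hc.commute_moved hfixD hcT fun g hg => by
      obtain ⟨i, rfl⟩ := mem_zpowers_iff.1 hg
      exact hac.zpow_left i
  have hcen : ∀ z ∈ M, (∀ u ∈ M, Commute u z) → z ∈ centerIn T := by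
    intro z hz hzc
    refine mem_centerIn.2 ⟨hMT hz, fun t ht => ?_⟩
    obtain ⟨n, hn, c, hcc, rfl⟩ := Coprime.exists_mul_eq' (hc.le_normalizer _) hA (Or.inr hsol) ht
    exact (hzc n hn).mul_left
      (hCM c hcc.1 (mem_centralizer_iff.1 hcc.2 a (mem_zpowers a)) z hz).symm
  have hna : ¬ M ≤ centerIn T := fun hle => by
    have h0 : ⁅M, zpowers a⁆ = ⊥ := commutator_eq_bot_iff_le_centralizer.2 fun z hz =>
      mem_centralizer_iff.2 fun g hg => by
        obtain ⟨i, rfl⟩ := mem_zpowers_iff.1 hg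
        exact ((hc.fix_center (hle hz)).1).zpow_left i
    have h1 := Coprime.commutator_eq_bot_of_commutator_commutator (hc.le_normalizer _) hA
      (Or.inr hsol) h0
    obtain ⟨t, ht, hta⟩ := hc.exists_moved_by_a
    exact hta (commutatorElement_eq_one_iff_commute.1
      (Subgroup.mem_bot.1 (h1 ▸ commutator_mem_commutator ht (mem_zpowers a)))).symm
  have hQ := h.scalarQ hMT hcen hna
  have haM : a ∈ normalizer (M : Set G) := normalizer_commutator_ge_right T _ (mem_zpowers a)
  have hfree : ∀ (s : M) (i : ℕ), 0 < i → i < p →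
      (∀ t ∈ M, Commute t ((s : G)⁻¹ * (a ^ i * s * (a ^ i)⁻¹))) → s ∈ center M := by
    intro s i hi hip hs
    -- fixed cosets
    have hsT : (s : G) ∈ T := hMT s.2
    let S : Subgroup G :=
      { carrier := {g | cenRep hc g (cenVec hc s hsT) = cenVec hc s hsT}
        one_mem' := by simp
        mul_mem' := fun {x y} hx hy => by
          show cenRep hc (x * y) _ = _
          rw [rep_self_mul_apply, show cenRep hc y _ = _ from hy, show cenRep hc x _ = _ from hx]
        inv_mem' := fun {x} hx => by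
          show cenRep hc x⁻¹ _ = _
          conv_lhs => rw [← show cenRep hc x _ = cenVec hc s hsT from hx]
          exact rep_inv_apply_self _ x _ }
    have hiS : a ^ i ∈ S := by
      show cenRep hc _ _ = _
      have hmem : (s : G)⁻¹ * (a ^ i * s * (a ^ i)⁻¹) ∈ M :=
        mul_mem (inv_mem s.2) (conj_mem_of_mem_normalizer (pow_mem haM i) s.2)
      rw [cenRep_fix_iff, commutatorElement_def]
      have h2 := (centerIn_normal T).conj_mem _ (hcen _ hmem hs) (s : G)
      convert h2 using 1
      group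
    have haS : a ∈ S := by
      have h2 := Subgroup.zpowers_le.2 hiS
        (pow_mem_zpowers_of_pos_lt (n := 1) hc.hp (by rw [pow_one]; exact hc.pow_eq) hi (by rw [pow_one]; exact hip))
      simpa using h2
    obtain ⟨z, hz, hzc⟩ := exists_commute_of_fixed hc (S := zpowers a)
      (by rw [Nat.card_zpowers]
          exact ((Nat.coprime_primes hc.hp hc.hq).2 hc.hpq).coprime_dvd_left (orderOf_dvd_of_pow_eq_one hc.pow_eq))
      hsT (fun g hg => Subgroup.zpowers_le.2 haS hg)
    refine Subgroup.mem_center_iff.2 fun u => Subtype.ext ?_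
    show (u : G) * s = s * u
    have h4 := hCM ((s : G) * z) (mul_mem hsT (centerIn_le T hz))
      (mem_centralizer_iff.1 hzc a (mem_zpowers a)) u u.2
    have h5 : Commute (u : G) z⁻¹ := ((mem_centerIn.1 hz).2 u (hMT u.2)).inv_right
    have h6 := h4.mul_right h5
    rwa [mul_inv_cancel_right] at h6
  obtain ⟨b, hb, hpb, hcard⟩ := hQ.deg_bound haM hc.hp.one_lt
    (fun s _ => by rw [hc.pow_eq]; exact Commute.one_left s) hfree
    (fun W hW _ _ => h.deg_restrict_lt W hW)
  exact ⟨b, hb, hpb, hcard, hcen⟩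

/-- `T / Z(T)` has square order. -/
theorem PrimeRep.exists_square (h : PrimeRep ρ a T R p q r) :
    ∃ d, Nat.card (T ⧸ center T) = d * d :=
  (h.scalarQ le_rfl (fun _ hz hc => mem_centerIn.2 ⟨hz, hc⟩) fun hle =>
    h.config.centerIn_ne (le_antisymm (centerIn_le T) hle)).exists_square

end CfsgLib.FixedFree
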